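import Cfsg.Agent.OddHalf.CoverAlt
import Cfsg.Agent.HZ.L.SL.Defs_m3
import Cfsg.Agent.LV.Blk.Gen_m3
import Cfsg.Agent.BZ.Lab.Uf
import Cfsg.Agent.HZ.Gen.Blk_m3
import Cfsg.Agent.HZ.Gen.Sep_m3
import Cfsg.Agent.H646.RegInner
import Cfsg.Agent.S0968
import Cfsg.Agent.S0969
import Cfsg.Agent.LV.Cl.Em
import Cfsg.Agent.HZ.L.Iso.Main_m3
import Cfsg.Agent.H677.CodPrime
import Cfsg.Agent.Lib.MinNormal
import Cfsg.Agent.ODD.C2.Desc
import Cfsg.Agent.TAB.Eng.Fin
import Cfsg.Agent.HZ.L.X.FrB_m3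
import Cfsg.Agent.HZ.L.X.Bas
import Cfsg.Agent.HZ.L.RegT.Main_m3
import Cfsg.Agent.LV.Sm.Gen_m3
import Cfsg.Agent.FastGrp
import Cfsg.Agent.Prune
set_option linter.all false

section
prune_inst 0x7fbcb8f8afa88ddfdfff7e3ffed0dffa0084cfffe6def94bffe9619f0f9f23230dc52b850de010ff8ed760b410387803fb7eceffe86bdc7ffffd5ff41ffbee1fe5f63108519084240fbc2fff03f17f8a6f3fffffffffdffffffffffffffffffffffffbfeffff

-- part: HZ/Alt/Grp
section
prune_inst 0x20000000000000000000000004010000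
set_option linter.all false
open scoped Cfsg.Agent.FastGrp

/-!
# S4909, covers of the alternating groups: quaternion subgroups in centralizers of elements of odd order (helper19)
-/

set_option autoImplicit false

namespace Cfsg.Agent.HZ.Alt

open Subgroup Equiv
open Cfsg.Agent.SporRec.TwoAn (Cover)

section perm

variable {α : Type*} [Fintype α] [DecidableEq α]

/-- four orbits of `c` which are permuted by `w` -/
theorem exists_four {c w : Perm α} (hc : Odd (orderOf c)) (h : Commute w c) (h4 : w ^ 4 = 1) (h2 : w ^ 2 ≠ 1) :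
    ∃ (φ : Perm (Fin 4) →* Perm α) (m : ℕ), Odd m ∧ (∀ σ, c * φ σ = φ σ * c) ∧
      ∀ σ : Perm (Fin 4), (∀ k, σ k ≠ k) → (φ σ).support.card = 4 * m := by
  classical
  obtain ⟨p, hp⟩ : ∃ p, (w ^ 2) p ≠ p := by
    by_contra h1
    push Not at h1
    exact h2 (Equiv.ext h1)
  let O := MulAction.orbit (zpowers c) p
  have hcm : ∀ (j : ℕ) (g : zpowers c) (x : α), (w ^ j) (g • x) = g • (w ^ j) x := by
    rintro j ⟨_, i, rfl⟩ x
    exact congrArg (fun f : Perm α => f x) ((h.pow_left j).zpow_right i).eq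
  have hO : ∀ (g : zpowers c), ∀ x ∈ O, g • x ∈ O := fun g x hx => MulAction.mapsTo_smul_orbit g p hx
  have h1 : ∀ (j : ℕ), ∀ x ∈ O, (w ^ j) x ∈ O → (w ^ j) p ∈ O := by
    rintro j _ ⟨g, rfl⟩ hx
    have h3 := hO g⁻¹ _ hx
    rwa [hcm, inv_smul_smul] at h3
  have h3 : (w ^ 2) p ∉ O := by
    rintro ⟨g, hg⟩
    have h5 : ∀ j : ℕ, ((w ^ 2) ^ j) p = g ^ j • p := fun j => by
      induction j with
      | zero => simp
      | succ j ih => rw [pow_succ', Perm.mul_apply, ih, hcm, ← hg, smul_smul, pow_succ]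
    obtain ⟨k, hk⟩ := hc
    have h6 := h5 (2 * k + 1)
    rw [pow_succ, pow_mul, ← pow_mul w 2 2, h4, one_pow, one_mul, ← hk, ← Nat.card_zpowers, pow_card_eq_one',
      one_smul] at h6
    exact hp h6
  have h5 : ∀ (j : ℕ), ∀ x ∈ O, (w ^ j) x ∈ O → j % 4 = 0 := fun j x hx hj => by
    have h6 := h1 j x hx hj
    have h7 : (w ^ (j + j)) p ∈ O := by
      obtain ⟨g, hg⟩ := h6
      rw [pow_add, Perm.mul_apply, ← hg, hcm, ← hg]
      exact hO g _ ⟨g, rfl⟩
    rw [pow_eq_pow_mod _ h4] at h6 h7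
    by_contra h8
    rcases (by omega : j % 4 = 2 ∨ (j + j) % 4 = 2) with e | e
    · exact h3 (e ▸ h6)
    · exact h3 (e ▸ h7)
  let e : Fin 4 × O ↪ α := ⟨fun x => (w ^ (x.1 : ℕ)) x.2, by
    rintro ⟨k, x⟩ ⟨l, x'⟩ hx
    have h6 : (w ^ (k : ℕ)) x = (w ^ (l : ℕ)) x' := hx
    have h7 := h5 (4 - l + k) x x.2 (by
      rw [pow_add, Perm.mul_apply, h6, ← Perm.mul_apply, ← pow_add, Nat.sub_add_cancel l.2.le, h4]
      exact x'.2)
    obtain rfl : k = l := Fin.ext (by omega)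
    rw [Subtype.ext ((w ^ (k : ℕ)).injective h6)]⟩
  have he : ∀ (g : zpowers c) (k : Fin 4) (x : O), g • e (k, x) = e (k, ⟨g • x, hO g _ x.2⟩) :=
    fun g k x => (hcm k g x).symm
  let ψ : Perm (Fin 4) →* Perm (Fin 4 × O) := MonoidHom.mk' (fun σ => σ.prodCongr (Equiv.refl O)) fun _ _ => rfl
  let φ := (Perm.viaEmbeddingHom e).comp ψ
  have h6 : ∀ σ k x, φ σ (e (k, x)) = e (σ k, x) := fun σ k x => Perm.viaEmbedding_apply _ e (k, x)
  have h7 : ∀ σ, ∀ x ∉ Set.range e, φ σ x = x := fun σ x hx => Perm.viaEmbedding_apply_of_notMem _ e x hx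
  refine ⟨φ, Nat.card O, hc.of_dvd_nat ?_, fun σ => Equiv.ext fun x => ?_, fun σ hσ => ?_⟩
  · rw [← Nat.card_zpowers, Nat.card_congr (MulAction.orbitEquivQuotientStabilizer _ p)]
    exact card_quotient_dvd_card _
  · show (⟨c, mem_zpowers c⟩ : zpowers c) • φ σ x = φ σ ((⟨c, mem_zpowers c⟩ : zpowers c) • x)
    by_cases hx : x ∈ Set.range e
    · obtain ⟨⟨k, x⟩, rfl⟩ := hx
      rw [h6, he, he, h6]
    · rw [h7 σ x hx, h7]
      rintro ⟨⟨k, y⟩, hy⟩
      exact hx ⟨_, by rw [← he (⟨c, mem_zpowers c⟩ : zpowers c)⁻¹ k y, hy, inv_smul_smul]⟩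
  · have h8 : (φ σ).support = Finset.univ.map e := by
      ext x
      rw [Perm.mem_support, Finset.mem_map]
      refine ⟨fun hx => ?_, ?_⟩
      · by_contra h9
        exact hx (h7 σ x fun ⟨y, hy⟩ => h9 ⟨y, Finset.mem_univ y, hy⟩)
      · rintro ⟨⟨k, x⟩, -, rfl⟩ h9
        rw [h6] at h9
        exact hσ k (congrArg Prod.fst (e.injective h9))
    rw [h8, Finset.card_map, Finset.card_univ, Fintype.card_prod, Fintype.card_fin, Nat.card_eq_fintype_card]

theorem exists_anti {C : Type*} [Group C] (K : Cover α C) {c w : Perm α} (hc : Odd (orderOf c)) (h : Commute w c)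
    (h4 : w ^ 4 = 1) (h2 : w ^ 2 ≠ 1) : ∃ s ∈ alternatingGroup α, ∃ t ∈ alternatingGroup α, c * s = s * c ∧ c * t = t * c ∧
      s * s = 1 ∧ t * t = 1 ∧ s * t = t * s ∧ ∀ a b : C, K.π a = s → K.π b = t → a * b ≠ b * a := by
  obtain ⟨φ, m, hm, h1, h3⟩ := exists_four hc h h4 h2
  obtain ⟨σ, τ, h5, h6, h7, h8, h9, h10⟩ : ∃ σ τ : Perm (Fin 4), σ * σ * (σ * σ) = 1 ∧ τ * τ * (τ * τ) = 1 ∧
      σ * σ * (τ * τ) = τ * τ * (σ * σ) ∧ (∀ k, (σ * σ) k ≠ k) ∧ (∀ k, (τ * τ) k ≠ k) ∧ ∀ k, (σ * σ * (τ * τ)) k ≠ k :=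
    ⟨swap (0 : Fin 4) 1 * swap (1 : Fin 4) 2 * swap (2 : Fin 4) 3, swap (0 : Fin 4) 2 * swap (2 : Fin 4) 1 * swap (1 : Fin 4) 3, by decide⟩
  have h11 : ∀ σ, φ (σ * σ) ∈ alternatingGroup α := fun σ => by
    rw [Perm.mem_alternatingGroup, map_mul, map_mul, Int.units_mul_self]
  have s1 : φ (σ * σ) * φ (σ * σ) = 1 := by rw [← map_mul, h5, map_one]
  have s2 : φ (τ * τ) * φ (τ * τ) = 1 := by rw [← map_mul, h6, map_one]
  have s3 : φ (σ * σ) * φ (τ * τ) = φ (τ * τ) * φ (σ * σ) := by rw [← map_mul, h7, map_mul]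
  refine ⟨_, h11 σ, _, h11 τ, h1 _, h1 _, s1, s2, s3, fun a b ha hb hab => K.z_ne ?_⟩
  have q1 := K.sq_eq (ha ▸ s1) (ha ▸ h3 _ h8)
  have q2 := K.sq_eq (hb ▸ s2) (hb ▸ h3 _ h9)
  have q3 := K.sq_eq (g := a * b) (k := m) (by
    rw [map_mul, ha, hb, Commute.mul_mul_mul_comm s3.symm, s1, s2, mul_one]) (by
    rw [map_mul, ha, hb, ← map_mul, h3 _ h10])
  rw [Commute.mul_mul_mul_comm hab.symm, q1, q2, K.z_pow, if_neg (Nat.not_even_iff_odd.2 hm), K.z_mul_z] at q3
  exact q3.symm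

end perm

variable {X : Type*} [Group X]

theorem comm_of_coprime {a y : X} (h : a * y * a⁻¹ * y⁻¹ ∈ center X) {k l : ℕ} (hk : a ^ k = 1) (hl : y ^ l = 1)
    (hkl : k.Coprime l) : a * y = y * a := by
  obtain ⟨d, hd, e⟩ : ∃ d ∈ center X, a * y = d * y * a := ⟨_, h, by group⟩
  have hc : ∀ x, Commute x d := mem_center_iff.1 hd
  have h1 : ∀ j : ℕ, a ^ j * y = d ^ j * y * a ^ j := fun j => by
    induction j with
    | zero => simp
    | succ j ih =>
      rw [pow_succ', mul_assoc, ih, ← mul_assoc, ← mul_assoc, ((hc a).pow_right j).eq, mul_assoc _ a y, e, pow_succ d]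
      simp only [mul_assoc]
  have h2 : ∀ j : ℕ, a * y ^ j = d ^ j * y ^ j * a := fun j => by
    induction j with
    | zero => simp
    | succ j ih =>
      rw [pow_succ, ← mul_assoc, ih, mul_assoc, e, ← mul_assoc, ← mul_assoc, mul_assoc _ _ d, ((hc y).pow_left j).eq,
        pow_succ d]
      simp only [mul_assoc]
  have h3 := h1 k
  have h4 := h2 l
  rw [hk, one_mul, mul_one, right_eq_mul] at h3
  rw [hl, mul_one, mul_one, right_eq_mul] at h4
  have h5 := pow_gcd_eq_one.2 ⟨h3, h4⟩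
  rw [hkl.gcd_eq_one, pow_one] at h5
  rw [e, h5, one_mul]

theorem exists_order_four {u : X} (k : ℕ) (hk : u ^ 2 ^ k = 1) (h2 : u ^ 2 ≠ 1) : ∃ j : ℕ, (u ^ j) ^ 4 = 1 ∧ (u ^ j) ^ 2 ≠ 1 := by
  induction k generalizing u with
  | zero => exact absurd (by rw [pow_zero, pow_one] at hk; rw [hk, one_pow]) h2
  | succ k ih =>
    by_cases h : (u ^ 2) ^ 2 = 1
    · exact ⟨1, by rw [pow_one, ← h, ← pow_mul], by rwa [pow_one]⟩
    · obtain ⟨j, h3⟩ := ih (by rwa [← pow_mul, ← pow_succ']) h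
      exact ⟨2 * j, by rwa [pow_mul]⟩

/-- **Even covers**: a `2`-element of order at least eight in `C(y)` gives two `2`-elements of `C(y)` with a nontrivial central
commutator. -/
theorem exists_pair [Finite X] {n : ℕ} (hn : 5 ≤ n) (π : X →* alternatingGroup (Fin n)) (hs : Function.Surjective π)
    (hk : π.ker ≤ center X) (hp : commutator X = ⊤) (he : ¬ Odd (Nat.card π.ker)) {y u : X} (hy : Odd (orderOf y)) {k : ℕ}
    (hu : u ^ 2 ^ k = 1) (hc : u * y = y * u) (h4 : u ^ 4 ≠ 1) : ∃ a b : X, (∃ j, a ^ 2 ^ j = 1) ∧ a * y = y * a ∧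
      b * y = y * b ∧ b * a * b⁻¹ * a⁻¹ ∈ center X ∧ b * a ≠ a * b := by
  obtain ⟨e, m, hm, h⟩ := Nat.exists_eq_two_pow_mul_odd (Nat.card_pos (α := X)).ne'
  have hcop : ∀ (j : ℕ) {l : ℕ}, Odd l → (2 ^ j).Coprime l := fun j l hl => (Nat.coprime_two_left.2 hl).pow_left j
  let Z : Subgroup X :=
    { carrier := {z | π z = 1 ∧ z ^ m = 1}
      one_mem' := ⟨map_one π, one_pow m⟩
      mul_mem' := fun {a b} ha hb => ⟨by rw [map_mul, ha.1, hb.1, mul_one], by
        rw [Commute.mul_pow (mem_center_iff.1 (hk hb.1) a), ha.2, hb.2, mul_one]⟩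
      inv_mem' := fun {a} ha => ⟨by rw [map_inv, ha.1, inv_one], by rw [inv_pow, ha.2, inv_one]⟩ }
  have hZ : ∀ z, z ∈ Z ↔ π z = 1 ∧ z ^ m = 1 := fun z => Iff.rfl
  have : Z.Normal := ⟨fun z hz g => by
    rw [mem_center_iff.1 (hk hz.1) g, mul_inv_cancel_right]
    exact hz⟩
  let q := QuotientGroup.mk' Z
  have hq : Function.Surjective q := QuotientGroup.mk'_surjective Z
  have hq1 : ∀ x, q x = 1 ↔ x ∈ Z := QuotientGroup.eq_one_iff
  let ρ : X ⧸ Z →* alternatingGroup (Fin n) := QuotientGroup.lift Z π fun z hz => hz.1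
  have hρ : ∀ x, ρ (q x) = π x := fun _ => rfl
  have hE : OddHalf.CoverAlt.Ext ρ := by
    refine ⟨fun g => (hs g).elim fun x hx => ⟨q x, hx⟩, fun x hx y => ?_, fun x hx => ⟨e, ?_⟩, ?_⟩
    · obtain ⟨x, rfl⟩ := hq x
      obtain ⟨y, rfl⟩ := hq y
      rw [← map_mul, ← map_mul, mem_center_iff.1 (hk hx) y]
    · obtain ⟨x, rfl⟩ := hq x
      rw [← map_pow, hq1, hZ, map_pow, ← hρ, hx, one_pow, ← pow_mul, ← h, pow_card_eq_one']
      exact ⟨rfl, rfl⟩
    · have h2 := map_commutator_eq X q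
      rw [hp, MonoidHom.range_eq_top_of_surjective _ hq, Subgroup.map_top_of_surjective _ hq] at h2
      exact h2.symm
  obtain ⟨z, hz⟩ := hE.isCover hn (by
    have : Fact (Nat.Prime 2) := ⟨Nat.prime_two⟩
    obtain ⟨x, hx⟩ := exists_prime_orderOf_dvd_card' 2 (Nat.not_odd_iff_even.1 he).two_dvd
    refine ⟨q x, fun h1 => hm.not_two_dvd_nat ?_, x.2⟩
    rw [← hx, ← orderOf_coe]
    exact orderOf_dvd_of_pow_eq_one ((hZ _).1 ((hq1 _).1 h1)).2)
  obtain ⟨j, h5, h6⟩ := exists_order_four (u := π u) k (by rw [← map_pow, hu, map_one]) fun h5 => h4 (by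
    have h6 : q (u ^ 4) = 1 := by
      rw [show u ^ 4 = u ^ 2 * u ^ 2 by rw [← pow_add], map_mul]
      rcases (hz.ker (q (u ^ 2))).1 (by rw [hρ, map_pow, h5]) with e | e <;> rw [e]
      exacts [one_mul 1, hz.z_mul]
    have h7 := pow_gcd_eq_one.2 ⟨(by rw [← pow_mul, mul_comm, pow_mul, hu, one_pow] : (u ^ 4) ^ 2 ^ k = 1),
      ((hZ _).1 ((hq1 _).1 h6)).2⟩
    rwa [(hcop k hm).gcd_eq_one, pow_one] at h7)
  let π' := (alternatingGroup (Fin n)).subtype.comp π
  have hπ' : ∀ x, π' x = 1 → x ∈ center X := fun x hx => hk (Subtype.ext hx)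
  obtain ⟨s, hs', t, ht, h7, h8, h9, h10, h11, h12⟩ := exists_anti (SporRec.TwoAn.ofIsCover hn hz) (c := π' y)
    (w := π' u ^ j) (hy.of_dvd_nat (orderOf_map_dvd π' y)) ((Commute.map hc π').pow_left j) (congrArg Subtype.val h5)
    fun h => h6 (Subtype.ext h)
  have h13 : ∀ s ∈ alternatingGroup (Fin n), π' y * s = s * π' y → s * s = 1 →
      ∃ a : X, π' a = s ∧ a ^ 2 ^ e = 1 ∧ a * y = y * a := fun s h1 h2 h3 => by
    obtain ⟨a, ha⟩ := hs ⟨s, h1⟩
    have h14 : π' (a ^ m) = s := by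
      obtain ⟨i, rfl⟩ := hm
      rw [map_pow, show π' a = s from congrArg Subtype.val ha, pow_succ, pow_mul, pow_two, h3, one_pow, one_mul]
    have h15 : (a ^ m) ^ 2 ^ e = 1 := by rw [← pow_mul, mul_comm, ← h, pow_card_eq_one']
    exact ⟨_, h14, h15, comm_of_coprime (hπ' _ (by
      rw [map_mul, map_mul, map_mul, map_inv, map_inv, h14, ← h2]; group)) h15 (pow_orderOf_eq_one y) (hcop e hy)⟩
  obtain ⟨a, a1, a2, a3⟩ := h13 s hs' h7 h9
  obtain ⟨b, b1, -, b3⟩ := h13 t ht h8 h10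
  refine ⟨a, b, ⟨e, a2⟩, a3, b3, hπ' _ ?_, fun h => h12 (q a) (q b) a1 b1 (by rw [← map_mul, ← map_mul, h])⟩
  rw [map_mul, map_mul, map_mul, map_inv, map_inv, a1, b1, ← h11]
  group

end Cfsg.Agent.HZ.Alt
end

-- part: HZ/L/Hz/Star
section
set_option linter.all false

/-!
# HZ / L: height zero and the sum over the elements of odd order (helper83)

`star1` : `χ` has height zero iff `|G| ⟨χ, reg 2 * χ⟩ / χ 1` is a unit; `h0_iff_uf` : the same with `BZ.Lab.uf`.
-/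

set_option autoImplicit false

namespace Cfsg.Agent.HZ.L.Hz

open Cfsg Cfsg.Agent.BZ.Lab Cfsg.Agent.Blocks Cfsg.Agent.LV.Blk

variable {G : Type} [Group G] [Fintype G] {M : Ideal AlgInt} {χ : G → ℂ}

theorem h0_iff_uf (hM : IsPModular 2 M) (hχ : IsIrrCharacter G χ) : H0 M χ ↔ ¬ MemLocalIdeal M (uf 2 χ χ) :=
  have := Local.isPrime_of_isPModular hM
  (h0_iff hM ⟨χ, hχ⟩).symm.trans (boxUf.ht hM (ψ := ⟨χ, hχ⟩) (χ := ⟨χ, hχ⟩) (Basic.sameBlock_refl _)).symm

end Cfsg.Agent.HZ.L.Hz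
end

-- part: HZ/L/T3/Blk2
section
prune_inst 0x4146051005700020000000010d0005f76a20000921068000048e00f06048947220402a920ac8005120820aa4c003d0048110000400208000020000c00011801a098a85284f389810424000f80a003480c00000000020000000000000000000000000000000
set_option linter.all false
open scoped Cfsg.Agent.FastGrp

/-!
# HZ/L/T3: blocks with a central defect group (helper66)
-/

set_option autoImplicit false
set_option linter.unusedSectionVars false

namespace Cfsg.Agent.HZ.L.T3.Blk2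

open Cfsg Subgroup Cfsg.Agent.HZ.Gen Cfsg.Agent.ODD.Red Cfsg.Agent.Characters Cfsg.Agent.Characters.Core Cfsg.Agent.Blocks
  Cfsg.Agent.Blocks.LocalRing Cfsg.Agent.Blocks.PPart Cfsg.Agent.H646.RegInner
open scoped ComplexConjugate

variable {M : Ideal AlgInt} {H : Type} [Group H] [Fintype H] {χ ψ : H → ℂ} {y : H} {S : Subgroup H}

theorem syl (hS : IsPGroup 2 S) (hSy : S ≤ centralizer {y})
    (hs : (Nat.card (centralizer {y})).factorization 2 ≤ (Nat.card S).factorization 2) : Basic.IsSylowCentralizer 2 y S :=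
  (Basic.isSylowCentralizer_iff 2 y S).2 ⟨hS, hSy, fun Q hQ h1 h2 => by
    obtain ⟨a, ha⟩ := IsPGroup.iff_card.1 hQ
    obtain ⟨b, hb⟩ := IsPGroup.iff_card.1 hS
    have h3 := (nu_le_of_dvd Nat.card_pos.ne' (card_dvd_of_le h1)).trans hs
    refine (eq_of_le_of_card_ge h2 ?_).symm
    rw [ha, hb] at h3 ⊢
    rw [Nat.factorization_pow_self Nat.prime_two, Nat.factorization_pow_self Nat.prime_two] at h3
    exact Nat.pow_le_pow_right two_pos h3⟩

/-- defect zero modulo the kernel -/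
theorem van (hM : IsPModular 2 M) (Z : Subgroup H) [Z.Normal] (hψ : IsIrrCharacter H ψ) (hZ : ∀ z ∈ Z, ψ z = ψ 1)
    (h : Z.index.factorization 2 ≤ (charDegree ψ).factorization 2) {g x : H} (hx : IsPPart 2 g x) (hxZ : x ∉ Z) : ψ g = 0 := by
  obtain ⟨β, hβ, e⟩ := exists_quot (QuotientGroup.mk' Z) (QuotientGroup.mk'_surjective Z) hψ (by rwa [QuotientGroup.ker_mk'])
  have h1 : charDegree β = charDegree ψ := charDegree_congr (by rw [← e, map_one])
  rw [← e]
  refine (S0969.result 2 M hM ⊥ IsPGroup.of_bot bot_le ⟨β, hβ⟩ (le_antisymm ?_ ?_)).2 _ _ (part_hom _ hx) ?_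
  · rw [index_bot]
    exact nu_le_of_dvd Nat.card_pos.ne' (CentralProduct.degree_dvd_card hβ (apply_one (isIrr_isCharacter hβ)))
  · rw [index_bot]
    exact h.trans (congrArg (Nat.factorization · 2) h1).ge
  · exact fun e => hxZ ((QuotientGroup.eq_one_iff x).1 e)

/-- a constituent of a constituent -/
theorem inner_trans {A : Type} [Group A] [Fintype A] (κ : H →* A) {α η : A → ℂ} (hα : IsCharacter A α) (hη : IsIrrCharacter A η)
    (hψ : IsCharacter H ψ) (h1 : classInner α η ≠ 0) (h2 : classInner (η ∘ κ) ψ ≠ 0) : classInner (α ∘ κ) ψ ≠ 0 := by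
  have := finite_irr (G := A)
  have := Fintype.ofFinite (IrrCharacter A)
  obtain ⟨m, rfl⟩ := exists_nat_comb hα
  choose n hn using fun ξ : IrrCharacter A => classInner_isNat (isCharacter_comp κ (isIrr_isCharacter ξ.2)) hψ
  have e1 : (∑ ξ : IrrCharacter A, m ξ • (ξ : A → ℂ)) ∘ κ = ∑ ξ : IrrCharacter A, (m ξ : ℂ) • ((ξ : A → ℂ) ∘ κ) := by
    funext g
    simp [Finset.sum_apply]
  rw [classInner_sum_nsmul_irr m ⟨η, hη⟩] at h1
  rw [hn ⟨η, hη⟩] at h2
  rw [e1, classInner_sum_left]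
  simp only [classInner_smul_left, hn]
  have e2 : ∑ ξ, m ξ * n ξ ≠ 0 := fun e => by
    rcases mul_eq_zero.1 (Finset.sum_eq_zero_iff.1 e ⟨η, hη⟩ (Finset.mem_univ _)) with e | e
    exacts [h1 (by rw [e, Nat.cast_zero]), h2 (by rw [e, Nat.cast_zero])]
  exact_mod_cast e2

/-- the characters over a character of defect zero modulo `S` -/
theorem van_ov (hM : IsPModular 2 M) (hψ : IsIrrCharacter H ψ) (hk : ∀ z ∈ S, ψ z = ψ 1)
    (hd : S.index.factorization 2 ≤ (charDegree ψ).factorization 2) {H1 : Type} [Group H1] [Fintype H1] {ι : H →* H1}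
    (hι : Function.Injective ι) [ι.range.Normal] [hn : (S.map ι).Normal] {ψ1 : H1 → ℂ} (hψ1 : IsIrrCharacter H1 ψ1)
    (h : classInner (ψ1 ∘ ι) ψ ≠ 0) {g x : H1} (hx : IsPPart 2 g x) (h1 : x ∈ ι.range) (h2 : x ∉ S.map ι) : ψ1 g = 0 := by
  classical
  let e := (MonoidHom.ofInjective hι).symm
  have k0 : ∀ ξ, classInner (fun n : ι.range => ψ1 n) (ξ ∘ e) = classInner (ψ1 ∘ ι) ξ := fun ξ => by
    rw [← Clifford.classInner_comp_mulEquiv e (ψ1 ∘ ι) ξ]
    exact congrArg (classInner · _) (funext fun n => congrArg ψ1 (MonoidHom.apply_ofInjective_symm hι n).symm)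
  have k1 : ∀ ξ, IsIrrCharacter H ξ → classInner (ψ1 ∘ ι) ξ ≠ 0 → ∀ z ∈ S, ξ z = ψ 1 := fun ξ hξ h3 z hz => by
    obtain ⟨c, hc⟩ := Clifford.exists_conj_of_constituents ι.range hψ1 (isIrr_comp e.toMonoidHom e.surjective hψ)
      (isIrr_comp e.toMonoidHom e.surjective hξ) ((k0 ψ).trans_ne h) ((k0 ξ).trans_ne h3)
    obtain ⟨z', h4, h5⟩ := hn.conj_mem _ (mem_map_of_mem ι hz) c
    have h6 := congrFun hc (e.symm z)
    rw [← hk z' h4]
    refine (congrArg ξ (e.apply_symm_apply z)).symm.trans (h6.trans (congrArg ψ (e.symm.injective ?_)))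
    exact (e.symm_apply_apply _).trans (Subtype.ext h5.symm)
  obtain ⟨g', rfl, hc, hx, hg⟩ := hx
  let A := ι.range ⊔ zpowers g'
  let κ : H →* A := ι.codRestrict A fun z => mem_sup_left ⟨z, rfl⟩
  let x' : A := ⟨x, mem_sup_left h1⟩
  let g'' : A := ⟨g', mem_sup_right (mem_zpowers g')⟩
  have hp : IsPPart 2 (x' * g'') x' := ⟨g'', rfl, Subtype.ext hc, by rwa [orderOf_mk], by rwa [orderOf_mk]⟩
  have := finite_irr (G := A)
  have := Fintype.ofFinite (IrrCharacter A)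
  have := finite_irr (G := H)
  have := Fintype.ofFinite (IrrCharacter H)
  have hα := isCharacter_comp A.subtype (isIrr_isCharacter hψ1)
  refine (congrFun (classFunction_eq_sum (isCharacter_isClassFunction hα)) (x' * g'')).trans ?_
  rw [Finset.sum_apply]
  refine Finset.sum_eq_zero fun η _ => mul_eq_zero.2 (or_iff_not_imp_left.2 fun h3 => ?_)
  obtain ⟨m, hm⟩ := exists_nat_comb (isCharacter_comp κ (isIrr_isCharacter η.2))
  have k2 : ∀ z ∈ S, (η : A → ℂ) (κ z) = (∑ ξ, m ξ : ℕ) * ψ 1 := fun z hz => by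
    refine (congrFun hm z).trans ?_
    rw [Finset.sum_apply, Nat.cast_sum, Finset.sum_mul]
    refine Finset.sum_congr rfl fun ξ _ => ?_
    rw [Pi.smul_apply, nsmul_eq_mul]
    by_cases h4 : m ξ = 0
    · simp [h4]
    · have h5 := inner_trans κ hα η.2 (isIrr_isCharacter ξ.2) h3 (by
        rw [hm, classInner_sum_nsmul_irr]
        exact_mod_cast h4)
      have h6 : (ψ1 ∘ A.subtype) ∘ κ = ψ1 ∘ ι := funext fun _ => rfl
      rw [h6] at h5
      rw [k1 ξ ξ.2 h5 z hz]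
  have k3 := k2 1 S.one_mem
  rw [map_one] at k3
  refine van hM ((S.map ι).subgroupOf A) η.2 (fun z ⟨s, h4, h5⟩ => ?_) ?_ hp h2
  · rw [k3, ← k2 s h4]
    exact congrArg _ (Subtype.ext h5.symm)
  have e1 := relIndex_mul_relIndex (S.map ι) ι.range A (map_le_range _ _) le_sup_left
  have e2 : ¬ 2 ∣ ι.range.relIndex A := fun e2 => hg (by
    rw [relIndex_sup_left] at e2
    exact e2.trans (Nat.card_zpowers g' ▸ relIndex_dvd_card _ _))
  rw [MonoidHom.range_eq_map ι, relIndex_map_map_of_injective _ _ hι, relIndex_top_right, ← MonoidHom.range_eq_map] at e1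
  rw [apply_one (isIrr_isCharacter hψ), ← Nat.cast_mul] at k3
  rw [show ((S.map ι).subgroupOf A).index = _ from e1.symm, Nat.factorization_mul index_ne_zero_of_finite
    (by rintro e; simp [e] at e2), Finsupp.add_apply, Nat.factorization_eq_zero_of_not_dvd e2, add_zero]
  exact hd.trans (nu_le_of_dvd (Basic.charDegree_pos η.2).ne' (charDegree_of k3 ▸ dvd_mul_left _ _))

/-- **a block with a central defect group** -/
theorem main (hM : IsPModular 2 M) (hχ : IsIrrCharacter H χ) (hy : Good M χ y) (hS : IsPGroup 2 S) (hSy : S ≤ centralizer {y})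
    (hs : (Nat.card (centralizer {y})).factorization 2 ≤ (Nat.card S).factorization 2) (hZ : S ≤ center H) :
    ∃ ψ, IsIrrCharacter H ψ ∧ (∀ g, ¬ 2 ∣ orderOf g → ψ g = χ g) ∧ (∀ z ∈ S, ∀ g, ψ (z * g) = ψ g) ∧
      (∀ g u, IsPPart 2 g u → u ∉ S → χ g = 0 ∧ ψ g = 0) ∧
      ∀ (H1 : Type) [Group H1] [Fintype H1] (ι : H →* H1), Function.Injective ι → commutator H1 ≤ ι.range →
        ∀ ψ1, IsIrrCharacter H1 ψ1 → classInner (ψ1 ∘ ι) ψ ≠ 0 →
          ∀ g x u, IsPPart 2 g x → IsConj (ι u) x → u ∉ S → ψ1 g = 0 := by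
  classical
  have := isPrime hM
  have := finite_irr (G := H)
  have := Fintype.ofFinite (IrrCharacter H)
  have h0 := syl hS hSy hs
  have hB := Basic.isPBlock_blockOf (M := M) ⟨χ, hχ⟩
  have hc : ∀ z ∈ S, ∀ g, Commute z g := fun z hz g => (mem_center_iff.1 (hZ hz) g).symm
  obtain ⟨⟨θ, ⟨h1, h2⟩, h3⟩, h4, -⟩ := S0968.result 2 M hM S hS (eq_top_iff.2 fun g _ => mem_sup_right fun z hz => hc z hz g) _ hB
    (hy.defect hM hχ h0)
  have h5 := h4 θ h1 h2
  have h6 := fun z hz => apply_mul_of_ker (isIrr_isCharacter θ.2) (h2 z hz)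
  have h7 := (S0969.result 2 M hM S hS hZ θ h5).2
  have h8 := (S0969.result 2 M hM S hS hZ ⟨χ, hχ⟩ (by
    obtain ⟨Q, hQ⟩ := h0
    rw [S0968.factorization_index 2 y Q S hQ, hy.nu hM hχ])).2
  refine ⟨θ, θ.2, ?_, h6, fun g u a b => ⟨h8 g u a b, h7 g u a b⟩, fun H1 _ _ ι hι hN ψ1 hψ1 h g x u a b c => ?_⟩
  · let φ : H → ℂ := fun g => ∑ s : S, pRegularPart 2 χ (s * g)
    have e1 : IsClassFunction H φ := fun g h => Finset.sum_congr rfl fun s _ => by
      rw [← isClassFunction_pRegularPart (isIrr_isClassFunction hχ) (s * g) h, ← mul_assoc, ← mul_assoc, (hc s s.2 h).eq, ← mul_assoc]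
    have e2 : ∀ g, ¬ 2 ∣ orderOf g → φ g = χ g := fun g hg => by
      refine (Finset.sum_eq_single (1 : S) (fun s _ h => pRegularPart_of_dvd (by_contra fun e => h (Subtype.ext ?_)))
        fun e => absurd (Finset.mem_univ _) e).trans ?_
      · exact isPPart_unique (isPPart_mul (hc s s.2 g) (ord_of_mem hS s.2) hg) (isPPart_of_not_dvd e)
      · rw [OneMemClass.coe_one, one_mul, pRegularPart_of_not_dvd hg]
    have e3 : ∀ ξ : IrrCharacter H, classInner φ ξ ≠ 0 → ξ = θ := fun ξ h => by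
      have e4 := fun a (ha : a ∈ S) => ker_of_inner ξ.2 (hZ ha) (fun g => (Fintype.sum_equiv (Equiv.mulRight (⟨a, ha⟩ : S)) _ _
        fun s => congrArg (pRegularPart 2 χ) (mul_assoc (s : H) a g).symm)) h
      refine h3 ξ ⟨by_contra fun e => h ?_, fun a ha => by rw [← e4 a ha 1, mul_one]⟩
      rw [show φ = ∑ s : S, fun g => pRegularPart 2 χ (s * g) from funext fun g => by rw [Finset.sum_apply],
        classInner_sum_left]
      refine Finset.sum_eq_zero fun s _ => Eq.trans ?_ (classInner_pRegularPart_eq_zero hM hB (Basic.mem_blockOf_self _) e)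
      rw [classInner, classInner, ← Equiv.sum_comp (Equiv.mulLeft (s : H)) fun g => pRegularPart 2 χ g * _]
      exact congrArg _ (Finset.sum_congr rfl fun g _ => by rw [Equiv.coe_mulLeft, e4 s s.2])
    obtain ⟨a, ha⟩ : ∃ a : ℂ, ∀ g, ¬ 2 ∣ orderOf g → χ g = a * (θ : H → ℂ) g := ⟨classInner φ θ, fun g hg => by
      rw [← e2 g hg, congrFun (classFunction_eq_sum e1) g, Finset.sum_apply]
      exact Finset.sum_eq_single θ (fun ξ _ h => mul_eq_zero_of_left (by_contra fun e => h (e3 ξ e)) _)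
        fun e => absurd (Finset.mem_univ _) e⟩
    have e4 : ∀ g, χ g * conj (χ g) = a * conj a * ((θ : H → ℂ) g * conj ((θ : H → ℂ) g)) := fun g => by
      obtain ⟨u, hu⟩ := exists_isPPart 2 g
      by_cases h : u ∈ S
      · obtain ⟨g', rfl, -, -, hg⟩ := hu
        obtain ⟨w, e5, e6⟩ := CharDeep.DegreeBound.exists_omega hχ (hZ h)
        have e7 : w * conj w = 1 := by rw [Complex.mul_conj, Complex.normSq_eq_norm_sq, e5]; simp
        rw [h6 u h, (hc u h g').eq, e6, ha g' hg, map_mul, map_mul]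
        linear_combination (a * conj a * ((θ : H → ℂ) g' * conj ((θ : H → ℂ) g'))) * e7
      · rw [show χ g = 0 from h8 g u hu h, h7 g u hu h, zero_mul, mul_zero]
    have e5 := classInner_irr_self hχ
    have e6 := ha 1 (by simp)
    rw [classInner, Finset.sum_congr rfl fun g _ => e4 g, ← Finset.mul_sum, mul_left_comm, ← classInner,
      classInner_irr_self θ.2, mul_one] at e5
    obtain ⟨n, -, hn⟩ := isIrr_apply_one hχ
    obtain ⟨m, hm0, hm⟩ := isIrr_apply_one θ.2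
    rw [hn, hm] at e6
    have e7 := congrArg conj e6
    rw [map_mul, map_natCast, map_natCast] at e7
    have e8 : n * n = m * m := by
      have : (n : ℂ) * n = m * m := by linear_combination n * e6 + a * m * e7 + m * m * e5
      exact_mod_cast this
    rw [Nat.mul_self_inj.1 e8] at e6
    have e9 : a = 1 := mul_right_cancel₀ (Nat.cast_ne_zero.2 hm0.ne') (e6.symm.trans (one_mul _).symm)
    exact fun g hg => by rw [ha g hg, e9, one_mul]
  · have hn := Normal.of_commutator_le _ hN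
    have h9 : (S.map ι).Normal := ⟨by
      rintro _ ⟨s, e1, rfl⟩ c
      obtain ⟨t, ht⟩ := hn.conj_mem _ ⟨s, rfl⟩ c
      have e2 : t ∈ center H := mem_center_iff.2 fun v => hι (by
        obtain ⟨v', e3⟩ := hn.conj_mem _ ⟨v, rfl⟩ c⁻¹
        have e4 := ((hc s e1 v').map ι).eq
        rw [e3] at e4
        rw [map_mul, map_mul, ht]
        calc _ = c * (c⁻¹ * ι v * c⁻¹⁻¹ * ι s) * c⁻¹ := by group
          _ = _ := by rw [← e4]; group)
      obtain ⟨k, hk⟩ := ord_of_mem hS e1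
      have e3 : IsPGroup 2 (zpowers t) := IsPGroup.of_card (n := k) (by
        rw [Nat.card_zpowers, ← orderOf_injective ι hι, ht, orderOf_conj, orderOf_injective ι hι, hk])
      refine ⟨t, ?_, ht⟩
      rw [← ((Basic.isSylowCentralizer_iff 2 y S).1 h0).2.2 (S ⊔ zpowers t) (sup_p hS e3 (zpowers_le.2 (center_le_centralizer _ e2)))
        (sup_le hSy (zpowers_le.2 (center_le_centralizer _ e2))) le_sup_left]
      exact mem_sup_right (mem_zpowers t)⟩
    obtain ⟨d, rfl⟩ := isConj_iff.1 b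
    refine van_ov hM θ.2 h2 h5.ge hι hψ1 h a (hn.conj_mem _ ⟨u, rfl⟩ d) fun e => c ?_
    obtain ⟨s, e1, e2⟩ := h9.conj_mem _ e d⁻¹
    rwa [← hι (a₂ := u) (e2.trans (by group))]

end Cfsg.Agent.HZ.L.T3.Blk2
end

-- part: HZ/L/XC/Sum
section
prune_inst 0x20000000000000000000000004010000
set_option linter.all false
open scoped Cfsg.Agent.FastGrp

/-!
# HZ/L, exact types: sums over groups of signed permutations as sums over words (helper53)
-/

set_option autoImplicit false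
set_option linter.unusedSectionVars false

namespace Cfsg.Agent.HZ.L.XC

open Finset Equiv Cfsg.Agent.LV.Cl Cfsg.Agent.LV.Cl.Ey

/-- generators -/
abbrev Gn : Type := ℕ × ℕ × Bool

/-- the sign -/
def un (b : Bool) : ℤˣ := cond b (-1) 1

variable (n : ℕ) [NeZero n] (bl : ℕ → ℕ) (sg : ℕ → Bool)

/-- the element of a generator -/
def gn (t : Gn) : SG n := sw (Fin.ofNat n t.1) (Fin.ofNat n t.2.1) (un t.2.2)

/-- the element of a word -/
def ev (w : List Gn) : SG n := (w.map (gn n)).prod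

theorem ev_cons (t : Gn) (w : List Gn) : ev n (t :: w) = gn n t * ev n w := rfl

theorem ev_append (w w' : List Gn) : ev n (w ++ w') = ev n w * ev n w' := by rw [ev, List.map_append, List.prod_append]; rfl

/-- the elements which keep the blocks and fix the points below `m` -/
def HH (m : ℕ) : Finset (SG n) :=
  {u | (∀ j : Fin n, bl (u.π j) = bl j) ∧ (∀ j : Fin n, sg (bl j) = false → u.s j = 1) ∧
    ∀ j : Fin n, (j : ℕ) < m → u.π j = j ∧ u.s j = 1}

/-- the number of later points in the block -/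
def cn (m : ℕ) : ℕ := ∑ j ∈ range n, if m < j ∧ bl j = bl m then 1 else 0

/-- the branches -/
def brs (m : ℕ) : List (ℕ × Gn) :=
  (cond (sg (bl m)) [false, true] [false]).flatMap fun b =>
    (1, m, m, b) :: cond (Nat.beq (cn n bl m) 0) [] [(cn n bl m, m, m + 1, b)]

/-- the words -/
noncomputable def wds (k : ℕ) : ℕ → List (ℕ × List Gn) :=
  Nat.rec (fun _ => [(1, [])])
    (fun _ ih m => (brs n bl sg m).flatMap fun t => (ih (m + 1)).map fun p => (t.1 * p.1, t.2 :: p.2)) k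

/-- the blocks are intervals -/
def IV : Prop := ∀ j < n, ∀ i < j, bl i = bl j → bl (i + 1) = bl i ∧ bl (j - 1) = bl j

/-- not the first point of its block -/
def NF (i : ℕ) : Prop := 0 < i ∧ bl (i - 1) = bl i

variable {n bl sg}

/-- invariance -/
def Iv (bl : ℕ → ℕ) (m : ℕ) (Y : SG n → ℤ) : Prop := ∀ i j : Fin n, m ≤ i → m ≤ j → bl i = bl j → NF bl i → NF bl j →
  ∀ z, Y (sw i j 1 * z * sw i j 1) = Y z

theorem sw_sw (i j : Fin n) (e : ℤˣ) : sw i j e * sw i j e = 1 := by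
  refine SG.ext (swap_mul_self i j) (funext fun x => ?_)
  rw [mul_s, sw_π, sw_s, sw_s, one_s]
  by_cases h1 : x = i
  · simp [h1]
  by_cases h2 : x = j
  · simp [h2]
  · simp [swap_apply_of_ne_of_ne h1 h2, h1, h2]

theorem sw_inv (i j : Fin n) (e : ℤˣ) : (sw i j e)⁻¹ = sw i j e := inv_eq_of_mul_eq_one_right (sw_sw i j e)

theorem mem_HH {m : ℕ} {u : SG n} : u ∈ HH n bl sg m ↔ (∀ j : Fin n, bl (u.π j) = bl j) ∧
    (∀ j : Fin n, sg (bl j) = false → u.s j = 1) ∧ ∀ j : Fin n, (j : ℕ) < m → u.π j = j ∧ u.s j = 1 := by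
  rw [HH, mem_filter, and_iff_right (mem_univ _)]

theorem mul_HH {m : ℕ} {u v : SG n} (hu : u ∈ HH n bl sg m) (hv : v ∈ HH n bl sg m) : u * v ∈ HH n bl sg m := by
  rw [mem_HH] at *
  refine ⟨fun j => (hu.1 _).trans (hv.1 j), fun j hj => ?_, fun j hj => ?_⟩
  · rw [mul_s, hu.2.1 _ (by rwa [hv.1]), hv.2.1 j hj, mul_one]
  · rw [mul_π, mul_s, Perm.mul_apply, (hv.2.2 j hj).1, (hv.2.2 j hj).2, (hu.2.2 j hj).1, (hu.2.2 j hj).2, mul_one]
    exact ⟨rfl, rfl⟩

theorem sw_HH {m : ℕ} {i j : Fin n} {e : ℤˣ} (hi : m ≤ i) (hj : m ≤ j) (h : bl j = bl i) (he : sg (bl i) = false → e = 1) :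
    sw i j e ∈ HH n bl sg m := by
  refine mem_HH.2 ⟨fun x => ?_, fun x hx => ?_, fun x hx => ?_⟩
  · rw [sw_π, swap_apply_def]
    split_ifs with h1 h2
    · rw [h1, h]
    · rw [h2, h]
    · rfl
  · rw [sw_s]
    split_ifs with h1
    · exact he (by rcases h1 with rfl | rfl <;> simp_all)
    · rfl
  · have h1 : x ≠ i := fun e => by omega
    have h2 : x ≠ j := fun e => by omega
    exact ⟨swap_apply_of_ne_of_ne h1 h2, if_neg (by tauto)⟩

theorem HH_succ {m : ℕ} {u : SG n} (h : u ∈ HH n bl sg (m + 1)) : u ∈ HH n bl sg m :=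
  mem_HH.2 ⟨(mem_HH.1 h).1, (mem_HH.1 h).2.1, fun j hj => (mem_HH.1 h).2.2 j (hj.trans m.lt_succ_self)⟩

/-- the cosets -/
theorem sum_step (m : Fin n) (Y : SG n → ℤ) : ∑ u ∈ HH n bl sg m, Y u =
    ∑ e : ℤˣ with sg (bl m) = false → e = 1, ∑ j : Fin n with m ≤ j ∧ bl j = bl m,
      ∑ u ∈ HH n bl sg (m + 1), Y (sw m j e * u) := by
  rw [← sum_product', ← sum_product']
  refine sum_nbij' (fun u => ((u.s m, u.π m), sw m (u.π m) (u.s m) * u)) (fun p => sw m p.1.2 p.1.1 * p.2)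
    (fun u hu => ?_) (fun p hp => ?_) (fun u _ => ?_) (fun p hp => ?_) fun u _ => ?_
  · obtain ⟨h1, h2, h3⟩ := mem_HH.1 hu
    have h4 : m ≤ u.π m := le_of_not_gt fun h => h.ne (u.π.injective (h3 _ h).1)
    obtain ⟨h5, h6, h7⟩ := mem_HH.1 (mul_HH (sw_HH le_rfl h4 (h1 m) (h2 m)) hu)
    refine mem_product.2 ⟨mem_product.2 ⟨mem_filter.2 ⟨mem_univ _, h2 m⟩, mem_filter.2 ⟨mem_univ _, h4, h1 m⟩⟩,
      mem_HH.2 ⟨h5, h6, fun j hj => ?_⟩⟩
    rcases (Nat.lt_succ_iff.1 hj).eq_or_lt with h | h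
    · obtain rfl : j = m := Fin.ext h
      exact ⟨swap_apply_right _ _, by rw [mul_s, sw_s, if_pos (Or.inr rfl), Int.units_mul_self]⟩
    · exact h7 j h
  · simp only [mem_product, mem_filter, mem_univ, true_and] at hp
    exact mul_HH (sw_HH le_rfl hp.1.2.1 hp.1.2.2 hp.1.1) (HH_succ hp.2)
  · simp only [← mul_assoc, sw_sw, one_mul]
  · obtain ⟨h1, h2⟩ := (mem_HH.1 (mem_product.1 hp).2).2.2 m (Nat.lt_succ_self _)
    have h3 : (sw m p.1.2 p.1.1 * p.2).π m = p.1.2 := by rw [mul_π, Perm.mul_apply, h1, sw_π, swap_apply_left]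
    have h4 : (sw m p.1.2 p.1.1 * p.2).s m = p.1.1 := by rw [mul_s, h1, h2, sw_s, if_pos (Or.inl rfl), mul_one]
    simp only [h3, h4, ← mul_assoc, sw_sw, one_mul]
  · simp only [← mul_assoc, sw_sw, one_mul]

theorem cn_eq (m : Fin n) : cn n bl m = #{j : Fin n | m < j ∧ bl j = bl m} := by
  rw [card_filter, cn, ← Fin.sum_univ_eq_sum_range fun j => if (m : ℕ) < j ∧ bl j = bl m then 1 else 0]
  rfl

theorem sum_conj {m : ℕ} {k : SG n} (hk : k ∈ HH n bl sg m) (h2 : k * k = 1) (Y : SG n → ℤ) :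
    ∑ u ∈ HH n bl sg m, Y (k * u * k) = ∑ u ∈ HH n bl sg m, Y u :=
  sum_nbij' (fun u => k * u * k) (fun u => k * u * k) (fun _ h => mul_HH (mul_HH hk h) hk)
    (fun _ h => mul_HH (mul_HH hk h) hk) (fun u _ => by simp only [← mul_assoc, h2, one_mul]; rw [mul_assoc, h2, mul_one])
    (fun u _ => by simp only [← mul_assoc, h2, one_mul]; rw [mul_assoc, h2, mul_one]) fun _ _ => rfl

theorem ofNat_val (m : Fin n) : Fin.ofNat n m = m := Fin.ext (Nat.mod_eq_of_lt m.2)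

theorem sum_brs (hI : IV n bl) (m : Fin n) {Y : SG n → ℤ} (hY : Iv bl (m + 1) Y) : ∑ u ∈ HH n bl sg m, Y u =
    ((brs n bl sg m).map fun t => (t.1 : ℤ) * ∑ u ∈ HH n bl sg (m + 1), Y (gn n t.2 * u)).sum := by
  have h1 : ∀ b, ∑ j : Fin n with m ≤ j ∧ bl j = bl m, ∑ u ∈ HH n bl sg (m + 1), Y (sw m j (un b) * u) =
      (((1, m, m, b) :: cond (Nat.beq (cn n bl m) 0) [] [(cn n bl m, m, m + 1, b)] : List (ℕ × Gn)).map
        fun t => (t.1 : ℤ) * ∑ u ∈ HH n bl sg (m + 1), Y (gn n t.2 * u)).sum := fun b => by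
    have h2 : ({j | m ≤ j ∧ bl j = bl m} : Finset (Fin n)) = insert m ({j | m < j ∧ bl j = bl m} : Finset (Fin n)) := by
      ext j
      simp only [mem_filter, mem_univ, true_and, mem_insert]
      exact ⟨fun h => h.1.eq_or_lt.imp Eq.symm fun e => ⟨e, h.2⟩, fun h => h.elim (fun e => e ▸ ⟨le_rfl, rfl⟩)
        fun h => ⟨h.1.le, h.2⟩⟩
    rw [h2, sum_insert (by simp), List.map_cons, List.sum_cons, Nat.cast_one, one_mul, gn, ofNat_val]
    refine congrArg _ ((sum_congr rfl (g := fun _ => ∑ u ∈ HH n bl sg (m + 1), Y (gn n (m, m + 1, b) * u))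
      fun j hj => ?_).trans ?_)
    · obtain ⟨h3, h4⟩ := (mem_filter.1 hj).2
      obtain ⟨h5, h6⟩ := hI j j.2 m h3 h4.symm
      let i : Fin n := ⟨m + 1, (Nat.succ_le_of_lt h3).trans_lt j.2⟩
      have h7 : m ≠ i := Fin.ne_of_val_ne (Nat.lt_succ_self _).ne
      rw [gn, ofNat_val, show Fin.ofNat n (m + 1) = i from ofNat_val i,
        ← sum_conj (sw_HH (i := i) (e := 1) le_rfl h3 (h4.trans h5.symm) fun _ => rfl) (sw_sw _ _ _)]
      refine sum_congr rfl fun u _ => ?_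
      have h8 := conj_sw (sw i j 1) m j (un b)
      rw [sw_inv, sw_π, swap_apply_right, swap_apply_of_ne_of_ne h7 h3.ne, sw_s, sw_s, ite_self, ite_self, mul_one,
        mul_one] at h8
      rw [← h8, ← hY i j le_rfl h3 (h5.trans h4.symm) ⟨Nat.succ_pos _, h5.symm⟩ ⟨(Nat.zero_le _).trans_lt h3, h6⟩]
      simp only [mul_assoc]
      rw [sw_sw, mul_one]
    · rw [sum_const, ← cn_eq, nsmul_eq_mul]
      rcases h : cn n bl m with _ | c
      · exact zero_mul _
      · exact (add_zero _).symm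
  rw [sum_step, brs]
  cases sg (bl m)
  · rw [show ({e | false = false → e = 1} : Finset ℤˣ) = {1} by decide, sum_singleton]
    exact (h1 false).trans (by simp)
  · rw [show ({e | true = false → e = 1} : Finset ℤˣ) = {1, -1} by decide, sum_pair (by decide)]
    exact (congrArg₂ _ (h1 false) (h1 true)).trans (by simp [add_assoc])

theorem Iv.mul {m : ℕ} {Y : SG n → ℤ} (hY : Iv bl (m + 1) Y) {t : ℕ × Gn} (ht : t ∈ brs n bl sg m) :
    Iv bl (m + 2) fun u => Y (gn n t.2 * u) := fun i j hi hj h1 h2 h3 z => by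
  have h4 : (Fin.ofNat n t.2.1 : ℕ) < m + 2 ∧ (Fin.ofNat n t.2.2.1 : ℕ) < m + 2 := by
    obtain ⟨b, -, h4⟩ := List.mem_flatMap.1 ht
    have h5 : t.2.1 = m ∧ t.2.2.1 ≤ m + 1 := by
      rcases List.mem_cons.1 h4 with rfl | h4
      · exact ⟨rfl, m.le_succ⟩
      · cases h : Nat.beq (cn n bl m) 0 <;> rw [h] at h4
        · obtain rfl := List.mem_singleton.1 h4
          exact ⟨rfl, le_rfl⟩
        · cases h4
    exact ⟨(Nat.mod_le _ _).trans_lt (by omega), (Nat.mod_le _ _).trans_lt (by omega)⟩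
  have h5 := conj_sw (sw i j 1) (Fin.ofNat n t.2.1) (Fin.ofNat n t.2.2.1) (un t.2.2.2)
  rw [sw_inv, sw_π, swap_apply_of_ne_of_ne (Fin.ne_of_val_ne (by omega)) (Fin.ne_of_val_ne (by omega)),
    swap_apply_of_ne_of_ne (Fin.ne_of_val_ne (by omega)) (Fin.ne_of_val_ne (by omega)), sw_s, sw_s, ite_self, ite_self,
    mul_one, mul_one] at h5
  have h6 := hY i j (by omega) (by omega) h1 h2 h3 (gn n t.2 * z)
  beta_reduce
  rw [← h6, gn]
  conv_lhs => rw [← h5]
  simp only [mul_assoc]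
  rw [← mul_assoc (sw i j 1) (sw i j 1), sw_sw, one_mul]

/-- **sums over words** -/
theorem sum_wds (hI : IV n bl) (k m : ℕ) (hk : m + k = n) {Y : SG n → ℤ} (hY : Iv bl (m + 1) Y) :
    ∑ u ∈ HH n bl sg m, Y u = ((wds n bl sg k m).map fun p => (p.1 : ℤ) * Y (ev n p.2)).sum := by
  induction k generalizing m Y with
  | zero =>
    have h1 : HH n bl sg m = {1} := eq_singleton_iff_unique_mem.2 ⟨mem_HH.2 ⟨fun _ => rfl, fun _ _ => rfl, fun _ _ => ⟨rfl, rfl⟩⟩,
      fun u hu => SG.ext (Equiv.ext fun j => ((mem_HH.1 hu).2.2 j (by omega)).1)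
        (funext fun j => ((mem_HH.1 hu).2.2 j (by omega)).2)⟩
    rw [h1, sum_singleton]
    exact (one_mul _).symm.trans (add_zero _).symm
  | succ k ih =>
    rw [sum_brs hI ⟨m, by omega⟩ hY]
    change _ = (List.map _ (List.flatMap _ _)).sum
    rw [List.map_flatMap, List.flatMap, List.sum_flatten, List.map_map]
    refine congrArg _ (List.map_congr_left fun t ht => ?_)
    rw [ih (m + 1) (by omega) (hY.mul ht), Function.comp_apply, List.map_map, ← List.sum_map_mul_left]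
    refine congrArg _ (List.map_congr_left fun p _ => ?_)
    rw [Function.comp_apply, Nat.cast_mul, mul_assoc, ev_cons]

end Cfsg.Agent.HZ.L.XC

private theorem dce_e5840b6ccd37 : _root_.True := by
  try have : _root_.True := by simp only [_root_.Cfsg.Agent.HZ.L.XC.brs.eq_1]
  try have : _root_.True := by simp only [_root_.Cfsg.Agent.HZ.L.XC.cn.eq_1]
  try have : _root_.True := by simp only [_root_.Cfsg.Agent.HZ.L.XC.gn.eq_1]
  try have : _root_.True := by simp only [_root_.Cfsg.Agent.HZ.L.XC.ev.eq_1]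
  try have : _root_.True := by simp only [_root_.Cfsg.Agent.HZ.L.XC.gn.congr_simp]
  try have : _root_.True := by simp only [_root_.Cfsg.Agent.HZ.L.XC.HH.eq_1]
  exact _root_.True.intro
end

-- part: HZ/Red/Main
section
prune_inst 0x4347055017720000000000012d0001f76b2000102106b000009a00f040489870208028721ae10061000e4284c403c004813000070420000000a000400011c018018e8108470810000100006808007400000000000020000000000000000000000000000000
set_option linter.all false
open scoped Cfsg.Agent.FastGrp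

/-!
# HZ, the reduction: the induction and the wording of the statement (helper17)

`AllK M` : `HF` for all quasisimple groups with the induction hypothesis; `hh_of` : `HH` for all finite groups;
`s4909_of_hh` : the statement.
-/

set_option autoImplicit false

namespace Cfsg.Agent.HZ

open Cfsg Subgroup Cfsg.Agent.ODD.Red Cfsg.Agent.Characters Cfsg.Agent.Characters.Core Cfsg.Agent.Blocks

universe u

variable {M : Ideal AlgInt}

/-- the statement for all quasisimple groups -/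
def AllK (M : Ideal AlgInt) : Prop :=
  ∀ (X : Type) [Group X] [Finite X], IsQuasisimple X → IH M (center X).index → HF M X

/-- the kernel of a character -/
def kerOf {G : Type u} [Group G] [Finite G] {χ : G → ℂ} (hχ : IsCharacter G χ) : Subgroup G where
  carrier := {g | χ g = χ 1}
  one_mem' := rfl
  mul_mem' := fun {a b} ha hb => (apply_mul_of_ker hχ ha b).trans hb
  inv_mem' := fun {a} ha => by
    have h := apply_mul_of_ker hχ ha a⁻¹
    rw [mul_inv_cancel] at h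
    exact h.symm

theorem kerOf_normal {G : Type u} [Group G] [Finite G] {χ : G → ℂ} (hχ : IsCharacter G χ) : (kerOf hχ).Normal :=
  ⟨fun n hn g => (isCharacter_isClassFunction hχ n g).trans hn⟩

theorem hh_step (hM : IsPModular 2 M) (hK : AllK M) (G : Type) [Group G] [Finite G] (ih : IH M (center G).index)
    (ih2 : ∀ (L : Type) [Group L] [Finite L], (center L).index ≤ (center G).index → Nat.card L < Nat.card G → HH M L) :
    HH M G := by
  have hpos : 0 < (center G).index := Nat.pos_of_ne_zero index_ne_zero_of_finite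
  have hsub : ∀ S : Subgroup G, S ≠ ⊤ → HH M S := fun S hS =>
    ih2 S (Nat.le_of_dvd hpos ((center_index_dvd le_rfl S).trans (relIndex_dvd_index_of_normal _ _)))
      (lt_of_le_of_ne (card_le_card_group S) fun h => hS (eq_top_of_card_eq S h))
  by_cases hG : commutator G = ⊤
  swap
  · obtain ⟨f, p, hp, h⟩ := H677.CodPrime.exists_hom_prime hG
    exact rat2_prime hM hsub f.ker (h ▸ hp)
  intro χ hχ h0 σ hσ hfix
  rcases subsingleton_or_nontrivial G with h1 | h1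
  · exact rat2_of_odd (by rw [Nat.card_of_subsingleton (1 : G)]; exact odd_one) (isIrr_isCharacter hχ)
  by_cases hs : IsSimpleGroup (G ⧸ center G)
  · by_cases hf : ∀ g, χ g = χ 1 → g = 1
    · exact hK G ⟨⟨hG⟩, hs⟩ ih χ hχ hf h0 σ hσ hfix
    have := kerOf_normal (isIrr_isCharacter hχ)
    set K := kerOf (isIrr_isCharacter hχ)
    have hs := QuotientGroup.mk'_surjective K
    obtain ⟨η, hη, h2⟩ := exists_quot (QuotientGroup.mk' K) hs hχ fun z hz => by
      rw [QuotientGroup.ker_mk'] at hz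
      exact hz
    obtain ⟨y, hy⟩ := h0
    have h3 : (center G).map (QuotientGroup.mk' K) ≤ center (G ⧸ K) := by
      rintro _ ⟨z, hz, rfl⟩
      rw [mem_center_iff]
      intro w
      obtain ⟨x, rfl⟩ := hs w
      rw [← map_mul, ← map_mul, mem_center_iff.1 hz x]
    have h4 : 1 < Nat.card K := (one_lt_card_iff_ne_bot K).2 fun h => hf fun g hg => mem_bot.1 (h ▸ (hg : g ∈ K))
    have h5 := ih2 (G ⧸ K) (Nat.le_of_dvd hpos ((index_dvd_of_le h3).trans (index_map_dvd _ hs))) (by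
      rw [card_eq_card_quotient_mul_card_subgroup K]
      exact (Nat.lt_mul_iff_one_lt_right Nat.card_pos).2 h4) η hη ⟨_, hy.quot hM _ hs hχ hη h2⟩ σ hσ fun w => by
        obtain ⟨x, rfl⟩ := hs w
        rw [h2, hfix]
    exact fun τ hτ g => by rw [← h2, h5 τ hτ]
  · have h2 : Nontrivial (G ⧸ center G) := by
      rw [QuotientGroup.nontrivial_iff]
      intro h
      have h3 : commutator G = ⊥ := by rw [commutator_def, commutator_top_right_eq_bot_iff_le_center, h]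
      exact top_ne_bot (hG.symm.trans h3)
    obtain ⟨N', hN', h3, h4⟩ : ∃ N' : Subgroup (G ⧸ center G), N'.Normal ∧ N' ≠ ⊥ ∧ N' ≠ ⊤ := by
      by_contra! h
      exact hs ⟨fun H hH => or_iff_not_imp_left.2 (h H hH)⟩
    have hs := QuotientGroup.mk'_surjective (center G)
    set N := N'.comap (QuotientGroup.mk' (center G)) with hN
    have h5 : center G < N := by
      refine lt_of_le_of_ne (QuotientGroup.le_comap_mk' _ _) fun h => h3 (comap_injective hs ?_)
      rw [← hN, ← h, MonoidHom.comap_bot, QuotientGroup.ker_mk']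
    have h6 : N ≠ ⊤ := fun h => h4 (comap_injective hs (by rw [← hN, h, comap_top]))
    by_contra hn
    have := Fintype.ofFinite G
    have := Fintype.ofFinite N
    obtain ⟨θ, hθ, hc, -⟩ := OddOrderCharacters.PF9.CliffGen.exists_constituent (le_refl N)
      (θ := fun n : N => χ n) (Clifford.isCharacter_restrict N (isIrr_isCharacter hχ)) fun h =>
        isIrr_apply_one_ne_zero hχ (congrFun (classInner_self_eq_zero h) 1)
    have hinv := homog hM hsub hχ h0 hσ hfix hn N hθ hc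
    obtain ⟨e, he⟩ := exists_restrict N hχ hθ hinv hc
    exact hn (rat2_hat hM hG N h5 h6 ih hχ h0 hσ hfix hθ hinv he)

theorem ih_all (hM : IsPModular 2 M) (hK : AllK M) (n : ℕ) : IH M n := by
  induction n with
  | zero => exact fun _ _ _ h => absurd h (Nat.not_lt_zero _)
  | succ n ih =>
    have key : ∀ (k : ℕ) (L : Type) [Group L] [Finite L], Nat.card L = k → (center L).index < n + 1 → HH M L := by
      intro k
      induction k using Nat.strong_induction_on with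
      | _ k ih2 =>
      intro L _ _ hk h
      exact hh_step hM hK L (fun K _ _ h1 => ih K (by omega)) fun K _ _ h1 h2 => ih2 _ (hk ▸ h2) K rfl (by omega)
    exact fun L _ _ h => key _ L rfl h

/-- **The reduction.** -/
theorem hh_of (hM : IsPModular 2 M) (hK : AllK M) (G : Type u) [Group G] [Finite G] : HH M G := by
  obtain ⟨L, _, ⟨e⟩⟩ := Lib.MinNormal.exists_type_zero_model G
  have : Finite L := Finite.of_equiv G e.symm.toEquiv
  intro χ hχ ⟨y, hy⟩ σ hσ hfix τ hτ g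
  have h1 : IsIrrCharacter L fun x => χ (e x) := isIrr_comp' e.toMonoidHom e.surjective hχ
  have h2 := ih_all hM hK _ L (Nat.lt_succ_self _) _ h1
    ⟨_, hy.quot hM e.symm.toMonoidHom e.symm.surjective hχ h1 fun g => congrArg χ (e.apply_symm_apply g)⟩ σ hσ
    (fun x => hfix _) τ hτ (e.symm g)
  rwa [e.apply_symm_apply] at h2

theorem root_split {a m : ℕ} (hm : Odd m) {z : ℂ} (hz : z ^ (2 ^ a * m) = 1) :
    ∃ u v : ℂ, u ^ 2 ^ a = 1 ∧ v ^ m = 1 ∧ z = u * v := by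
  have hcop : (2 ^ a).Coprime m := Nat.Coprime.pow_left a (Nat.coprime_two_left.2 hm)
  obtain ⟨k, hk1, hk2⟩ := Nat.chineseRemainder hcop 1 0
  obtain ⟨l, hl1, hl2⟩ := Nat.chineseRemainder hcop 0 1
  have h1 : k + l ≡ 1 [MOD 2 ^ a * m] :=
    (Nat.modEq_and_modEq_iff_modEq_mul hcop).1 ⟨by simpa using hk1.add hl1, by simpa using hk2.add hl2⟩
  have h2 : z = z ^ k * z ^ l := by rw [← pow_add, pow_eq_pow_of_modEq h1 hz, pow_one]
  obtain ⟨k', rfl⟩ := Nat.modEq_zero_iff_dvd.1 hk2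
  obtain ⟨l', rfl⟩ := Nat.modEq_zero_iff_dvd.1 hl1
  refine ⟨_, _, ?_, ?_, h2⟩
  · rw [← pow_mul, show m * k' * 2 ^ a = 2 ^ a * m * k' by ring, pow_mul, hz, one_pow]
  · rw [← pow_mul, show 2 ^ a * l' * m = 2 ^ a * m * l' by ring, pow_mul, hz, one_pow]

theorem exists_pow_neg {τ : ℂ ≃+* ℂ} (hI : τ Complex.I = Complex.I) (a : ℕ) :
    ∀ ζ : ℂ, ζ ^ 2 ^ a = 1 → τ ζ ≠ ζ → ∃ j : ℕ, (τ ^ j) ζ = -ζ := by
  induction a with
  | zero =>
    intro ζ h1 h2
    rw [pow_zero, pow_one] at h1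
    exact absurd (by rw [h1, map_one]) h2
  | succ a ih =>
    intro ζ h1 h2
    by_cases h3 : τ (ζ ^ 2) = ζ ^ 2
    · rw [map_pow] at h3
      exact ⟨1, (sq_eq_sq_iff_eq_or_eq_neg.1 h3).resolve_left h2⟩
    · obtain ⟨j, hj⟩ := ih (ζ ^ 2) (by rw [← pow_mul, ← pow_succ', h1]) h3
      have h4 : (τ ^ j) Complex.I = Complex.I :=
        Fix.pow (χ := fun _ : Unit => Complex.I) (fun _ => hI) j ()
      have h5 : ((τ ^ j) ζ) ^ 2 = (Complex.I * ζ) ^ 2 := by
        rw [← map_pow, hj, mul_pow, Complex.I_sq, neg_one_mul]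
      refine ⟨j + j, ?_⟩
      rw [pow_add, RingAut.mul_apply]
      rcases sq_eq_sq_iff_eq_or_eq_neg.1 h5 with h6 | h6
      · rw [h6, map_mul, h4, h6, ← mul_assoc, Complex.I_mul_I, neg_one_mul]
      · rw [h6, map_neg, map_mul, h4, h6, mul_neg, neg_neg, ← mul_assoc, Complex.I_mul_I, neg_one_mul]

/-- **S4909**, the wording of the statement. -/
theorem s4909_of_hh {G : Type u} [Group G] [Finite G] (hM : IsPModular 2 M) (hH : HH M G) (χ : IrrCharacter G)
    (h0 : blockHeight 2 (blockOf M (χ : G → ℂ)) (χ : G → ℂ) = 0) (n : ℕ) (hn : 0 < n)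
    (hin : ∀ g : G, (χ : G → ℂ) g ∈
      IntermediateField.adjoin ℚ ({Complex.exp (2 * Real.pi * Complex.I / (n))} : Set ℂ))
    (hmin : ∀ k : ℕ, 0 < k → (∀ g : G, (χ : G → ℂ) g ∈
      IntermediateField.adjoin ℚ ({Complex.exp (2 * Real.pi * Complex.I / (k))} : Set ℂ)) → n ≤ k) :
    Complex.exp (2 * Real.pi * Complex.I / (2 ^ n.factorization 2)) ∈ IntermediateField.adjoin ℚ
      ({Complex.exp (2 * Real.pi * Complex.I / (n / 2 ^ n.factorization 2))} ∪ Set.range (χ : G → ℂ)) := by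
  obtain ⟨a, m, hm, rfl⟩ := Nat.exists_eq_two_pow_mul_odd hn.ne'
  have ha : (2 ^ a * m).factorization 2 = a := by
    rw [Nat.factorization_mul (pow_ne_zero _ two_ne_zero) hm.pos.ne', Finsupp.add_apply, Nat.prime_two.factorization_pow,
      Finsupp.single_eq_same, Nat.factorization_eq_zero_of_not_dvd hm.not_two_dvd_nat, add_zero]
  have h2a : (2 ^ a : ℕ) ≠ 0 := pow_ne_zero _ two_ne_zero
  have : NeZero (2 ^ a : ℕ) := ⟨h2a⟩
  rw [ha, show ((2 ^ a * m : ℕ) : ℂ) / 2 ^ a = m by push_cast; field_simp,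
    show (2 : ℂ) ^ a = ((2 ^ a : ℕ) : ℂ) by push_cast; rfl]
  have hζ := Complex.isPrimitiveRoot_exp (2 ^ a) h2a
  set ζ := Complex.exp (2 * Real.pi * Complex.I / ((2 ^ a : ℕ) : ℂ))
  have halg := isAlgebraic_char (isIrr_isCharacter χ.2)
  have agree : ∀ s t : ℂ ≃+* ℂ, s ζ = t ζ → (∀ z : ℂ, z ^ m = 1 → s z = z) → (∀ z : ℂ, z ^ m = 1 → t z = z) →
      ∀ g, s ((χ : G → ℂ) g) = t ((χ : G → ℂ) g) := by
    intro s t h1 h2 h3 g
    have h4 := (mem_cyc_iff hn.ne' (halg g)).1 (hin g) (s.trans t.symm) fun z hz => by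
      obtain ⟨u, v, hu, hv, rfl⟩ := root_split hm hz
      obtain ⟨i, -, rfl⟩ := hζ.eq_pow_of_pow_eq_one hu
      rw [RingEquiv.trans_apply, RingEquiv.symm_apply_eq, map_mul, map_mul, map_pow, map_pow, h1, h2 v hv, h3 v hv]
    rwa [RingEquiv.trans_apply, RingEquiv.symm_apply_eq] at h4
  have twoOf : ∀ s : ℂ ≃+* ℂ, ∃ τ, Two τ ∧ τ ζ = s ζ := by
    intro s
    obtain ⟨k, hk, h1⟩ := GaloisBasic.exists_coprime_pow (s : ℂ →+* ℂ) (n := 2 ^ (a + 1)) (pow_ne_zero _ two_ne_zero)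
    obtain ⟨τ, h2, h3⟩ := exists_two_pow a (k := k)
      (Nat.coprime_two_right.1 (hk.coprime_dvd_right (dvd_pow_self 2 (Nat.succ_ne_zero a))))
    refine ⟨τ, h2, ?_⟩
    rw [h3 ζ hζ.pow_eq_one]
    exact (h1 ζ (by rw [pow_succ, pow_mul, hζ.pow_eq_one, one_pow])).symm
  rw [mem_adjoin_iff (isAlgebraic_of_pow_eq_one h2a hζ.pow_eq_one)]
  intro s hs
  have hsm : ∀ z : ℂ, z ^ m = 1 → s z = z := fun z hz =>
    fixed_of_mem_adjoin (fun x hx => hs x (Or.inl hx)) (mem_cyc_of_pow hm.pos.ne' hz)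
  obtain ⟨τ, hτ, h1⟩ := twoOf s
  have hfix : _root_.Cfsg.Agent.ODD.Red.Fix τ (χ : G → ℂ) := fun g =>
    (agree τ s h1 (fun z => hτ m z hm) hsm g).trans (hs _ (Or.inr ⟨g, rfl⟩))
  rw [← h1]
  by_contra h2
  rcases map_I τ with hI | hI
  · obtain ⟨j, hj⟩ := exists_pow_neg hI a ζ hζ.pow_eq_one h2
    obtain rfl | ⟨b, rfl⟩ : a = 0 ∨ ∃ b, a = b + 1 := by cases a <;> simp
    · have h3 := hζ.pow_eq_one
      rw [pow_zero, pow_one] at h3
      exact h2 (by rw [h3, map_one])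
    have h3 : 0 < 2 ^ b * m := mul_pos (pow_pos two_pos _) hm.pos
    have h4 := hmin (2 ^ b * m) h3 fun g => (mem_cyc_iff h3.ne' (halg g)).2 fun t ht => by
      have h5 : ∀ z : ℂ, z ^ m = 1 → t z = z := fun z hz => ht z (by rw [mul_comm, pow_mul, hz, one_pow])
      have h6 := ht (ζ ^ 2) (by rw [pow_mul, ← pow_mul ζ, ← pow_succ', hζ.pow_eq_one, one_pow])
      rw [map_pow] at h6
      rcases sq_eq_sq_iff_eq_or_eq_neg.1 h6 with h7 | h7
      · exact agree t (RingEquiv.refl ℂ) h7 h5 (fun _ _ => rfl) g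
      · exact (agree t (τ ^ j) (h7.trans hj.symm) h5 (fun z => hτ.pow j m z hm) g).trans (hfix.pow j g)
    rw [pow_succ, mul_right_comm] at h4
    omega
  · have h3 := hH _ χ.2 ((h0_iff hM χ).1 h0) τ ⟨hτ, hI⟩ hfix
    have h4 := hmin m hm.pos fun g => (mem_cyc_iff hm.pos.ne' (halg g)).2 fun t ht => by
      obtain ⟨ρ, h5, h6⟩ := twoOf t
      exact (agree t ρ h6.symm ht (fun z => h5 m z hm) g).trans (h3 ρ h5 g)
    have h5 : 2 ^ a = 1 := le_antisymm (Nat.le_of_mul_le_mul_right (by rwa [one_mul]) hm.pos) (Nat.pos_of_ne_zero h2a)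
    have h6 := hζ.pow_eq_one
    rw [h5, pow_one] at h6
    exact h2 (by rw [h6, map_one])

end Cfsg.Agent.HZ
end

-- part: HZ/L/T3/Fin0
section
set_option linter.all false
open scoped Cfsg.Agent.FastGrp

/-!
# HZ/L/T3: centralisers of permutations with at most two cycles on every fibre (helper34)
-/

set_option autoImplicit false
set_option linter.unusedSectionVars false
set_option maxHeartbeats 200000

namespace Cfsg.Agent.HZ.L.T3.Fin

open Equiv Equiv.Perm

variable {α β : Type} [Fintype α] [DecidableEq α] (κ : α → β) (τ : Perm α)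

theorem apply_inv_self {α : Type} (v : Perm α) (i : α) : v (v⁻¹ i) = i := v.apply_symm_apply i

/-- the centraliser in the stabiliser of the fibres -/
def CA : Subgroup (Perm α) where
  carrier := {v | (∀ i, κ (v i) = κ i) ∧ v * τ = τ * v}
  one_mem' := ⟨fun _ => rfl, by rw [one_mul, mul_one]⟩
  mul_mem' {a b} ha hb := ⟨fun i => (ha.1 _).trans (hb.1 i), Commute.mul_left ha.2 hb.2⟩
  inv_mem' {a} ha := ⟨fun i => by rw [← ha.1 (a⁻¹ i), apply_inv_self], Commute.inv_left ha.2⟩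

variable {κ τ}

theorem sc_iff {v : Perm α} (h : v * τ = τ * v) {i j : α} : τ.SameCycle (v i) (v j) ↔ τ.SameCycle i j := by
  conv_lhs => rw [show τ = v * τ * v⁻¹ by rw [h, mul_inv_cancel_right], sameCycle_conj]
  simp

variable (κ τ) in
/-- the elements which fix all cycles -/
def CL : Subgroup (Perm α) where
  carrier := {v | v ∈ CA κ τ ∧ ∀ i, τ.SameCycle i (v i)}
  one_mem' := ⟨one_mem _, fun _ => SameCycle.rfl⟩
  mul_mem' {a b} ha hb := ⟨mul_mem ha.1 hb.1, fun i => (hb.2 i).trans (ha.2 _)⟩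
  inv_mem' {a} ha := ⟨inv_mem ha.1, fun i => by simpa using (ha.2 (a⁻¹ i)).symm⟩

/-- elements with a prescribed support -/
theorem exists_supp (hκ : ∀ i j, κ i = κ j → κ (τ i) = κ (τ j)) {A : Set α} (h1 : ∀ i, τ i ∈ A ↔ i ∈ A)
    (h2 : ∀ i ∈ A, ∃ j, j ≠ i ∧ κ j = κ i ∧ τ.SameCycle i j) : ∃ g ∈ CL κ τ, ∀ i, g i ≠ i ↔ i ∈ A := by
  classical
  let P : α → ℕ → Prop := fun i t => κ ((τ ^ t) i) = κ i ∧ ((τ ^ t) i ≠ i ↔ i ∈ A)
  have hc : ∀ (t : ℕ) i, (τ ^ t) (τ i) = τ ((τ ^ t) i) := fun t i => by rw [← mul_apply, ← pow_succ, pow_succ', mul_apply]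
  have h3 : ∀ i, P (τ i) = P i := fun i => funext fun t => by
    simp only [P, hc, X.TA.blk_iff hκ, h1, Ne, τ.apply_eq_iff_eq]
  have h4 : ∀ i, P i (Classical.epsilon (P i)) := fun i => Classical.epsilon_spec (by
    by_cases hi : i ∈ A
    · obtain ⟨j, a, b, c⟩ := h2 i hi
      obtain ⟨t, -, rfl⟩ := c.exists_pow_eq'
      exact ⟨t, b, iff_of_true a hi⟩
    · exact ⟨0, rfl, iff_of_false (fun h => h rfl) hi⟩)
  have h5 : ∀ (t : ℕ) i, P ((τ ^ t) i) = P i := fun t i => by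
    induction t with
    | zero => rfl
    | succ t ih => rw [pow_succ', mul_apply, h3, ih]
  have h6 : Function.Injective fun i => (τ ^ Classical.epsilon (P i)) i := fun i j e => by
    have e1 : P i = P j := (h5 _ i).symm.trans ((congrArg P e).trans (h5 _ j))
    simp only [e1] at e
    exact (τ ^ _).injective e
  refine ⟨ofBijective _ (Finite.injective_iff_bijective.1 h6), ⟨⟨fun i => (h4 i).1, Equiv.ext fun i => ?_⟩,
    fun i => ⟨(Classical.epsilon (P i) : ℕ), rfl⟩⟩, fun i => (h4 i).2⟩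
  show (τ ^ Classical.epsilon (P (τ i))) (τ i) = τ _
  rw [h3, hc]
  rfl

/-- **the two centralisers** -/
theorem card_lt [Nonempty α] (hκ : ∀ i j, κ i = κ j → κ (τ i) = κ (τ j))
    (h2 : ∀ i j l, κ i = κ j → κ i = κ l → τ.SameCycle i j ∨ τ.SameCycle i l ∨ τ.SameCycle j l)
    (h3 : ∀ i, ∃ j l, κ j = κ i ∧ κ l = κ i ∧ j ≠ i ∧ l ≠ i ∧ j ≠ l) :
    Nat.card (CA κ τ) < Nat.card (CL κ τ) * Nat.card (CL κ τ) := by
  classical
  obtain ⟨i₀, hi₀⟩ : ∃ i, ∃ j, j ≠ i ∧ κ j = κ i ∧ τ.SameCycle i j := by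
    obtain ⟨i⟩ := ‹Nonempty α›
    obtain ⟨j, l, a, b, c, d, e⟩ := h3 i
    rcases h2 i j l a.symm b.symm with h | h | h
    exacts [⟨i, j, c, a, h⟩, ⟨i, l, d, b, h⟩, ⟨j, l, e.symm, b.trans a.symm, h⟩]
  obtain ⟨g₀, hg₀, e₀⟩ := exists_supp hκ (A := {i | τ.SameCycle i₀ i}) (fun i => sameCycle_apply_right) fun i hi => by
    obtain ⟨t, -, rfl⟩ := SameCycle.exists_pow_eq' hi
    obtain ⟨j, a, b, c⟩ := hi₀
    exact ⟨(τ ^ t) j, (τ ^ t).injective.ne a, X.TA.blk_pow hκ t b, (sc_iff (Commute.pow_self τ t)).2 c⟩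
  have h4 : ∀ v : CA κ τ, ∃ g ∈ CL κ τ, ∀ i, g i ≠ i ↔ ¬ τ.SameCycle i (v.1 i) := fun ⟨v, h5, h6⟩ =>
    exists_supp hκ (A := {i | ¬ τ.SameCycle i (v i)}) (fun i => by
      simp only [Set.mem_ofPred_eq, ← mul_apply v, h6, mul_apply τ, sameCycle_apply_left, sameCycle_apply_right]) fun i hi => by
      have key : ∀ j, κ j = κ i → j ≠ i → j ≠ v i → ∃ j, j ≠ i ∧ κ j = κ i ∧ τ.SameCycle i j := fun j a b c => by
        rcases h2 i (v i) j (h5 i).symm a.symm with h | h | h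
        · exact (hi h).elim
        · exact ⟨j, b, a, h⟩
        · exact ⟨v⁻¹ j, fun e => c (by rw [← e, apply_inv_self]), by rw [← h5, apply_inv_self, a],
            (sc_iff h6).1 (by rwa [apply_inv_self])⟩
      obtain ⟨j, l, a, b, c, d, e⟩ := h3 i
      by_cases h : j = v i
      exacts [key l b d fun h' => e (h.trans h'.symm), key j a c h]
  choose g hg e using h4
  have hle : CL κ τ ≤ CA κ τ := fun _ h => h.1
  have h5 : Function.Injective fun q : CA κ τ ⧸ (CL κ τ).subgroupOf (CA κ τ) =>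
      (⟨⟨g q.out, hg _⟩, fun h => by
        have h7 : ∀ i, τ.SameCycle i₀ i ↔ ¬ τ.SameCycle i (q.out.1 i) := fun i => by
          rw [← e, show g q.out = g₀ from congrArg Subtype.val h, e₀]; rfl
        have h8 := (h7 i₀).1 SameCycle.rfl
        exact h8 ((h7 _).2 (mt (sc_iff q.out.2.2).1 h8))⟩ : {x : CL κ τ // x ≠ ⟨g₀, hg₀⟩}) := fun q q' h => by
    have h7 : ∀ i, τ.SameCycle i (q.out.1 i) ↔ τ.SameCycle i (q'.out.1 i) := fun i => by
      rw [← not_iff_not, ← e, ← e, show g q.out = g q'.out from congrArg (·.1.1) h]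
    rw [← q.out_eq, ← q'.out_eq]
    refine QuotientGroup.eq.2 ⟨(q.out⁻¹ * q'.out).2, fun i => (sc_iff q.out.2.2).1 ?_⟩
    refine (apply_inv_self q.out.1 (q'.out.1 i)).symm ▸ (?_ : τ.SameCycle (q.out.1 i) (q'.out.1 i))
    by_cases h8 : τ.SameCycle i (q.out.1 i)
    · exact h8.symm.trans ((h7 i).1 h8)
    · exact ((h2 i _ _ (q.out.2.1 i).symm (q'.out.2.1 i).symm).resolve_left h8).resolve_left (mt (h7 i).2 h8)
  rw [Subgroup.card_eq_card_quotient_mul_card_subgroup ((CL κ τ).subgroupOf (CA κ τ)),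
    Nat.card_congr (Subgroup.subgroupOfEquivOfLe hle).toEquiv]
  exact Nat.mul_lt_mul_of_pos_right ((Nat.card_le_card_of_injective _ h5).trans_lt
    (Finite.card_subtype_lt (x := ⟨g₀, hg₀⟩) (not_not.2 rfl))) Nat.card_pos

end Cfsg.Agent.HZ.L.T3.Fin
end

-- part: HZ/Ree
section
set_option linter.all false
open scoped Cfsg.Agent.FastGrp

/-!
# HZ: elementary abelian Sylow `2`-subgroups, the small Ree groups (helper17)
-/

set_option autoImplicit false

namespace Cfsg.Agent.HZ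

open Cfsg Subgroup Cfsg.Agent.ODD.Red

universe u

/-- no elements of order four in the central quotient -/
theorem hf_of_sq {M : Ideal AlgInt} (hM : IsPModular 2 M) {X : Type u} [Group X] [Finite X]
    (h : ∀ x : X ⧸ center X, x ^ 4 = 1 → x * x = 1) : HF M X := by
  rintro χ hχ hf ⟨y, hy⟩ σ hσ hfix
  have key : ∀ (k : ℕ) (x : X ⧸ center X), x ^ 2 ^ k = 1 → x ^ 2 = 1 := by
    intro k
    induction k with
    | zero => intro x hx; rw [pow_zero, pow_one] at hx; rw [hx, one_pow]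
    | succ k ih =>
      intro x hx
      rw [sq]
      exact h x (by rw [show 4 = 2 * 2 by norm_num, pow_mul, ih (x ^ 2) (by rw [← pow_mul, ← pow_succ', hx])])
  refine rat2_of_four hM hχ hy (fun u _ ⟨k, hk⟩ => ?_) hσ hfix
  have h1 : u ^ 2 ^ k = 1 := by rw [← hk, pow_orderOf_eq_one]
  have h2 : u ^ 2 ∈ center X := by
    rw [← QuotientGroup.eq_one_iff, QuotientGroup.mk_pow]
    exact key k _ (by rw [← QuotientGroup.mk_pow, h1, QuotientGroup.mk_one])
  rw [show 4 = 2 * 2 by norm_num, pow_mul]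
  exact central_sq hχ hf hσ hfix h2 (a := k) (by rw [← pow_mul, mul_comm, pow_mul, h1, one_pow])

/-- `BoxN.ree` -/
theorem rowRee : Row fun S _ => Lie.IsoRee S := fun _ hM _ _ _ _ h _ => hf_of_sq hM (ODD.Alt.sq_of_ree h)

end Cfsg.Agent.HZ
end

-- part: HZ/Alt/Main
section
set_option linter.all false
open scoped Cfsg.Agent.FastGrp

/-!
# HZ (S4909): the row of the alternating groups and their covers (helper19)

If the centre has odd order all characters are `2`-rational.  Otherwise a good element `y` of odd order of a faithful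
character has only `2`-elements `u` with `u ^ 4 = 1` in its centraliser: else two elements of the centraliser have a
non-trivial central commutator, which forces the character to vanish at a place where it is a unit.
-/

set_option autoImplicit false

namespace Cfsg.Agent.HZ.Alt

open Cfsg Subgroup Cfsg.Agent.ODD Cfsg.Agent.ODD.Red Cfsg.Agent.Characters Cfsg.Agent.Blocks
  Cfsg.Agent.Blocks.LocalRing

/-- a faithful character vanishes at `a y` when `a` has a non-trivial central commutator with an element of `C(y)` -/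
theorem zero_of_comm {X : Type} [Group X] [Finite X] {χ : X → ℂ} (hχ : IsIrrCharacter X χ)
    (hf : ∀ g, χ g = χ 1 → g = 1) {a b y : X} (hb : b * y = y * b) (hd : b * a * b⁻¹ * a⁻¹ ∈ center X)
    (hn : b * a ≠ a * b) : χ (a * y) = 0 := by
  by_contra h0
  obtain ⟨c, h1, -⟩ := exists_central hχ hd
  have h2 : b * a * b⁻¹ * a⁻¹ * (a * y) = b * (a * y) * b⁻¹ := by
    have h3 : b⁻¹ * y = y * b⁻¹ := by
      rw [inv_mul_eq_iff_eq_mul, ← mul_assoc, hb, mul_inv_cancel_right]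
    calc b * a * b⁻¹ * a⁻¹ * (a * y) = b * a * (b⁻¹ * y) := by group
      _ = b * (a * y) * b⁻¹ := by rw [h3]; group
  have h4 := h1 (a * y)
  rw [h2, ← Basic.irr_isConj hχ (isConj_iff.2 ⟨b, rfl⟩)] at h4
  have h5 : c = 1 := mul_right_cancel₀ h0 (by rw [← h4, one_mul])
  have h6 := h1 1
  rw [mul_one, h5, one_mul] at h6
  have h7 := hf _ h6
  apply hn
  rw [mul_inv_eq_one, mul_inv_eq_iff_eq_mul] at h7
  exact h7

theorem rowAlt : Row fun S _ => IsAlternating S := by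
  rintro M hM X _ _ hX ⟨n, hn, ⟨e⟩⟩ - χ hχ hf h0 σ hσ hfix
  let π : X →* alternatingGroup (Fin n) := e.toMonoidHom.comp (QuotientGroup.mk' _)
  have hs : Function.Surjective π := e.surjective.comp (QuotientGroup.mk'_surjective _)
  have hk : π.ker ≤ center X := fun z hz => by
    have h1 : e (z : X ⧸ center X) = 1 := hz
    exact (QuotientGroup.eq_one_iff z).1 (e.map_eq_one_iff.1 h1)
  by_cases ho : Odd (Nat.card π.ker)
  · exact ODD.Alt.allR_alt.cover π hs hk ho χ hχ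
  obtain ⟨y, hy, hg⟩ := h0.odd hM hχ
  refine rat2_of_four hM hχ hg (fun u hc ⟨k, hk'⟩ => ?_) hσ hfix
  by_contra h4
  obtain ⟨a, b, ⟨j, hj⟩, ha, hb, hd, hn'⟩ := exists_pair hn π hs hk hX.1.commutator_eq_top ho hy
    (hk' ▸ pow_orderOf_eq_one u) hc h4
  obtain ⟨i, -, hi⟩ := (Nat.dvd_prime_pow Nat.prime_two).1 (orderOf_dvd_of_pow_eq_one hj)
  exact ne_zero_of_not_memLocalIdeal hM (hg.unit hM hχ hy ⟨i, hi⟩ ha) (zero_of_comm hχ hf hb hd hn')

end Cfsg.Agent.HZ.Alt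
end

-- part: HZ/L/XC/Eng
section
prune_inst 0x3470450176220200001c0002b20059b7b30001901023000049a60c04010dc3220d41a701c6000502085022080805000002100040400000000a0004000004012098e80000a108000404000f802007190c00000000000000000000000000000000004010000
set_option linter.all false
open scoped Cfsg.Agent.FastGrp

/-!
# HZ/L, exact types: the checker (helper53)
-/

set_option autoImplicit false
set_option linter.unusedSectionVars false

namespace Cfsg.Agent.HZ.L.XC

open Finset Equiv Cfsg.Agent.LV.Cl Cfsg.Agent.LV.Cl.Ey Cfsg.Agent.TAB.Eng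

/-- signed points -/
abbrev Pt : Type := ℕ × Bool

variable (n : ℕ) [NeZero n]

/-- the action of a generator -/
noncomputable def apg (t : Gn) (p : Pt) : Pt :=
  Prod.rec (fun a s => frc a fun a => cond (Nat.beq a (Nat.mod t.1 n)) (Nat.mod t.2.1 n, xor t.2.2 s)
    (cond (Nat.beq a (Nat.mod t.2.1 n)) (Nat.mod t.1 n, xor t.2.2 s) (a, s))) p

/-- the action of a word -/
noncomputable def ap (w : List Gn) (p : Pt) : Pt := List.rec p (fun t _ ih => apg n t ih) w

theorem un_xor (a b : Bool) : un (xor a b) = un a * un b := by cases a <;> cases b <;> rfl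

theorem beq_t {a : ℕ} {i : Fin n} {b : ℕ} (h : i = Fin.ofNat n b) (e : a = i := by rfl) : Nat.beq a (Nat.mod b n) = true :=
  Nat.beq_eq.symm.mp (e.trans (congrArg Fin.val h))

theorem beq_f {a : ℕ} {i : Fin n} {b : ℕ} (h : i ≠ Fin.ofNat n b) (e : a = i := by rfl) : Nat.beq a (Nat.mod b n) = false :=
  Bool.eq_false_iff.2 fun h1 => h (Fin.ext (e.symm.trans (Nat.eq_of_beq_eq_true h1)))

theorem apg_spec (t : Gn) (j : Fin n) (s : Bool) :
    (apg n t (j, s)).1 = (gn n t).π j ∧ un (apg n t (j, s)).2 = (gn n t).s j * un s := by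
  change (frc _ _ : Pt).1 = _ ∧ un (frc _ _ : Pt).2 = _
  rw [frc_eq, gn, sw_π, sw_s]
  by_cases h1 : j = Fin.ofNat n t.1
  · rw [beq_t n h1, cond_true, if_pos (Or.inl h1), un_xor, h1, swap_apply_left]
    exact ⟨rfl, rfl⟩
  rw [beq_f n h1, cond_false]
  by_cases h2 : j = Fin.ofNat n t.2.1
  · rw [beq_t n h2, cond_true, if_pos (Or.inr h2), un_xor, h2, swap_apply_right]
    exact ⟨rfl, rfl⟩
  · rw [beq_f n h2, cond_false, swap_apply_of_ne_of_ne h1 h2,
      if_neg (by tauto), one_mul]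
    exact ⟨rfl, rfl⟩

theorem ap_spec (w : List Gn) (j : Fin n) (s : Bool) :
    (ap n w (j, s)).1 = (ev n w).π j ∧ un (ap n w (j, s)).2 = (ev n w).s j * un s := by
  induction w with
  | nil => exact ⟨rfl, (one_mul _).symm⟩
  | cons t w ih =>
    have h1 : ap n (t :: w) (j, s) = apg n t ((ev n w).π j, (ap n w (j, s)).2) := by rw [← ih.1]; rfl
    rw [h1, ev_cons, mul_π, mul_s, mul_assoc, ← ih.2]
    exact apg_spec n t _ _

/-- the image of a point -/
noncomputable def im (w : List Gn) (j : ℕ) : Pt := ap n w (j, false)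

theorem im_π (w : List Gn) (j : Fin n) : (im n w j).1 = (ev n w).π j := (ap_spec n w j false).1

theorem im_s (w : List Gn) (j : Fin n) : un (im n w j).2 = (ev n w).s j := (ap_spec n w j false).2.trans (mul_one _)

/-- an entry of a packed table -/
def gt (T k : ℕ) : ℕ := Nat.land (Nat.shiftRight T (Nat.mul 4 k)) 15

theorem gt_lt (T k : ℕ) : gt T k < 2 ^ 4 := Nat.and_lt_two_pow _ (by decide)

theorem gt_xor (T : ℕ) {d : ℕ} (h : d < 2 ^ 4) (i k : ℕ) :
    gt (Nat.xor T (Nat.shiftLeft d (Nat.mul 4 i))) k = if k = i then gt T k ^^^ d else gt T k := by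
  refine Nat.eq_of_testBit_eq fun b => ?_
  change ((T ^^^ d <<< (4 * i)) >>> (4 * k) &&& (2 ^ 4 - 1)).testBit b =
    (if k = i then (T >>> (4 * k) &&& (2 ^ 4 - 1)) ^^^ d else T >>> (4 * k) &&& (2 ^ 4 - 1)).testBit b
  have h1 : ∀ c, 4 ≤ c → d.testBit c = false := fun c hc =>
    Nat.testBit_lt_two_pow (h.trans_le (Nat.pow_le_pow_right (by decide) hc))
  split_ifs with e <;> simp only [Nat.testBit_and, Nat.testBit_shiftRight, Nat.testBit_xor, Nat.testBit_shiftLeft,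
    Nat.testBit_two_pow_sub_one] <;> by_cases hb : b < 4
  · simp [e, hb]
  · simp [hb, h1 b (by omega)]
  · by_cases h2 : 4 * k + b ≥ 4 * i
    · simp [h1 (4 * k + b - 4 * i) (by omega)]
    · simp [h2]
  · simp [hb]

/-- the table times a generator -/
noncomputable def stp (T : ℕ) (t : Gn) : ℕ :=
  frc (Nat.mod t.1 n) fun i => frc (Nat.mod t.2.1 n) fun k => Bool.rec
    (frc (Nat.xor (Nat.xor (gt T i) (gt T k)) (Bool.rec 0 1 t.2.2)) fun d =>
      Nat.xor (Nat.xor T (Nat.shiftLeft d (Nat.mul 4 i))) (Nat.shiftLeft d (Nat.mul 4 k)))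
    (Nat.xor T (Nat.shiftLeft (Bool.rec 0 1 t.2.2) (Nat.mul 4 i))) (Nat.beq i k)

/-- the table times a word -/
noncomputable def tab (w : List Gn) : ℕ → ℕ := List.rec (fun T => T) (fun t _ ih T => frc (stp n T t) ih) w

variable {n} in
/-- `T` is the table of `u` -/
def Rp (T : ℕ) (u : SG n) : Prop := ∀ j : Fin n, (u.π j : ℕ) = gt T j >>> 1 ∧ u.s j = un ((gt T j).testBit 0)

theorem xor_bit (x : ℕ) (b : Bool) : (x ^^^ Bool.rec 0 1 b) >>> 1 = x >>> 1 ∧
    un ((x ^^^ Bool.rec 0 1 b).testBit 0) = un (x.testBit 0) * un b := by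
  rw [Nat.shiftRight_xor_distrib, Nat.testBit_xor, un_xor]
  cases b <;> exact ⟨Nat.xor_zero _, rfl⟩

variable {n} in
theorem Rp.sw {T : ℕ} {u : SG n} (h : Rp T u) (i k : Fin n) (b : Bool) : Rp (Bool.rec
    (Nat.xor (Nat.xor T (Nat.shiftLeft (gt T i ^^^ gt T k ^^^ Bool.rec 0 1 b) (Nat.mul 4 i)))
      (Nat.shiftLeft (gt T i ^^^ gt T k ^^^ Bool.rec 0 1 b) (Nat.mul 4 k)))
    (Nat.xor T (Nat.shiftLeft (Bool.rec 0 1 b) (Nat.mul 4 i))) (Nat.beq i k)) (u * sw i k (un b)) := fun j => by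
  have h0 : (Bool.rec 0 1 b : ℕ) < 2 ^ 4 := by cases b <;> decide
  rw [mul_π, mul_s, Perm.mul_apply, sw_π, sw_s, (h _).1, (h _).2]
  by_cases h1 : i = k
  · rw [← h1, Nat.beq_refl, swap_self]
    dsimp only [Equiv.refl_apply]
    rw [gt_xor _ h0]
    by_cases h2 : j = i
    · rw [if_pos (congrArg Fin.val h2), if_pos (Or.inl h2)]
      exact ⟨(xor_bit _ _).1.symm, (xor_bit _ _).2.symm⟩
    · rw [if_neg (Fin.val_ne_of_ne h2), if_neg (not_or.2 ⟨h2, h2⟩), mul_one]
      exact ⟨rfl, rfl⟩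
  · have h3 := Nat.xor_lt_two_pow (Nat.xor_lt_two_pow (gt_lt T i) (gt_lt T k)) h0
    rw [show Nat.beq i k = false from Bool.eq_false_iff.2 fun e => h1 (Fin.ext (Nat.eq_of_beq_eq_true e))]
    dsimp only
    rw [gt_xor _ h3, gt_xor _ h3]
    by_cases h2 : j = i
    · rw [if_neg (Fin.val_ne_of_ne (h2 ▸ h1)), if_pos (congrArg Fin.val h2), if_pos (Or.inl h2), h2,
        swap_apply_left, ← Nat.xor_assoc, ← Nat.xor_assoc, Nat.xor_self, Nat.zero_xor]
      exact ⟨(xor_bit _ _).1.symm, (xor_bit _ _).2.symm⟩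
    by_cases h4 : j = k
    · rw [if_pos (congrArg Fin.val h4), if_neg (Fin.val_ne_of_ne h2), if_pos (Or.inr h4), h4, swap_apply_right,
        Nat.xor_comm (gt T i), ← Nat.xor_assoc, ← Nat.xor_assoc, Nat.xor_self, Nat.zero_xor]
      exact ⟨(xor_bit _ _).1.symm, (xor_bit _ _).2.symm⟩
    · rw [if_neg (Fin.val_ne_of_ne h4), if_neg (Fin.val_ne_of_ne h2), if_neg (not_or.2 ⟨h2, h4⟩), mul_one,
        swap_apply_of_ne_of_ne h2 h4]
      exact ⟨rfl, rfl⟩

variable {n} in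
theorem Rp.stp {T : ℕ} {u : SG n} (h : Rp T u) (t : Gn) : Rp (stp n T t) (u * gn n t) := by
  rw [XC.stp, frc_eq, frc_eq, frc_eq]
  exact h.sw (Fin.ofNat n t.1) (Fin.ofNat n t.2.1) t.2.2

variable {n} in
theorem Rp.tab {T : ℕ} {u : SG n} (h : Rp T u) (w : List Gn) : Rp (tab n w T) (u * ev n w) := by
  induction w generalizing T u with
  | nil => exact (mul_one u).symm ▸ h
  | cons t w ih =>
    rw [ev_cons, ← mul_assoc, show XC.tab n (t :: w) T = XC.tab n w (XC.stp n T t) from frc_eq _ _]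
    exact ih (h.stp t)

/-- the table of the identity -/
def tid : ℕ := 0xeca86420

theorem rp_tid (h : Nat.ble n 8 = true) : Rp tid (1 : SG n) := fun j =>
  (by decide : ∀ j < 8, j = gt tid j >>> 1 ∧ 1 = un ((gt tid j).testBit 0)) j (j.2.trans_le (Nat.le_of_ble_eq_true h))

/-- `w * r = r * w'` -/
noncomputable def eqC (w r w' : List Gn) : Bool :=
  Bool.rec false (Nat.beq (tab n r (tab n w tid)) (tab n w' (tab n r tid))) (Nat.ble n 8)

theorem eqC_spec {w r w' : List Gn} (h : eqC n w r w' = true) : ev n w * ev n r = ev n r * ev n w' := by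
  rw [eqC] at h
  cases h1 : Nat.ble n 8 <;> rw [h1] at h
  · cases h
  have h2 := ((rp_tid n h1).tab w).tab r
  have h3 := ((rp_tid n h1).tab r).tab w'
  rw [Nat.eq_of_beq_eq_true h, one_mul] at h2
  rw [one_mul] at h3
  exact SG.ext (Equiv.ext fun j => Fin.ext ((h2 j).1.trans (h3 j).1.symm)) (funext fun j => (h2 j).2.trans (h3 j).2.symm)

variable (κ : Kd) (a : ℕ)

/-- the sorted colours -/
def col (j : Fin n) : Bool := Nat.blt j a

/-- reflections of the stabiliser -/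
noncomputable def okG (t : Gn) : Bool :=
  cond (Nat.beq (Nat.mod t.1 n) (Nat.mod t.2.1 n)) (!t.2.2 || sgd κ (Nat.blt (Nat.mod t.1 n) a))
    (!(xor (Nat.blt (Nat.mod t.1 n) a) (Nat.blt (Nat.mod t.2.1 n) a)))

variable {n κ a} {S : List ℤ} {y : SG n → ℤ}

theorem Hy.gn (H : Hy κ (col n a) S y) {t : Gn} (h : okG n κ a t = true) (g : SG n) : y (gn n t * g * (gn n t)⁻¹) = y g := by
  rw [XC.gn, sw_inv]
  by_cases h1 : Fin.ofNat n t.1 = Fin.ofNat n t.2.1
  · rw [okG, beq_t n (a := Nat.mod t.1 n) h1, cond_true] at h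
    rw [← h1]
    cases h2 : t.2.2
    · rw [show un false = 1 from rfl, sw_self, one_mul, mul_one]
    · rw [h2] at h
      rw [show LV.Cl.sw (Fin.ofNat n t.1) (Fin.ofNat n t.1) (un true) = LV.Cl.tt (Fin.ofNat n t.1) from
        SG.ext (swap_self _) (funext fun x => by simp only [sw_s, tt_s, or_self]; rfl)]
      exact H.tt (Fin.ofNat n t.1) h g
  · rw [okG, beq_f n (a := Nat.mod t.1 n) h1, cond_false] at h
    exact H.sw _ _ _ h1 (show Nat.blt (Nat.mod t.1 n) a = Nat.blt (Nat.mod t.2.1 n) a by simpa using h) g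

theorem Hy.ev (H : Hy κ (col n a) S y) {w : List Gn} (h : ∀ t ∈ w, okG n κ a t = true) (g : SG n) :
    y (ev n w * g * (ev n w)⁻¹) = y g := by
  induction w with
  | nil => rw [show XC.ev n [] = 1 from rfl, one_mul, inv_one, mul_one]
  | cons t w ih =>
    rw [← ih fun t ht => h t (List.mem_cons_of_mem _ ht), ← H.gn (h t List.mem_cons_self) (XC.ev n w * g * (XC.ev n w)⁻¹),
      ev_cons, mul_inv_rev]
    simp only [mul_assoc]

variable (n) in
/-- an eigenvector -/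
noncomputable def okE (μ : ℤ) (w : List Gn) (v : List ℤ) : Bool :=
  allL (fun j => Prod.rec (fun b s => decide (cond s (-nth v b) (nth v b) = μ * nth v j)) (im n w j)) (List.range n) &&
    !(allL (fun j => decide (nth v j = 0)) (List.range n))

theorem allL_of {β : Type} {f : β → Bool} {r : List β} (h : ∀ a ∈ r, f a = true) : allL f r = true := by
  induction r with
  | nil => rfl
  | cons b r ih =>
    change cond (f b) (allL f r) false = true
    rw [h b List.mem_cons_self, cond_true, ih fun a ha => h a (List.mem_cons_of_mem _ ha)]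

theorem Hy.zero {x : Fin n → Bool} (H : Hy κ x S y) {μ : ℤ} (hμ : μ ∈ S) {w : List Gn} {v : List ℤ}
    (h : okE n μ w v = true) : y (XC.ev n w) = 0 := by
  by_contra h0
  rw [okE, Bool.and_eq_true] at h
  have h1 := (H.supp _ h0).2 μ hμ (fun j => nth v j) fun j => by
    have h2 : decide (cond (im n w j).2 (-nth v (im n w j).1) (nth v (im n w j).1) = μ * nth v j) = true :=
      allL_spec h.1 j (List.mem_range.2 j.2)
    rw [← of_decide_eq_true h2, ← im_s, im_π]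
    cases (im n w j).2
    · exact one_mul _
    · exact neg_one_mul _
  have h2 := h.2
  rw [allL_of fun j hj => decide_eq_true (congrFun h1 ⟨j, List.mem_range.1 hj⟩)] at h2
  cases h2

/-- the word of a cycle type -/
noncomputable def rw' (l : List ℕ) : ℕ → List Gn :=
  List.rec (fun _ => []) (fun c _ ih m => ((List.range c).map fun i => (m + i, m + i + 1, false)) ++
    (m + c, m + c, true) :: ih (m + c + 1)) l

variable (n) in
/-- the values at the representatives -/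
noncomputable def vl (R : List (List Gn)) (y : SG n → ℤ) (i : ℕ) : ℤ := if i < R.length then y (ev n (ntd R [] i)) else 0

variable (n κ a) in
/-- the check of a classification -/
noncomputable def ck (R : List (List Gn)) (w : List Gn) (i : ℕ) (r : List Gn × List ℤ) : Bool :=
  cond (Nat.blt i R.length) (allL (okG n κ a) r.1 && eqC n w r.1 (ntd R [] i)) (okE n 1 w r.2)

theorem Hy.ck (H : Hy κ (col n a) S y) (h1 : (1 : ℤ) ∈ S) {R : List (List Gn)} {w : List Gn} {i : ℕ} {r : List Gn × List ℤ}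
    (h : ck n κ a R w i r = true) : y (XC.ev n w) = vl n R y i := by
  rw [vl]
  split_ifs with h2
  · rw [XC.ck, Nat.blt_eq.symm.mp h2, cond_true, Bool.and_eq_true] at h
    have h3 := eqC_spec n h.2
    rw [← H.ev (allL_spec h.1) (XC.ev n (ntd R [] i)), ← h3, mul_inv_cancel_right]
  · rw [XC.ck, Bool.eq_false_iff.2 fun h => h2 (Nat.blt_eq.mp h), cond_false] at h
    exact H.zero h1 h

/-- add `c` at the place `i` -/
noncomputable def addAt (c i : ℕ) : List ℕ → List ℕ :=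
  Nat.rec (fun l => List.rec [c] (fun b l' _ => Nat.add b c :: l') l)
    (fun _ ih l => List.rec (0 :: ih []) (fun b l' _ => b :: ih l') l) i

/-- the pairing -/
def dv : List ℕ → (ℕ → ℤ) → ℤ
  | [], _ => 0
  | b :: l, f => b * f 0 + dv l fun i => f (i + 1)

example := @dv.eq_def

theorem dv_addAt (c i : ℕ) (l : List ℕ) (f : ℕ → ℤ) : dv (addAt c i l) f = c * f i + dv l f := by
  induction i generalizing l f with
  | zero => cases l with
    | nil => rfl
    | cons b l =>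
      change ((b + c : ℕ) : ℤ) * _ + dv l _ = _ + (_ + _)
      push_cast
      ring
  | succ i ih => cases l with
    | nil =>
      change ((0 : ℕ) : ℤ) * _ + dv (addAt c i []) _ = _
      rw [ih, Nat.cast_zero, zero_mul, zero_add]
      rfl
    | cons b l =>
      change (b : ℤ) * _ + dv (addAt c i l) _ = _ + (_ + _)
      rw [ih]
      ring

/-- the histogram, with a final test -/
noncomputable def rk {β : Type} (ok : List Gn → Bool) (cl : List Gn → ℕ × β) (ck : List Gn → ℕ → β → Bool)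
    (K : List ℕ → Bool) (L : List (ℕ × List Gn)) : List ℕ → Bool :=
  List.rec K (fun p _ ih acc => cond (ok p.2)
    (Prod.rec (fun i r => frc i fun i => cond (ck p.2 i r) (frcL (addAt p.1 i acc) ih) false) (cl p.2)) (ih acc)) L

theorem rk_spec {β : Type} {ok : List Gn → Bool} {cl : List Gn → ℕ × β} {ck : List Gn → ℕ → β → Bool} {K : List ℕ → Bool}
    {F : List Gn → ℤ} {f : ℕ → ℤ} (hF : ∀ w i r, ck w i r = true → F w = f i) (L : List (ℕ × List Gn)) (acc : List ℕ)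
    (h : rk ok cl ck K L acc = true) :
    ∃ tgt, K tgt = true ∧ (L.map fun p => (p.1 : ℤ) * if ok p.2 = true then F p.2 else 0).sum + dv acc f = dv tgt f := by
  induction L generalizing acc with
  | nil => exact ⟨acc, h, zero_add _⟩
  | cons p L ih =>
    have h1 : cond (ok p.2) (frc (cl p.2).1 fun i => cond (ck p.2 i (cl p.2).2)
      (frcL (addAt p.1 i acc) (rk ok cl ck K L)) false) (rk ok cl ck K L acc) = true := h
    rw [List.map_cons, List.sum_cons]
    cases h2 : ok p.2 <;> rw [h2] at h1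
    · rw [if_neg Bool.false_ne_true, mul_zero, zero_add]
      exact ih _ h1
    · rw [cond_true, frc_eq, frcL_eq] at h1
      cases h3 : ck p.2 (cl p.2).1 (cl p.2).2 <;> rw [h3] at h1
      · cases h1
      · obtain ⟨tgt, h4, h5⟩ := ih _ h1
        refine ⟨tgt, h4, ?_⟩
        rw [← h5, dv_addAt, if_pos rfl, hF _ _ _ h3]
        ring

theorem dv_eq (l : List ℕ) (f : ℕ → ℤ) {k : ℕ} (h : ∀ i, k ≤ i → f i = 0) :
    dv l f = ∑ i ∈ range k, ((ntd l 0 i : ℕ) : ℤ) * f i := by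
  induction l generalizing f k with
  | nil => exact (sum_eq_zero fun i _ => zero_mul _).symm
  | cons b l ih =>
    rcases k with _ | k
    · rw [dv, ih _ (k := 0) fun i _ => h _ (Nat.zero_le _), h 0 le_rfl, mul_zero]
      rfl
    · rw [dv, ih _ (k := k) fun i hi => h _ (Nat.succ_le_succ hi), sum_range_succ', add_comm]
      rfl

/-- the first `k` entries agree -/
noncomputable def eqT (k : ℕ) (tgt acc : List ℕ) : Bool := allL (fun i => Nat.beq (ntd acc 0 i) (ntd tgt 0 i)) (List.range k)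

theorem eqT_spec {k : ℕ} {tgt acc : List ℕ} (h : eqT k tgt acc = true) {f : ℕ → ℤ} (hf : ∀ i, k ≤ i → f i = 0) :
    dv acc f = dv tgt f := by
  rw [dv_eq _ _ hf, dv_eq _ _ hf]
  exact sum_congr rfl fun i hi => by rw [Nat.eq_of_beq_eq_true (allL_spec h i (List.mem_range.2 (mem_range.1 hi)))]

/-! ### the words without a fixed vector -/

/-- `v` is fixed by `h` -/
def EV (h : SG n) (v : ℕ → ℤ) : Prop := ∀ j : Fin n, (h.s j : ℤ) * v (h.π j) = v j

theorem EV.mul {g h : SG n} {v : ℕ → ℤ} (hg : EV g v) (hh : EV h v) : EV (g * h) v := fun j => by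
  rw [mul_s, mul_π, Perm.mul_apply, Units.val_mul, mul_comm (g.s _ : ℤ), mul_assoc, hg, hh]

theorem EV.of_fix {u : SG n} {v : ℕ → ℤ} (h : ∀ j : Fin n, v j ≠ 0 → u.π j = j ∧ u.s j = 1) : EV u v := fun j => by
  by_cases h1 : v j = 0
  · by_cases h2 : v (u.π j) = 0
    · rw [h1, h2, mul_zero]
    · exact absurd (by rw [u.π.injective (h _ h2).1, h1]) h2
  · rw [(h j h1).1, (h j h1).2, Units.val_one, one_mul]

/-- the invariant of a node: a vector with support in `[st, m]` is fixed -/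
def JJ (P : SG n) (m st : ℕ) : Prop := (∀ j : Fin n, m < j → P.π j = j ∧ P.s j = 1) ∧ st ≤ m ∧
  ∃ v : ℕ → ℤ, v m ≠ 0 ∧ (∀ j, v j ≠ 0 → st ≤ j ∧ j ≤ m) ∧ EV P v

theorem JJ.new {P : SG n} {m : ℕ} (h : ∀ j : Fin n, m ≤ j → P.π j = j ∧ P.s j = 1) : JJ P m m :=
  ⟨fun j hj => h j hj.le, le_rfl, fun j => if j = m then 1 else 0, by beta_reduce; rw [if_pos rfl]; exact one_ne_zero,
    fun j hj => by rw [show j = m from by_contra fun e => hj (if_neg e)]; exact ⟨le_rfl, le_rfl⟩,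
    EV.of_fix fun j hj => h j (by_contra fun e => hj (if_neg fun e' => e e'.ge))⟩

theorem fix_mul {P : SG n} {m : ℕ} (h : ∀ j : Fin n, m < j → P.π j = j ∧ P.s j = 1) {i i' j : Fin n} (e : ℤˣ) (hj : m < j)
    (h1 : j ≠ i) (h2 : j ≠ i') : (P * sw i i' e).π j = j ∧ (P * sw i i' e).s j = 1 := by
  rw [mul_π, mul_s, Perm.mul_apply, sw_π, swap_apply_of_ne_of_ne h1 h2, sw_s, if_neg (not_or.2 ⟨h1, h2⟩), (h j hj).1,
    (h j hj).2]
  exact ⟨rfl, rfl⟩

theorem JJ.close {P : SG n} {m st : ℕ} (h : JJ P m st) (hm : m < n) (b : Bool) : JJ (P * gn n (m, m, b)) (m + 1) (m + 1) := by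
  have e : Fin.ofNat n m = ⟨m, hm⟩ := ofNat_val ⟨m, hm⟩
  rw [gn, e]
  exact JJ.new fun j hj => fix_mul h.1 _ hj (Fin.ne_of_val_ne (Nat.ne_of_gt hj)) (Fin.ne_of_val_ne (Nat.ne_of_gt hj))

theorem JJ.link {P : SG n} {m st : ℕ} (h : JJ P m st) (hm : m + 1 < n) (b : Bool) :
    JJ (P * gn n (m, m + 1, b)) (m + 1) st := by
  have e : Fin.ofNat n m = ⟨m, by omega⟩ := ofNat_val ⟨m, by omega⟩
  have e' : Fin.ofNat n (m + 1) = ⟨m + 1, hm⟩ := ofNat_val ⟨m + 1, hm⟩
  obtain ⟨h1, h2, v, h3, h4, h5⟩ := h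
  have h6 : v (m + 1) = 0 := by_contra fun h => absurd (h4 _ h).2 (by omega)
  rw [gn, e, e']
  refine ⟨fun j hj => fix_mul h1 _ (by omega) (Fin.ne_of_val_ne (by dsimp only; omega))
    (Fin.ne_of_val_ne (by dsimp only; omega)), by omega, fun j => v j + (un b * v m) * if j = m + 1 then 1 else 0, ?_,
    fun j hj => ?_, fun j => ?_⟩
  · beta_reduce
    rw [h6, if_pos rfl, zero_add, mul_one]
    exact mul_ne_zero (Units.ne_zero _) h3
  · by_cases h7 : j = m + 1
    · omega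
    · beta_reduce at hj
      rw [if_neg h7, mul_zero, add_zero] at hj
      have := h4 j hj
      omega
  · have h7 : EV P fun j => if j = m + 1 then 1 else 0 :=
      EV.of_fix fun j hj => h1 j (by_contra fun e => hj (if_neg (by omega)))
    have h8 := h7 (swap ⟨m, by omega⟩ ⟨m + 1, hm⟩ j)
    beta_reduce at h8 ⊢
    rw [mul_s, mul_π, Perm.mul_apply, Units.val_mul, mul_comm (P.s _ : ℤ), mul_assoc, sw_π, mul_add, h5, mul_left_comm, h8,
      sw_s]
    by_cases h9 : j = ⟨m, by omega⟩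
    · rw [h9, swap_apply_left, if_pos (Or.inl rfl), h6, if_pos rfl, if_neg (Nat.lt_succ_self m).ne, zero_add, mul_one,
        mul_zero, add_zero, ← mul_assoc, ← Units.val_mul, Int.units_mul_self, Units.val_one, one_mul]
    by_cases h10 : j = ⟨m + 1, hm⟩
    · rw [h10, swap_apply_right, if_pos (Or.inr rfl), h6, if_pos rfl, if_neg (Nat.lt_succ_self m).ne, zero_add, mul_one,
        mul_zero, add_zero]
    · rw [swap_apply_of_ne_of_ne h9 h10, if_neg (not_or.2 ⟨h9, h10⟩), Units.val_one, one_mul]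

theorem mem_brs {bl : ℕ → ℕ} {sg : ℕ → Bool} {m : ℕ} {t : ℕ × Gn} (h : t ∈ brs n bl sg m) :
    t.2 = (m, m, t.2.2.2) ∨ t.2 = (m, m + 1, t.2.2.2) ∧ m + 1 < n ∧ (IV n bl → bl (m + 1) = bl m) := by
  obtain ⟨b, -, h1⟩ := List.mem_flatMap.1 h
  rcases List.mem_cons.1 h1 with rfl | h1
  · exact .inl rfl
  · cases h2 : Nat.beq (cn n bl m) 0 <;> rw [h2] at h1
    · obtain rfl := List.mem_singleton.1 h1
      obtain ⟨j, h3, h4⟩ := exists_ne_zero_of_sum_ne_zero (Nat.ne_of_beq_eq_false h2)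
      have h5 : m < j ∧ bl j = bl m := by_contra fun e => h4 (if_neg e)
      exact .inr ⟨rfl, lt_of_le_of_lt h5.1 (mem_range.1 h3), fun hI => (hI j (mem_range.1 h3) m h5.1 h5.2.symm).1⟩
    · cases h1

variable (n) in
/-- the words; the branches below a closed positive cycle are left out -/
noncomputable def wdp (bl : ℕ → ℕ) (sg : ℕ → Bool) (fx : ℕ → ℕ → Bool) (k : ℕ) : ℕ → ℕ → List (ℕ × List Gn) :=
  Nat.rec (fun _ _ => [(1, [])]) (fun _ ih m st => (brs n bl sg m).flatMap fun t =>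
    (cond (Nat.beq t.2.2.1 m) (cond (!t.2.2.2 && fx st m) [] (ih (m + 1) (m + 1))) (ih (m + 1) st)).map
      fun p => (t.1 * p.1, t.2 :: p.2)) k

theorem sum_wdp {bl : ℕ → ℕ} {sg : ℕ → Bool} {fx : ℕ → ℕ → Bool} (hI : IV n bl) {G : SG n → ℤ}
    (hZ : ∀ st m P (v : ℕ → ℤ), fx st m = true → m < n → v m ≠ 0 → (∀ j, v j ≠ 0 → st ≤ j ∧ j ≤ m) → EV P v → G P = 0)
    (k m st : ℕ) (P : SG n) (hk : m + k = n) (hY : Iv bl (m + 1) fun u => G (P * u)) (hJ : JJ P m st) :
    ∑ u ∈ HH n bl sg m, G (P * u) = ((wdp n bl sg fx k m st).map fun p => (p.1 : ℤ) * G (P * ev n p.2)).sum := by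
  induction k generalizing m st P with
  | zero => exact sum_wds hI 0 m hk hY
  | succ k ih =>
    have hm : m < n := by omega
    rw [sum_brs hI ⟨m, hm⟩ hY]
    change _ = (List.map _ (List.flatMap _ _)).sum
    rw [List.map_flatMap, List.flatMap, List.sum_flatten, List.map_map]
    refine congrArg _ (List.map_congr_left fun t ht => ?_)
    have h1 : ∀ st', JJ (P * gn n t.2) (m + 1) st' → (t.1 : ℤ) * ∑ u ∈ HH n bl sg (m + 1), G (P * (gn n t.2 * u)) =
        (((wdp n bl sg fx k (m + 1) st').map fun p => (t.1 * p.1, t.2 :: p.2)).map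
          fun p => (p.1 : ℤ) * G (P * ev n p.2)).sum := fun st' h => by
      have h2 := ih (m + 1) st' (P * gn n t.2) (by omega) (by simpa only [mul_assoc] using hY.mul ht) h
      simp only [mul_assoc] at h2
      rw [h2, List.map_map, ← List.sum_map_mul_left]
      exact congrArg _ (List.map_congr_left fun p _ => by rw [Function.comp_apply, Nat.cast_mul, mul_assoc, ev_cons])
    change (t.1 : ℤ) * ∑ u ∈ HH n bl sg (m + 1), G (P * (gn n t.2 * u)) = (List.map _ (List.map _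
      (cond (Nat.beq t.2.2.1 m) (cond (!t.2.2.2 && fx st m) [] (wdp n bl sg fx k (m + 1) (m + 1)))
        (wdp n bl sg fx k (m + 1) st)))).sum
    rcases mem_brs ht with h2 | h2
    · rw [show t.2.2.1 = m from congrArg (·.2.1) h2, Nat.beq_refl, cond_true]
      cases h3 : (!t.2.2.2 && fx st m)
      · exact h1 _ (h2 ▸ hJ.close hm _)
      · rw [Bool.and_eq_true, Bool.not_eq_true'] at h3
        obtain ⟨-, -, v, h4, h5, h6⟩ := hJ
        rw [h2, h3.1, gn, show un false = 1 from rfl, sw_self]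
        exact mul_eq_zero_of_right _ (sum_eq_zero fun u hu => hZ st m _ v h3.2 hm h4 h5 (h6.mul (by
          rw [one_mul]
          exact EV.of_fix fun j hj => (mem_HH.1 hu).2.2 j (Nat.lt_succ_of_le (h5 j hj).2))))
    · rw [show t.2.2.1 = m + 1 from congrArg (·.2.1) h2.1, Bool.eq_false_iff.2 fun h =>
        (Nat.lt_succ_self m).ne' (Nat.eq_of_beq_eq_true h), cond_false]
      exact h1 _ (h2.1 ▸ hJ.link h2.2.1 _)

theorem Hy.fix0 {x : Fin n → Bool} (H : Hy κ x S y) (h1 : (1 : ℤ) ∈ S) {P : SG n} {v : ℕ → ℤ} {m : ℕ} (hm : m < n)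
    (hv : v m ≠ 0) (h : EV P v) : y P = 0 :=
  by_contra fun h0 => hv (congrFun ((H.supp _ h0).2 1 h1 (fun j => v j) fun j => (h j).trans (one_mul _).symm) ⟨m, hm⟩)

/-! ### orders -/

/-- the product of the signs at the points with `f` -/
def pr (f : ℕ → Bool) (u : SG n) : ℤˣ := ∏ j : Fin n with f (j : Fin n) = true, u.s j

theorem pr_mul {f : ℕ → Bool} (u : SG n) {v : SG n} (h : ∀ j : Fin n, f (v.π j) = f j) : pr f (u * v) = pr f u * pr f v := by
  simp only [pr, mul_s, prod_mul_distrib]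
  exact congrArg (· * _) (prod_equiv v.π (fun j => by simp only [mem_filter, mem_univ, true_and, h]) fun _ _ => rfl)

variable (n) in
/-- the sign of a generator -/
def pg (f : ℕ → Bool) (t : Gn) : Bool := t.2.2 && Nat.beq (Nat.mod t.1 n) (Nat.mod t.2.1 n) && f (Nat.mod t.1 n)

theorem pr_gn {f : ℕ → Bool} {t : Gn} (h : f (Nat.mod t.1 n) = f (Nat.mod t.2.1 n)) : pr f (gn n t) = un (pg n f t) := by
  rw [pr, gn, pg]
  by_cases h1 : Fin.ofNat n t.1 = Fin.ofNat n t.2.1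
  · rw [beq_t n (a := Nat.mod t.1 n) h1, ← h1]
    simp only [sw_s, or_self, prod_ite_eq', mem_filter, mem_univ, true_and]
    change (if f (Nat.mod t.1 n) = true then _ else _) = _
    cases f (Nat.mod t.1 n) <;> cases t.2.2 <;> rfl
  · rw [beq_f n (a := Nat.mod t.1 n) h1, Bool.and_false, Bool.false_and,
      prod_congr rfl (g := fun j => (if j = Fin.ofNat n t.1 then un t.2.2 else 1) * if j = Fin.ofNat n t.2.1 then un t.2.2 else 1)
        fun j _ => ?_, prod_mul_distrib]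
    · simp only [prod_ite_eq', mem_filter, mem_univ, true_and]
      change (if f (Nat.mod t.1 n) = true then _ else _) * (if f (Nat.mod t.2.1 n) = true then _ else _) = _
      rw [← h]
      exact Int.units_mul_self _
    · rw [sw_s]
      by_cases h2 : j = Fin.ofNat n t.1
      · rw [if_pos (Or.inl h2), if_pos h2, if_neg (h2 ▸ h1), mul_one]
      · rw [if_neg h2, one_mul]
        exact if_congr (or_iff_right h2) rfl rfl

theorem pr_conj {f : ℕ → Bool} {i j : Fin n} (h : f i = f j) (z : SG n) : pr f (sw i j 1 * z * sw i j 1) = pr f z := by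
  rw [pr_mul _ fun l => ?_]
  · simp only [pr, mul_s, sw_s, ite_self, one_mul, prod_const_one, mul_one]
  · rw [sw_π, swap_apply_def]
    split_ifs with h4 h5
    · rw [h4, h]
    · rw [h5, h]
    · rfl

variable (n) in
/-- the number of elements with given signs -/
noncomputable def cnt (bl : ℕ → ℕ) (sg f : ℕ → Bool) (c : Bool → Bool → Bool) (k : ℕ) : ℕ → Bool → Bool → ℕ :=
  Nat.rec (fun _ p q => cond (c p q) 1 0) (fun _ ih m p q => ((brs n bl sg m).map fun t => t.1 *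
    cond (xor p (pg n f t.2)) (cond (xor q (pg n (fun j => !f j) t.2)) (ih (m + 1) true true) (ih (m + 1) true false))
      (cond (xor q (pg n (fun j => !f j) t.2)) (ih (m + 1) false true) (ih (m + 1) false false))).sum) k

theorem un_dec (p b : Bool) (e : ℤˣ) : xor p (decide (un b * e = -1)) = xor (xor p b) (decide (e = -1)) := by
  revert p b e; decide

theorem cnt_spec {bl : ℕ → ℕ} {sg f : ℕ → Bool} (c : Bool → Bool → Bool) (hI : IV n bl) (hf : ∀ i j, bl i = bl j → f i = f j)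
    (k m : ℕ) (p q : Bool) (hk : m + k = n) : ∑ u ∈ HH n bl sg m, (if c (xor p (decide (pr f u = -1)))
      (xor q (decide (pr (fun j => !f j) u = -1))) = true then 1 else 0 : ℤ) = cnt n bl sg f c k m p q := by
  have h0 : ∀ m p q, Iv bl m fun u : SG n => (if c (xor p (decide (pr f u = -1)))
      (xor q (decide (pr (fun j => !f j) u = -1))) = true then 1 else 0 : ℤ) := fun m p q i j _ _ h _ _ z => by
    beta_reduce
    rw [pr_conj (hf _ _ h), pr_conj (f := fun j => !f j) (congrArg _ (hf _ _ h))]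
  induction k generalizing m p q with
  | zero =>
    rw [sum_wds hI 0 m hk (h0 _ _ _)]
    change ((1 : ℕ) : ℤ) * (if c (xor p (decide (pr f 1 = -1))) (xor q (decide (pr (fun j => !f j) 1 = -1))) = true then 1 else 0) + 0 =
      ((cond (c p q) 1 0 : ℕ) : ℤ)
    rw [show pr f (1 : SG n) = 1 from prod_const_one, show pr (fun j => !f j) (1 : SG n) = 1 from prod_const_one,
      show decide ((1 : ℤˣ) = -1) = false from rfl, Bool.xor_false, Bool.xor_false]
    cases c p q <;> rfl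
  | succ k ih =>
    have hm : m < n := by omega
    rw [sum_brs hI ⟨m, hm⟩ (h0 _ _ _)]
    change _ = ((List.sum (List.map _ _) : ℕ) : ℤ)
    rw [Nat.cast_list_sum, List.map_map]
    refine congrArg _ (List.map_congr_left fun t ht => ?_)
    have h1 : f (Nat.mod t.2.1 n) = f (Nat.mod t.2.2.1 n) := by
      rcases mem_brs ht with h | h
      · rw [h]
      · rw [h.1]
        change f (m % n) = f ((m + 1) % n)
        rw [Nat.mod_eq_of_lt hm, Nat.mod_eq_of_lt h.2.1]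
        exact hf _ _ (h.2.2 hI).symm
    rw [Function.comp_apply, Nat.cast_mul]
    refine congrArg _ ((sum_congr rfl fun u hu => ?_).trans ((ih (m + 1) (xor p (pg n f t.2))
      (xor q (pg n (fun j => !f j) t.2)) (by omega)).trans ?_))
    · have h2 := fun j => hf _ _ ((mem_HH.1 hu).1 j)
      rw [pr_mul _ h2, pr_mul (f := fun j => !f j) _ fun j => congrArg _ (h2 j), pr_gn h1,
        pr_gn (f := fun j => !f j) (congrArg _ h1), un_dec, un_dec]
    · cases xor p (pg n f t.2) <;> cases xor q (pg n (fun j => !f j) t.2) <;> rfl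

theorem sgn_pr (u : SG n) : sgn u = pr (fun _ => true) u := by
  rw [pr, filter_true_of_mem fun _ _ => rfl]
  rfl

variable (n) in
/-- the sign of a word -/
noncomputable def pw (w : List Gn) : Bool := List.rec false (fun t _ ih => xor (pg n (fun _ => true) t) ih) w

theorem pw_spec (w : List Gn) : pr (fun _ => true) (ev n w) = un (pw n w) := by
  induction w with
  | nil => exact prod_const_one
  | cons t w ih => rw [ev_cons, pr_mul _ fun _ => rfl, pr_gn rfl, ih, ← un_xor]; rfl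

/-! ### the search -/

/-- scalar product -/
noncomputable def dt (r : List ℤ) : List ℤ → ℤ :=
  List.rec (fun _ => 0) (fun b _ ih w => List.rec 0 (fun c w' _ => Int.add (Int.mul b c) (ih w')) w) r

theorem dt_range (r : List ℤ) (x : ℕ → ℤ) (j : ℕ) : dt r ((List.range j).map x) = ∑ i ∈ range j, nth r i * x i := by
  induction r generalizing x j with
  | nil => exact (sum_eq_zero fun i _ => zero_mul _).symm
  | cons b r ih =>
    rcases j with _ | j
    · rfl
    · rw [List.range_succ_eq_map, List.map_cons, List.map_map, sum_range_succ', add_comm]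
      exact congrArg (b * x 0 + ·) (ih _ j)

theorem brc (a b c : Bool) : (Bool.rec a b c : Bool) = cond c b a := by cases c <;> rfl

/-- the candidates `± a`, `i < a ≤ i + c`, of one node -/
noncomputable def upw (t M r c d w s : ℕ) (f : ℤ → ℕ → Bool) (k : ℕ) : ℕ → Bool :=
  Nat.rec (fun _ => true) (fun _ ih i => frc (Nat.succ i) fun a => frc (Nat.add s (Nat.mul w (Nat.mul a a))) fun s' =>
    Bool.rec (Bool.rec false (Bool.rec false (ih a)
      (Bool.rec true (f (Int.negSucc i) s') (Nat.beq (Nat.mod (Nat.add r (Nat.mul d a)) M) 0)))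
      (Bool.rec true (f (Int.ofNat a) s') (Nat.beq (Nat.mod (Nat.add r (Nat.mul c a)) M) 0))) true (Nat.ble t s')) k

theorem upw_spec {t M r c d w s : ℕ} {f : ℤ → ℕ → Bool} {k i : ℕ} (h : upw t M r c d w s f k i = true) {a : ℕ} (h1 : i < a)
    (h2 : a ≤ i + k) (h3 : s + w * (a * a) < t) : (M ∣ r + c * a → f a (s + w * (a * a)) = true) ∧
      (M ∣ r + d * a → f (-a) (s + w * (a * a)) = true) := by
  induction k generalizing i with
  | zero => omega
  | succ k ih =>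
    have h4 : (frc (s + w * ((i + 1) * (i + 1))) fun s' => Bool.rec (Bool.rec false (Bool.rec false
      (upw t M r c d w s f k (i + 1)) (Bool.rec true (f (-((i + 1 : ℕ) : ℤ)) s') (Nat.beq ((r + d * (i + 1)) % M) 0)))
      (Bool.rec true (f ((i + 1 : ℕ) : ℤ) s') (Nat.beq ((r + c * (i + 1)) % M) 0))) true (Nat.ble t s') : Bool) = true := h
    simp only [brc] at h4
    rw [frc_eq, Bool.eq_false_iff.2 fun e => (Nat.le_of_ble_eq_true e).not_gt (lt_of_le_of_lt (Nat.add_le_add_left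
      (Nat.mul_le_mul_left w (Nat.mul_self_le_mul_self h1)) s) h3), cond_false, Bool.cond_false_right,
      Bool.cond_false_right, Bool.and_eq_true, Bool.and_eq_true] at h4
    rcases (Nat.succ_le_of_lt h1).eq_or_lt with e | e
    · subst e
      exact ⟨fun e => by simpa only [Nat.mod_eq_zero_of_dvd e, Nat.beq_refl, cond_true] using h4.1,
        fun e => by simpa only [Nat.mod_eq_zero_of_dvd e, Nat.beq_refl, cond_true] using h4.2.1⟩
    · exact ih h4.2.2 e (by omega)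

/-- one node of the search -/
noncomputable def nod (t : ℕ) (M R C : ℤ) (w s : ℕ) (f : ℤ → ℕ → Bool) (k : ℕ) : Bool :=
  frc M.toNat fun m => frc (R % M).toNat fun r => frc (C % M).toNat fun c => frc (Nat.sub m c) fun d => frc w fun w =>
    cond (Nat.blt 0 m) (cond (cond (Nat.beq r 0) (f 0 s) true) (upw t m r c d w s f k 0) false) false

theorem nod_spec {t : ℕ} {M R C : ℤ} {w s : ℕ} {f : ℤ → ℕ → Bool} {k : ℕ} (h : nod t M R C w s f k = true) {x : ℤ}
    (h1 : x.natAbs ≤ k) (h2 : s + w * (x.natAbs * x.natAbs) < t) (h3 : M ∣ R + C * x) :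
    f x (s + w * (x.natAbs * x.natAbs)) = true := by
  simp only [nod, frc_eq, Bool.cond_false_right, Bool.and_eq_true, Nat.blt_eq] at h
  have h4 : 0 < M := Int.lt_toNat.1 h.1
  have h5 := Int.toNat_of_nonneg h4.le
  have h6 := Int.toNat_of_nonneg (Int.emod_nonneg R h4.ne')
  have h7 := Int.toNat_of_nonneg (Int.emod_nonneg C h4.ne')
  rcases Nat.eq_zero_or_pos x.natAbs with e | e
  · rw [Int.natAbs_eq_zero.1 e, mul_zero, add_zero] at h3
    rw [Int.natAbs_eq_zero.1 e]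
    have h8 := h.2.1
    rwa [Int.emod_eq_zero_of_dvd h3] at h8
  have h8 := upw_spec h.2.2 e (h1.trans_eq (zero_add _).symm) h2
  rcases Int.natAbs_eq x with e' | e'
  · rw [← e'] at h8
    refine h8.1 (Int.natCast_dvd_natCast.1 ?_)
    rw [Nat.cast_add, Nat.cast_mul, h5, h6, h7, ← e', Int.emod_def, Int.emod_def,
      show R - M * (R / M) + (C - M * (C / M)) * x = R + C * x - M * (R / M + C / M * x) by ring]
    exact dvd_sub h3 (dvd_mul_right _ _)
  · rw [← e'] at h8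
    refine h8.2 (Int.natCast_dvd_natCast.1 ?_)
    rw [Nat.cast_add, Nat.cast_mul, Nat.sub_eq, Nat.cast_sub (Int.toNat_le_toNat (Int.emod_lt_of_pos C h4).le), h5, h6, h7,
      ← neg_neg (x.natAbs : ℤ), ← e', Int.emod_def, Int.emod_def,
      show R - M * (R / M) + (M - (C - M * (C / M))) * -x = R + C * x - M * (R / M + C / M * x + x) by ring]
    exact dvd_sub h3 (dvd_mul_right _ _)

/-- the search -/
noncomputable def go (k : ℕ) (M : ℤ) (t : ℕ) (W : ℕ → ℕ) (Z : ℕ → Bool) (B : List (List ℤ))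
    (lv : List (ℕ × List (ℤ × ℕ))) : ℕ → List ℤ → ℕ → Bool :=
  List.rec (fun _ xs _ => allL (fun x => decide (x = 0)) xs) (fun l _ ih j xs s => frcLZ (comb B l.2) fun b =>
    allL (fun i => Nat.ble i j || decide (nth b i % M = 0)) (List.range k) &&
    (Z j || Nat.ble t (W j * ((l.1 + 1) * (l.1 + 1)))) &&
    nod t M (dt b xs) (nth b j) (W j) s (fun x s' => ih (j + 1) (xs ++ [x]) s') l.1) lv

theorem go_spec {k : ℕ} {M : ℤ} {t : ℕ} {W : ℕ → ℕ} {Z : ℕ → Bool} {B : List (List ℤ)} {x : ℕ → ℤ}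
    (hB : ∀ r ∈ B, M ∣ ∑ i ∈ range k, nth r i * x i) (hZ : ∀ i, Z i = true → x i = 0) (lv : List (ℕ × List (ℤ × ℕ)))
    (j s : ℕ) (hj : j + lv.length = k) (h : go k M t W Z B lv j ((List.range j).map x) s = true)
    (hs : s + ∑ i ∈ Ico j k, W i * ((x i).natAbs * (x i).natAbs) < t) : ∀ i < k, x i = 0 := by
  induction lv generalizing j s with
  | nil => exact fun i hi => of_decide_eq_true (allL_spec h _ (List.mem_map_of_mem (List.mem_range.2 (hi.trans_eq hj.symm))))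
  | cons l lv ih =>
    have h1 := (frcLZ_eq _ _).symm.trans h
    have h0 : j < k := by rw [← hj, List.length_cons]; omega
    simp only [Bool.and_eq_true, Bool.or_eq_true, Nat.ble_eq] at h1
    rw [sum_eq_sum_Ico_succ_bot h0] at hs
    have h2 := nod_spec h1.2 (x := x j) (by
      rcases h1.1.2 with h2 | h2
      · rw [hZ j h2]
        exact Nat.zero_le _
      · exact Nat.lt_succ_iff.1 (Nat.mul_self_lt_mul_self_iff.1 (Nat.lt_of_mul_lt_mul_left (a := W j)
          (lt_of_lt_of_le (by omega) h2)))) (by omega)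
    have h3 : ∀ c, M ∣ ∑ i ∈ range k, nth (comb B c) i * x i := fun c => by
      induction c with
      | nil => exact dvd_sum fun i _ => by rw [show nth (comb B []) i = 0 from rfl, zero_mul]; exact dvd_zero _
      | cons p c ih =>
        simp only [nth_comb_cons, add_mul, mul_assoc, sum_add_distrib, ← mul_sum]
        refine dvd_add (Dvd.dvd.mul_left ?_ _) ih
        rcases ntd_mem B [] p.2 with e | e
        · exact dvd_sum fun i _ => by rw [e, nth_nil, zero_mul]; exact dvd_zero _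
        · exact hB _ e
    have h4 := h3 l.2
    rw [← sum_range_add_sum_Ico _ (Nat.succ_le_of_lt h0), dvd_add_left (dvd_sum fun i hi => Dvd.dvd.mul_right
      (Int.dvd_of_emod_eq_zero (by
        have h5 := allL_spec h1.1.1 i (List.mem_range.2 (mem_Ico.1 hi).2)
        have h6 := (mem_Ico.1 hi).1
        simpa [show ¬ i ≤ j by omega] using h5)) _), sum_range_succ, ← dt_range] at h4
    replace h2 := h2 h4
    rw [← List.map_singleton, ← List.map_append, ← List.range_succ] at h2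
    exact ih (j + 1) _ (by rw [← hj, List.length_cons]; omega) h2 (by omega)

/-! ### the three kinds of sums -/

/-- the blocks of the colours -/
def blN (a j : ℕ) : ℕ := cond (Nat.blt j a) 1 0

theorem blN_eq {i j : ℕ} : blN a i = blN a j ↔ Nat.blt i a = Nat.blt j a := by
  rw [blN, blN]
  cases Nat.blt i a <;> cases Nat.blt j a <;> decide

theorem iv_blN : IV n (blN a) := fun j _ i h h1 => by
  rw [blN_eq, Bool.eq_iff_iff, Nat.blt_eq, Nat.blt_eq] at h1
  constructor <;> rw [blN_eq, Bool.eq_iff_iff, Nat.blt_eq, Nat.blt_eq] <;> omega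

theorem mem_HN {u : SG n} : u ∈ HH n (blN a) (fun _ => true) 0 ↔ ∀ j, col n a (u.π j) = col n a j :=
  mem_HH.trans ⟨fun h j => blN_eq.1 (h.1 j), fun h => ⟨fun j => blN_eq.2 (h j), fun _ h => Bool.noConfusion h,
    fun _ h => absurd h (Nat.not_lt_zero _)⟩⟩

variable (n κ a) in
/-- the norm -/
noncomputable def okN (cl : List Gn → ℕ × List Gn × List ℤ) (R : List (List Gn)) (nh : List ℕ) : Bool :=
  rk (fun _ => true) cl (ck n κ a R) (eqT R.length nh) (wdp n (blN a) (fun _ => true) (fun _ _ => true) n 0 0) []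

theorem Hy.iv (H : Hy κ (col n a) S y) {i j : Fin n} (h : col n a i = col n a j) (g : SG n) :
    y (LV.Cl.sw i j 1 * g * LV.Cl.sw i j 1) = y g := by
  by_cases h1 : i = j
  · rw [h1, sw_self, one_mul, mul_one]
  · exact H.sw i j 1 h1 h g

theorem Hy.norm (H : Hy κ (col n a) S y) (h1 : (1 : ℤ) ∈ S) {cl : List Gn → ℕ × List Gn × List ℤ} {R : List (List Gn)}
    {nh : List ℕ} (h : okN n κ a cl R nh = true) : ∑ g, y g ^ 2 = dv nh fun i => vl n R y i ^ 2 := by
  obtain ⟨tgt, h2, h3⟩ := rk_spec (F := fun w => y (XC.ev n w) ^ 2) (f := fun i => vl n R y i ^ 2)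
    (fun w i r h => by rw [H.ck h1 h]) _ _ h
  have h4 := sum_wdp (bl := blN a) (sg := fun _ => true) (fx := fun _ _ => true) (G := fun u => y u ^ 2) iv_blN
    (fun _ m P v _ h4 h5 _ h6 => by rw [H.fix0 h1 h4 h5 h6, zero_pow two_ne_zero]) n 0 0 1 (zero_add n)
    (fun i j _ _ h2 _ _ z => by simp only [one_mul, H.iv (blN_eq.1 h2)]) (JJ.new fun _ _ => ⟨rfl, rfl⟩)
  simp only [one_mul] at h4
  rw [← eqT_spec h2 fun i hi => by rw [vl, if_neg hi.not_gt, zero_pow two_ne_zero], ← h3,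
    ← sum_subset (subset_univ (HH n (blN a) (fun _ => true) 0)) fun g _ hg => by
      rw [by_contra fun e => hg (mem_HN.2 (H.supp g e).1), zero_pow two_ne_zero], h4]
  exact (add_zero _).symm

variable (n κ a) in
/-- the order of the stabiliser -/
noncomputable def okC (N : ℕ) : Bool :=
  Nat.beq (cnt n (blN a) (fun _ => true) (fun j => Nat.blt j a) (fun p q => (sgd κ true || !p) && (sgd κ false || !q))
    n 0 false false) N

theorem card_Wc {N : ℕ} (h : okC n κ a N = true) : (#(Wc κ (col n a)) : ℤ) = N := by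
  have h2 : Wc κ (col n a) = (HH n (blN a) (fun _ => true) 0).filter
      fun u => ∀ b, sgd κ b = false → ∏ j with col n a j = b, u.s j = 1 := by
    ext u
    rw [mem_filter, mem_HN, Wc, mem_filter, and_iff_right (mem_univ _)]
  rw [h2, card_filter, Nat.cast_sum, ← Nat.eq_of_beq_eq_true h, ← cnt_spec _ iv_blN (fun _ _ => blN_eq.1) n 0 _ _ (zero_add n)]
  simp only [Nat.cast_ite, Nat.cast_one, Nat.cast_zero]
  refine sum_congr rfl fun u _ => if_congr ?_ rfl rfl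
  have h3 : pr (fun j => Nat.blt j a) u = ∏ j with col n a j = true, u.s j := rfl
  have h4 : pr (fun j => !(Nat.blt j a)) u = ∏ j with col n a j = false, u.s j :=
    prod_congr (filter_congr fun _ _ => Bool.not_eq_true' _ ▸ Iff.rfl) fun _ _ => rfl
  rw [Bool.forall_bool, ← h3, ← h4]
  generalize pr (fun j => Nat.blt j a) u = e
  generalize pr (fun j => !(Nat.blt j a)) u = e'
  generalize sgd κ true = b
  generalize sgd κ false = b'
  revert e e' b b'
  decide

variable (n κ a) in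
/-- the conditions on a pair of points -/
noncomputable def okP (bl : ℕ → ℕ) (g : List Gn) (i j : ℕ) : Bool :=
  (decide (i = j) || decide (bl i ≠ bl j) || (decide (Nat.blt i a = Nat.blt j a) && decide ((im n g i).1 = i) &&
    (decide ((im n g i).2 = (im n g j).2) || decide (bl i = 0) && (decide (i = 0) || decide (j = 0) ||
      decide (bl (i - 1) ≠ bl i) || decide (bl (j - 1) ≠ bl j))))) &&
  (decide (bl i ≠ 0) || decide ((im n g i).1 = i) && decide (sgd κ (Nat.blt i a) = sgd κ true)) &&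
  (decide (j ≤ i) || decide (bl i ≠ bl j) || decide (bl (i + 1) = bl i) && decide (bl (j - 1) = bl j))

variable (n) in
/-- `g` fixes the points from `st` to `m` -/
noncomputable def fxP (g : List Gn) (st m : ℕ) : Bool :=
  allL (fun i => Nat.blt i st || Nat.blt m i || Nat.beq (im n g i).1 i && !(im n g i).2) (List.range n)

variable (n κ a) in
/-- a Levi subgroup -/
noncomputable def okL (cl : List Gn → ℕ × List Gn × List ℤ) (R : List (List Gn)) (l : List ℕ × List Gn × List ℕ) : Bool :=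
  allL (fun i => allL (okP n κ a (ntd l.1 0) l.2.1 i) (List.range n)) (List.range n) &&
  (rk (fun w => sgd κ true || !(pw n w)) (fun w => cl (w ++ l.2.1)) (fun w => ck n κ a R (w ++ l.2.1))
    (eqT R.length l.2.2) (wdp n (ntd l.1 0) (fun b => Nat.beq b 0) (fxP n l.2.1) n 0 0) [] &&
  decide ((cnt n (ntd l.1 0) (fun b => Nat.beq b 0) (fun _ => true) (fun p _ => sgd κ true || !p) n 0 false false : ℤ) =
    dv l.2.2 fun _ => 1))

theorem Hy.lev (H : Hy κ (col n a) S y) (h1 : (1 : ℤ) ∈ S) {cl : List Gn → ℕ × List Gn × List ℤ} {R : List (List Gn)}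
    {l : List ℕ × List Gn × List ℕ} (h : okL n κ a cl R l = true) : (dv l.2.2 fun _ => 1) ∣ dv l.2.2 (vl n R y) := by
  rw [okL, Bool.and_eq_true, Bool.and_eq_true] at h
  obtain ⟨hP, h, hC⟩ := h
  generalize ntd l.1 0 = bl at hP h hC
  have h2 := fun i hi j hj => allL_spec (allL_spec hP i (List.mem_range.2 hi)) j (List.mem_range.2 hj)
  simp only [okP, Bool.and_eq_true, Bool.or_eq_true, decide_eq_true_eq] at h2
  have hI : IV n bl := fun j hj i hi h3 => ((h2 i (hi.trans hj) j hj).2.resolve_left fun h4 => h4.elim hi.not_ge (· h3))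
  have h3 : ∀ i j : Fin n, i ≠ j → bl i = bl j → col n a i = col n a j ∧ (XC.ev n l.2.1).π i = i ∧
      ((bl i ≠ 0 ∨ NF bl i ∧ NF bl j) → (XC.ev n l.2.1).s i = (XC.ev n l.2.1).s j) := fun i j h3 h4 => by
    obtain ⟨⟨h5, h6⟩, h7⟩ := (h2 i i.2 j j.2).1.1.resolve_left fun h => h.elim (Fin.val_ne_of_ne h3) (· h4)
    refine ⟨h5, Fin.ext ((im_π n _ i).symm.trans h6), fun h8 => ?_⟩
    rw [← im_s, ← im_s, h7.resolve_right fun h9 => ?_]
    simp only [NF] at h8
    omega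
  have h4 : Wl κ (fun j : Fin n => (bl j : ℤ)) = (HH n bl (fun b => Nat.beq b 0) 0).filter
      fun u => sgd κ true = false → sgn u = 1 := by
    ext u
    rw [mem_filter, mem_HH, Wl, mem_filter, and_iff_right (mem_univ _)]
    refine and_congr_left fun _ => ⟨fun h => ⟨fun j => ?_, fun j hj => ?_, fun _ h => by cases h⟩, fun h j => ?_⟩
    · have h5 := h j
      rcases Int.units_eq_one_or (u.s j) with e | e <;> rw [e] at h5 <;> simp at h5 <;> omega
    · have h5 := h j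
      have h6 : bl j ≠ 0 := Nat.ne_of_beq_eq_false hj
      refine (Int.units_eq_one_or (u.s j)).resolve_right fun e => ?_
      rw [e] at h5
      simp at h5
      omega
    · rw [h.1 j]
      by_cases e : bl j = 0
      · rw [e, Nat.cast_zero, mul_zero]
      · rw [h.2.1 j (Bool.eq_false_iff.2 fun h => e (Nat.eq_of_beq_eq_true h)), Units.val_one, one_mul]
  have h5 : Iv bl 1 (fun u => y (u * XC.ev n l.2.1)) →
      ∑ u ∈ Wl κ (fun j : Fin n => (bl j : ℤ)), y (u * XC.ev n l.2.1) = dv l.2.2 (vl n R y) := fun h6 => by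
    obtain ⟨tgt, h7, h8⟩ := rk_spec (F := fun w => y (XC.ev n w * XC.ev n l.2.1)) (f := vl n R y)
      (fun w i r h => by rw [← H.ck h1 h, ev_append]) _ _ h
    have h9 := sum_wdp (sg := fun b => Nat.beq b 0) (fx := fxP n l.2.1)
      (G := fun u => if sgd κ true = false → sgn u = 1 then y (u * XC.ev n l.2.1) else 0) hI
      (fun st m P v e1 e2 e3 e4 e5 => by
        rw [H.fix0 h1 e2 e3 (e5.mul (EV.of_fix fun j hj => ?_)), ite_self]
        have e6 := allL_spec e1 j (List.mem_range.2 j.2)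
        have e7 := e4 j hj
        simp only [Bool.or_eq_true, Nat.blt_eq, Bool.and_eq_true, Nat.beq_eq, Bool.not_eq_true'] at e6
        obtain ⟨e8, e9⟩ := e6.resolve_left (by omega)
        exact ⟨Fin.ext ((im_π n _ j).symm.trans e8), by rw [← im_s, e9]; rfl⟩) n 0 0 1 (zero_add n)
      (fun i j h7 h8 h9 h10 h11 z => by
        simp only [one_mul]
        refine if_congr ?_ (h6 i j h7 h8 h9 h10 h11 z) rfl
        rw [map_mul, map_mul, mul_right_comm, Int.units_mul_self, one_mul]) (JJ.new fun _ _ => ⟨rfl, rfl⟩)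
    simp only [one_mul] at h9
    rw [h4, sum_filter, h9, ← eqT_spec (f := vl n R y) h7 fun i hi => if_neg hi.not_gt]
    refine Eq.trans (congrArg _ (List.map_congr_left fun p _ => congrArg _ (if_congr ?_ rfl rfl)))
      ((add_zero _).symm.trans h8)
    rw [sgn_pr, pw_spec]
    cases pw n p.2 <;> cases sgd κ true <;> decide
  have hW : (#(Wl κ fun j : Fin n => (bl j : ℤ)) : ℤ) = dv l.2.2 fun _ => 1 := by
    rw [h4, card_filter, Nat.cast_sum, ← of_decide_eq_true hC, ← cnt_spec _ hI (fun _ _ _ => rfl) n 0 _ _ (zero_add n)]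
    simp only [Nat.cast_ite, Nat.cast_one, Nat.cast_zero]
    refine sum_congr rfl fun u _ => if_congr ?_ rfl rfl
    rw [sgn_pr]
    generalize pr (fun _ => true) u = e
    generalize sgd κ true = b
    revert e b
    decide
  have h6 := H.levi (fun j => bl j) (XC.ev n l.2.1) (fun _ => Int.natCast_nonneg _) (fun i j h6 h7 => by
    obtain ⟨h8, h9, h10⟩ := h3 i j h6 (Nat.cast_injective h7)
    exact ⟨h8, h9, fun h => h10 (Or.inl (Int.natCast_ne_zero.1 h))⟩) fun i h6 => by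
      obtain ⟨h7, h8⟩ := (h2 i i.2 i i.2).1.2.resolve_left fun h => h (Int.natCast_eq_zero.1 h6)
      exact ⟨Fin.ext ((im_π n _ i).symm.trans h7), h8⟩
  rwa [h5 fun i j _ _ h7 h8 h9 z => ?_, hW] at h6
  by_cases e : i = j
  · rw [e, sw_self, one_mul, mul_one]
  obtain ⟨h10, h11, h12⟩ := h3 i j e h7
  have h13 := conj_sw (XC.ev n l.2.1) i j 1
  rw [h11, (h3 j i (Ne.symm e) h7.symm).2.1, h12 (Or.inr ⟨h8, h9⟩), one_mul, Int.units_mul_self,
    mul_inv_eq_iff_eq_mul] at h13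
  beta_reduce
  rw [mul_assoc, ← h13, ← mul_assoc, mul_assoc _ z, H.iv h10]

/-- the rows of the congruences -/
noncomputable def rows (M : ℤ) (LV : List (List ℕ × List Gn × List ℕ)) : List (List ℤ) :=
  LV.map fun l => l.2.2.map fun c : ℕ => (M / dv l.2.2 fun _ => 1) * c

theorem nth_map (m : ℤ) (l : List ℕ) (i : ℕ) : nth (l.map fun c : ℕ => m * c) i = m * (ntd l 0 i : ℕ) := by
  induction l generalizing i with
  | nil => exact (mul_zero _).symm
  | cons b l ih => cases i with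
    | zero => rfl
    | succ i => exact ih i

/-- **the engine** -/
theorem bd {cl : List Gn → ℕ × List Gn × List ℤ} {R : List (List Gn)} {nh : List ℕ} {N : ℕ}
    {LV : List (List ℕ × List Gn × List ℕ)} (hN : okN n κ a cl R nh = true) (hC : okC n κ a N = true)
    (hL : allL (okL n κ a cl R) LV = true) (h1 : (1 : ℤ) ∈ S) {z : Bool} (hz : z = true → (-1 : ℤ) ∈ S) (M : ℤ)
    (V : List (List ℤ)) {s t : ℕ} (lv : List (ℕ × List (ℤ × ℕ)))
    (h : (Nat.beq lv.length R.length && allL (fun l => decide (M % (dv l.2.2 fun _ => 1) = 0)) LV &&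
      go R.length M (s * N) (fun i => t * ntd nh 0 i) (fun i => z && okE n (-1) (ntd R [] i) (ntd V [] i))
        (rows M LV) lv 0 [] 0) = true) : Bd κ (col n a) S s t := fun y H h0 => by
  simp only [Bool.and_eq_true, Nat.beq_eq] at h
  have h2 : ∀ i, R.length ≤ i → vl n R y i = 0 := fun i hi => if_neg hi.not_gt
  have h3 := (H.norm h1 hN).trans (dv_eq _ _ (k := R.length) fun i hi => by rw [h2 i hi, zero_pow two_ne_zero])
  by_contra h4
  have h5 := go_spec (x := vl n R y) (fun r hr => by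
    obtain ⟨l, hl, rfl⟩ := List.mem_map.1 hr
    simp only [nth_map, mul_assoc, ← mul_sum]
    rw [← dv_eq _ _ h2]
    exact (Int.ediv_mul_cancel (Int.dvd_of_emod_eq_zero (of_decide_eq_true (allL_spec h.1.2 l hl)))).symm.dvd.trans
      (mul_dvd_mul_left _ (H.lev h1 (allL_spec hL l hl)))) (fun i hi => by
    rw [Bool.and_eq_true] at hi
    rw [vl, H.zero (hz hi.1) hi.2, ite_self]) lv 0 0 ((zero_add _).trans h.1.1) h.2 (by
    rw [card_Wc hC, h3, mul_sum, not_le] at h4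
    zify
    simpa only [zero_add, Nat.Ico_zero_eq_range, abs_mul_abs_self, mul_assoc, sq] using h4)
  rw [sum_eq_zero (s := range _) fun i hi => by rw [h5 i (mem_range.1 hi), zero_pow two_ne_zero, mul_zero],
    sum_eq_zero_iff_of_nonneg fun _ _ => sq_nonneg _] at h3
  exact h0 (funext fun g => pow_eq_zero_iff two_ne_zero |>.1 (h3 g (mem_univ g)))

/-! ### the classification (not trusted) -/

/-- the walk along the cycle of `x`: length, points, vector, sign -/
noncomputable def wk {β : Type} (c x : ℕ) (K : ℕ → ℕ → ℕ → ℕ → β) (k : ℕ) : ℕ → ℕ → ℕ → ℕ → β :=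
  Nat.rec (fun _ l P E => K l P E 0) (fun _ ih p l P E =>
    frc (Nat.add P (Nat.shiftLeft p (Nat.mul 4 l))) fun P =>
    frc (Nat.add E (Nat.shiftLeft (Nat.succ (Nat.land p 1)) (Nat.land p 14))) fun E =>
    frc (Nat.xor (gt c (Nat.shiftRight p 1)) (Nat.land p 1)) fun q =>
    Bool.rec (ih q (Nat.succ l) P E) (K (Nat.succ l) P E (Nat.land q 1)) (Nat.beq (Nat.shiftRight q 1) x)) k

/-- sorted insertion -/
noncomputable def ins (v : ℕ) (L : List ℕ) : List ℕ :=
  List.rec [v] (fun u L' ih => Bool.rec (v :: u :: L') (u :: ih) (Nat.ble (Nat.land v 7) (Nat.land u 7))) L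

/-- the cycles that start at the next `k` points -/
noncomputable def scn {β : Type} (n c : ℕ) (bad : ℕ → β) (K : List ℕ → β) (k : ℕ) : ℕ → ℕ → List ℕ → β :=
  Nat.rec (fun _ _ L => K L) (fun _ ih x V L => frc x fun x => Bool.rec (ih (Nat.succ x) V L)
    (wk c x (fun l P E s => Nat.rec (bad E) (fun _ _ => frc (Nat.add V E) fun V => frc (Nat.add (Nat.mul 8 P) l) fun v =>
      ih (Nat.succ x) V (ins v L)) s) n (Nat.mul 2 x) 0 0 0)
    (Nat.beq (Nat.land (Nat.shiftRight V (Nat.mul 2 x)) 3) 0)) k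

/-- the points of the cycles, with the right parity -/
noncomputable def fxN (e : Bool) (L : List ℕ) : ℕ :=
  frc (List.rec 0 (fun v _ ih => Nat.add (Nat.shiftRight v 3) (Nat.shiftLeft ih (Nat.mul 4 (Nat.land v 7)))) L) fun T =>
    Bool.rec (Nat.rec T (fun _ _ => List.rec T (fun v _ _ => frc (Nat.shiftRight v 3) fun P =>
      Nat.add (Nat.add (Nat.sub T P) (Nat.shiftRight P 4))
        (Nat.shiftLeft (Nat.xor (Nat.land P 15) 1) (Nat.mul 4 (Nat.pred (Nat.land v 7))))) L)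
      (Nat.land (Nat.mod (Nat.land T 0x11111111) 15) 1)) T e

/-- the place of the point `j` -/
noncomputable def fnd (j k : ℕ) : ℕ → ℕ → ℕ :=
  Nat.rec (fun i _ => i) (fun _ ih i T => Bool.rec (frc (Nat.shiftRight T 4) (ih (Nat.succ i))) i
    (Nat.beq (Nat.land T 14) j)) k

/-- the word of a table -/
noncomputable def dcN (n : ℕ) (e : ℕ → Bool) (k : ℕ) : ℕ → ℕ → List Gn → List Gn :=
  Nat.rec (fun _ _ r => r) (fun _ ih j T r => frc j fun j => frc T fun T => frc (fnd (Nat.mul 2 j) n 0 T) fun i =>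
    frc (gt T i) fun q => Nat.rec
      (Nat.rec (ih (Nat.succ j) (Nat.shiftRight T 4) r) (fun _ _ => Bool.rec
        (frc (Nat.succ j) fun j' => ih j' (Nat.xor (Nat.shiftRight T 4) 1) ((j, j', true) :: (j, j', false) :: r))
        (ih (Nat.succ j) (Nat.shiftRight T 4) ((j, j, true) :: r)) (e j)) (Nat.land q 1))
      (fun _ _ => frc (Nat.add j i) fun b => ih (Nat.succ j) (Nat.shiftRight (Nat.xor T (Nat.shiftLeft
        (Nat.xor (Nat.land q 14) (Nat.land T 15)) (Nat.mul 4 i))) 4)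
        (Nat.rec ((j, b, false) :: r) (fun _ _ => (j, b, true) :: r) (Nat.land q 1))) i) k

/-- the key of a list of cycles -/
noncomputable def kyN (L : List ℕ) (z : ℕ) : ℕ := List.rec z (fun v _ ih => Nat.add (Nat.mul 8 ih) (Nat.land v 7)) L

/-- the position in a list -/
noncomputable def pos (T : List ℕ) (x : ℕ) : ℕ := List.rec 0 (fun t _ ih => Bool.rec (Nat.succ ih) 0 (Nat.beq t x)) T

/-- the key of a type -/
noncomputable def key (l : List ℕ) : ℕ := List.rec 0 (fun c _ ih => 8 * ih + c + 1) l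

/-- the classification -/
noncomputable def cls (n : ℕ) (κ : Kd) (a : ℕ) (T : List (List ℕ)) (w : List Gn) : ℕ × List Gn × List ℤ :=
  frc (tab n w tid) fun c => (fun bad : ℕ → ℕ × List Gn × List ℤ =>
    scn n c bad (fun A => scn n c bad (fun B => (frc (kyN A (kyN B 0)) (pos (T.map key)),
      dcN n (fun j => sgd κ (Nat.blt j a)) n 0
        (Nat.add (fxN (sgd κ true) A) (Nat.shiftLeft (fxN (sgd κ false) B) (Nat.mul 4 a))) [], [])) (Nat.sub n a) a 0 [])
      a 0 0 [])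
    fun E => (T.length, [], (List.range n).map fun j =>
      Nat.rec 0 (fun s _ => Nat.rec 1 (fun _ _ => -1) s) (Nat.land (Nat.shiftRight E (Nat.mul 2 j)) 3))

/-- the representatives -/
noncomputable def rps (T : List (List ℕ)) : List (List Gn) := T.map fun l => rw' l 0

theorem allL_cons {β : Type} {f : β → Bool} {b : β} {r : List β} (h1 : f b = true) (h2 : allL f r = true) :
    allL f (b :: r) = true := by
  change cond (f b) (allL f r) false = true
  rwa [h1]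

end Cfsg.Agent.HZ.L.XC

private theorem dce_507e14bc4ca8 : _root_.True := by
  try have : _root_.True := by simp only [_root_.Cfsg.Agent.HZ.L.XC.okP.eq_1]
  try have : _root_.True := by simp only [_root_.Cfsg.Agent.HZ.L.XC.ck.eq_1]
  try have : _root_.True := by simp only [_root_.Cfsg.Agent.HZ.L.XC.dv.eq_1]
  try have : _root_.True := by simp only [_root_.Cfsg.Agent.HZ.L.XC.okL.eq_1]
  try have : _root_.True := by simp only [_root_.Cfsg.Agent.HZ.L.XC.dv.eq_def]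
  try have : _root_.True := by simp only [_root_.Cfsg.Agent.HZ.L.XC.dv.eq_2]
  try have : _root_.True := by simp only [_root_.Cfsg.Agent.HZ.L.XC.ev.congr_simp]
  try have : _root_.True := by simp only [_root_.Cfsg.Agent.HZ.L.XC.Wc.eq_1]
  try have : _root_.True := by simp only [_root_.Cfsg.Agent.HZ.L.XC.okE.eq_1]
  try have : _root_.True := by simp only [_root_.Cfsg.Agent.HZ.L.XC.NF.eq_1]
  try have : _root_.True := by simp only [_root_.Cfsg.Agent.HZ.L.XC.blN.eq_1]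
  try have : _root_.True := by simp only [_root_.Cfsg.Agent.HZ.L.XC.Wl.eq_1]
  try have : _root_.True := by simp only [_root_.Cfsg.Agent.HZ.L.XC.vl.congr_simp]
  try have : _root_.True := by simp only [_root_.Cfsg.Agent.HZ.L.XC.okG.eq_1]
  try have : _root_.True := by simp only [_root_.Cfsg.Agent.HZ.L.XC.vl.eq_1]
  exact _root_.True.intro
end

-- part: HZ/L/XC/Tr
section
set_option linter.all false
open scoped Cfsg.Agent.FastGrp

/-!
# HZ/L, exact types: the symmetries of the certificates (helper53)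
-/

set_option autoImplicit false

namespace Cfsg.Agent.HZ.L.XC

open Finset Equiv Cfsg.Agent.LV.Cl Cfsg.Agent.LV.Cl.Ey

variable {n : ℕ} {κ : Kd} {x : Fin n → Bool} {S : List ℤ} {s t : ℕ}

theorem Bd.of_equiv {x' : Fin n → Bool} {S' : List ℤ} (h : Bd κ x' S' s t) (e : SG n ≃ SG n) (h1 : #(Wc κ x') = #(Wc κ x))
    (h2 : ∀ y, Hy κ x S y → Hy κ x' S' fun g => y (e g)) : Bd κ x S s t := fun y H h0 => by
  have h3 := h _ (h2 y H) fun h3 => h0 (funext fun g => by simpa using congrFun h3 (e.symm g))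
  rwa [h1, e.sum_comp fun g => y g ^ 2] at h3

theorem neg_comm (g : SG n) : dg (fun _ => -1) * g = g * dg (fun _ => -1) :=
  SG.ext ((one_mul _).trans (mul_one _).symm) (funext fun _ => mul_comm _ _)

theorem Bd.neg (h : Bd κ x [1] s t) : Bd κ x [-1] s t :=
  h.of_equiv (Equiv.mulRight (dg fun _ => -1)) rfl fun y H => by
    refine ⟨fun i j e h1 h2 g => ?_, fun i h1 g => ?_, fun g h1 => ⟨(H.supp _ h1).1, fun μ h2 v h3 => ?_⟩,
      fun lam g h1 h2 h3 => ?_⟩
    · simp only [coe_mulRight]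
      rw [mul_assoc, ← neg_comm, ← mul_assoc, mul_assoc _ g, H.sw i j e h1 h2]
    · simp only [coe_mulRight]
      rw [mul_assoc, ← neg_comm, ← mul_assoc, mul_assoc _ g, H.tt i h1]
    · refine (H.supp _ h1).2 _ List.mem_cons_self v fun j => ?_
      have h4 := h3 j
      rw [List.mem_singleton.1 h2] at h4
      change ((g.s j * -1 : ℤˣ) : ℤ) * v (g.π j) = _
      rw [mul_neg_one, Units.val_neg, neg_mul, h4, neg_mul]
    · simp only [coe_mulRight, mul_assoc]
      exact H.levi lam _ h1 (fun i j h4 h5 => ⟨(h2 i j h4 h5).1, (h2 i j h4 h5).2.1,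
        fun h6 => congrArg (· * -1) ((h2 i j h4 h5).2.2 h6)⟩) h3

theorem Bd.flip (hκ : ∀ b, sgd κ b = sgd κ true) (h : Bd κ (fun j => !x j) S s t) : Bd κ x S s t :=
  h.of_equiv (Equiv.refl _) (congrArg _ (filter_congr fun u _ => by
    simp only [Bool.forall_bool, Bool.not_eq_eq_eq_not, Bool.not_true, Bool.not_false, hκ false, Bool.not_not]
    exact and_congr_right' and_comm)) fun y H =>
    ⟨fun i j e h1 h2 => H.sw i j e h1 (Bool.not_inj h2), fun i h1 => H.tt i ((hκ _).trans ((hκ _).symm.trans h1)),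
      fun g h1 => ⟨fun j => congrArg _ ((H.supp g h1).1 j), (H.supp g h1).2⟩, fun lam g h1 h2 h3 => H.levi lam g h1
        (fun i j h4 h5 => ⟨Bool.not_inj (h2 i j h4 h5).1, (h2 i j h4 h5).2⟩) fun i h4 => ⟨(h3 i h4).1, hκ _⟩⟩

theorem cj_π (σ : Perm (Fin n)) (g : SG n) (j : Fin n) : (MulAut.conj (pm σ) g).π (σ j) = σ (g.π j) :=
  congrArg (fun l => σ (g.π l)) (σ.symm_apply_apply j)

theorem cj_s (σ : Perm (Fin n)) (g : SG n) (j : Fin n) : (MulAut.conj (pm σ) g).s (σ j) = g.s j :=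
  (mul_one _).trans ((one_mul _).trans (congrArg g.s (σ.symm_apply_apply j)))

theorem Bd.conj (σ : Perm (Fin n)) (h : Bd κ (x ∘ σ) S s t) : Bd κ x S s t := by
  refine h.of_equiv (MulAut.conj (pm σ)).toEquiv (card_equiv (MulAut.conj (pm σ)).toEquiv fun u => ?_) fun y H =>
    ⟨fun i j e h1 h2 g => ?_, fun i h1 g => ?_, fun g h1 => ⟨fun j => ?_, fun μ h2 v h3 => ?_⟩, fun lam g h1 h2 h3 => ?_⟩
  · simp only [Wc, mem_filter, mem_univ, true_and, MulEquiv.toEquiv_eq_coe, EquivLike.coe_coe]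
    refine and_congr (σ.forall_congr fun j => by rw [cj_π]; rfl) (forall_congr' fun b => imp_congr_right fun _ =>
      Eq.congr_left (prod_equiv σ (fun j => by simp) fun j _ => (cj_s σ u j).symm))
  · have h3 : MulAut.conj (pm σ) (sw i j e) = sw (σ i) (σ j) e := (conj_sw _ _ _ _).trans (by
      rw [show (pm σ).s i = 1 from rfl, show (pm σ).s j = 1 from rfl, mul_one, mul_one]; rfl)
    simp only [MulEquiv.toEquiv_eq_coe, EquivLike.coe_coe, map_mul, h3]
    exact H.sw _ _ e (σ.injective.ne h1) h2 _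
  · have h3 : MulAut.conj (pm σ) (tt i) = tt (σ i) := conj_tt _ _
    simp only [MulEquiv.toEquiv_eq_coe, EquivLike.coe_coe, map_mul, h3]
    exact H.tt _ h1 _
  · exact (congrArg x (cj_π σ g j)).symm.trans ((H.supp _ h1).1 (σ j))
  · have h4 := (H.supp _ h1).2 μ h2 (v ∘ σ.symm) (σ.surjective.forall.2 fun j => by
      change (((MulAut.conj (pm σ) g).s (σ j) : ℤˣ) : ℤ) * v (σ.symm ((MulAut.conj (pm σ) g).π (σ j))) = μ * v (σ.symm (σ j))
      rw [cj_π, cj_s, symm_apply_apply, symm_apply_apply, h3])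
    exact funext fun j => by simpa using congrFun h4 (σ j)
  · have h4 : ∀ u, u ∈ Wl κ lam ↔ (MulAut.conj (pm σ)).toEquiv u ∈ Wl κ (lam ∘ σ.symm) := fun u => by
      simp only [Wl, mem_filter, mem_univ, true_and, MulEquiv.toEquiv_eq_coe, EquivLike.coe_coe]
      refine and_congr (σ.forall_congr fun j => by rw [cj_π, cj_s]; simp) ?_
      rw [MulAut.conj_apply, map_mul, map_mul, map_inv, mul_inv_cancel_comm]
    have h5 := H.levi (lam ∘ σ.symm) (MulAut.conj (pm σ) g) (fun _ => h1 _) (σ.surjective.forall₂.2 fun i j h5 h6 => by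
      simp only [Function.comp_apply, symm_apply_apply, cj_π, cj_s] at h6 ⊢
      obtain ⟨h7, h8, h9⟩ := h2 i j (fun e => h5 (congrArg σ e)) h6
      exact ⟨h7, congrArg σ h8, h9⟩) (σ.surjective.forall.2 fun i h5 => by
      simp only [Function.comp_apply, symm_apply_apply, cj_π] at h5 ⊢
      exact ⟨congrArg σ (h3 i h5).1, (h3 i h5).2⟩)
    rw [card_equiv _ h4]
    exact h5.trans (sum_equiv _ h4 (g := fun u => y (u * MulAut.conj (pm σ) g))
      fun u _ => congrArg y (map_mul (MulAut.conj (pm σ)) u g)).symm.dvd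

theorem exists_sort {x' : Fin n → Bool} (h : #{j | x' j = true} = #{j | x j = true}) : ∃ σ : Perm (Fin n), x ∘ σ = x' := by
  have h1 : ∀ b, Fintype.card {j // x' j = b} = Fintype.card {j // x j = b} := fun b => by
    cases b
    · have h2 := fun z : Fin n → Bool => Fintype.card_subtype_compl fun j => z j = true
      simp only [Bool.not_eq_true] at h2
      rw [h2, h2, Fintype.card_subtype, Fintype.card_subtype, h]
    · rw [Fintype.card_subtype, Fintype.card_subtype, h]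
  exact ⟨ofFiberEquiv fun b => Fintype.equivOfCardEq (h1 b), funext (ofFiberEquiv_map _)⟩

theorem Bd.sort [NeZero n] {a : ℕ} (ha : #{j | x j = true} = a) (h : Bd κ (col n a) S s t) : Bd κ x S s t := by
  obtain ⟨σ, h1⟩ := exists_sort (x := x) (x' := col n a) (by
    simp only [col, Nat.blt_eq]
    rw [Fin.card_filter_val_lt, ha, min_eq_right (ha ▸ (card_le_univ _).trans_eq (Fintype.card_fin n))])
  exact Bd.conj σ (h1 ▸ h)

theorem card_add (x : Fin n → Bool) : #{j | x j = true} + #{j | x j = false} = n := by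
  simpa using card_filter_add_card_filter_not (s := univ) fun j => x j = true

theorem Bd.sort' [NeZero n] (hκ : ∀ b, sgd κ b = sgd κ true) {a : ℕ} (ha : #{j | x j = false} = a)
    (h : Bd κ (col n a) S s t) : Bd κ x S s t :=
  Bd.flip hκ (h.sort (by simpa using ha))

end Cfsg.Agent.HZ.L.XC

private theorem dce_8a76d5e5a0d0 : _root_.True := by
  try have : _root_.True := by simp only [_root_.Cfsg.Agent.HZ.L.XC.col.eq_1]
  exact _root_.True.intro
end

-- part: HZ/L/XC/C5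
section
set_option linter.all false

/-!
# HZ/L, exact types: certificates C5 (helper53; generated by `notes/HZ/py/xc_gen.py`)
-/

set_option autoImplicit false
set_option maxRecDepth 100000
set_option Elab.async false

namespace Cfsg.Agent.HZ.L.XC

open Cfsg.Agent.TAB.Eng

/-- types -/
def Tb22 : List (List ℕ) := [[1], [0, 0]]

/-- Levi subgroups -/
def Lb22 : List (List ℕ × List Gn × List ℕ) := [([0, 0], [], [2, 1, 5])]

theorem Nb22 : okN 2 .B 2 (cls 2 .B 2 Tb22) (rps Tb22) [2, 1, 5] = true := by decide +kernel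

theorem Cb22 : okC 2 .B 2 8 = true := by decide +kernel

theorem Vb22 : allL (okL 2 .B 2 (cls 2 .B 2 Tb22) (rps Tb22)) Lb22 = true := by decide +kernel

theorem Eb22 : Bd .B (col 2 2) [1] 3 4 := bd Nb22 Cb22 Vb22 List.mem_cons_self (z := false) (by decide) 8 [] [(1, []),
    (2, [(1, 0)])] (by decide +kernel)

theorem Zb22 : Bd .B (col 2 2) [1, -1] 1 1 := bd Nb22 Cb22 Vb22 List.mem_cons_self (z := true) (by decide) 8 [[], [1]]
    [(1, []), (0, [(1, 0)])] (by decide +kernel)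

/-- types -/
def Tb21 : List (List ℕ) := [[0, 0]]

/-- Levi subgroups -/
def Lb21 : List (List ℕ × List Gn × List ℕ) := [([0, 1], [(1, 1, true)], [1, 1])]

theorem Nb21 : okN 2 .B 1 (cls 2 .B 1 Tb21) (rps Tb21) [1, 3] = true := by decide +kernel

theorem Cb21 : okC 2 .B 1 4 = true := by decide +kernel

theorem Vb21 : allL (okL 2 .B 1 (cls 2 .B 1 Tb21) (rps Tb21)) Lb21 = true := by decide +kernel

theorem Eb21 : Bd .B (col 2 1) [1] 3 4 := bd Nb21 Cb21 Vb21 List.mem_cons_self (z := false) (by decide) 2 [] [(1, [(1,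
    0)])] (by decide +kernel)

theorem Zb21 : Bd .B (col 2 1) [1, -1] 1 1 := bd Nb21 Cb21 Vb21 List.mem_cons_self (z := true) (by decide) 2 [[1]]
    [(0, [(1, 0)])] (by decide +kernel)

/-- types -/
def Tb33 : List (List ℕ) := [[2], [1, 0], [0, 0, 0]]

/-- Levi subgroups -/
def Lb33 : List (List ℕ × List Gn × List ℕ) := [([0, 1, 2], [(1, 2, false), (2, 2, true)], [0, 1, 0, 1]), ([1, 1, 1],
    [(0, 0, true), (1, 1, true), (2, 2, true)], [2, 0, 1, 3]), ([0, 0, 1], [(2, 2, true)], [0, 2, 1, 5])]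

theorem Nb33 : okN 3 .B 3 (cls 3 .B 3 Tb33) (rps Tb33) [8, 6, 1, 33] = true := by decide +kernel

theorem Cb33 : okC 3 .B 3 48 = true := by decide +kernel

theorem Vb33 : allL (okL 3 .B 3 (cls 3 .B 3 Tb33) (rps Tb33)) Lb33 = true := by decide +kernel

theorem Eb33 : Bd .B (col 3 3) [1] 1 1 := bd Nb33 Cb33 Vb33 List.mem_cons_self (z := false) (by decide) 24 [] [(2,
    [(4, 2), (-3, 1), (-2, 0)]), (2, [(1, 0)]), (6, [(1, 1), (-1, 2)])] (by decide +kernel)

/-- types -/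
def Tb32 : List (List ℕ) := [[1, 0], [0, 0, 0]]

/-- Levi subgroups -/
def Lb32 : List (List ℕ × List Gn × List ℕ) := [([1, 2, 0], [(0, 1, false), (1, 1, true)], [1, 0, 1]), ([0, 0, 1],
    [(2, 2, true)], [2, 1, 5])]

theorem Nb32 : okN 3 .B 2 (cls 3 .B 2 Tb32) (rps Tb32) [2, 1, 13] = true := by decide +kernel

theorem Cb32 : okC 3 .B 2 16 = true := by decide +kernel

theorem Vb32 : allL (okL 3 .B 2 (cls 3 .B 2 Tb32) (rps Tb32)) Lb32 = true := by decide +kernel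

theorem Eb32 : Bd .B (col 3 2) [1] 1 1 := bd Nb32 Cb32 Vb32 List.mem_cons_self (z := false) (by decide) 8 [] [(2, [(1,
    0)]), (3, [(1, 1)])] (by decide +kernel)

/-- types -/
def Tc33 : List (List ℕ) := [[2], [1, 0], [0, 0, 0]]

/-- Levi subgroups -/
def Lc33 : List (List ℕ × List Gn × List ℕ) := [([0, 1, 2], [(1, 2, false), (2, 2, true)], [0, 1, 0, 1]), ([1, 1, 1],
    [(0, 0, true), (1, 1, true), (2, 2, true)], [2, 0, 1, 3]), ([0, 0, 1], [(2, 2, true)], [0, 2, 1, 5])]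

theorem Nc33 : okN 3 .C 3 (cls 3 .C 3 Tc33) (rps Tc33) [8, 6, 1, 33] = true := by decide +kernel

theorem Cc33 : okC 3 .C 3 48 = true := by decide +kernel

theorem Vc33 : allL (okL 3 .C 3 (cls 3 .C 3 Tc33) (rps Tc33)) Lc33 = true := by decide +kernel

theorem Ec33 : Bd .C (col 3 3) [1] 1 1 := bd Nc33 Cc33 Vc33 List.mem_cons_self (z := false) (by decide) 24 [] [(2,
    [(4, 2), (-3, 1), (-2, 0)]), (2, [(1, 0)]), (6, [(1, 1), (-1, 2)])] (by decide +kernel)

/-- types -/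
def Tc31 : List (List ℕ) := [[0, 0, 0], [0, 1]]

/-- Levi subgroups -/
def Lc31 : List (List ℕ × List Gn × List ℕ) := [([0, 1, 2], [(1, 2, false), (2, 2, true)], [0, 1, 1]), ([0, 1, 1],
    [(1, 1, true), (2, 2, true)], [1, 0, 3])]

theorem Nc31 : okN 3 .C 1 (cls 3 .C 1 Tc31) (rps Tc31) [1, 2, 13] = true := by decide +kernel

theorem Cc31 : okC 3 .C 1 8 = true := by decide +kernel

theorem Vc31 : allL (okL 3 .C 1 (cls 3 .C 1 Tc31) (rps Tc31)) Lc31 = true := by decide +kernel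

theorem Ec31 : Bd .C (col 3 1) [1] 1 1 := bd Nc31 Cc31 Vc31 List.mem_cons_self (z := false) (by decide) 4 [] [(2, [(1,
    1)]), (1, [(1, 0)])] (by decide +kernel)

/-- types -/
def Td44 : List (List ℕ) := [[2, 0], [1, 1], [0, 0, 0, 0], [3], [1, 0, 0]]

/-- Levi subgroups -/
def Ld44 : List (List ℕ × List Gn × List ℕ) := [([0, 0, 0, 0], [], [32, 12, 1, 0, 0, 147]), ([0, 0, 0, 0], [(0, 0,
    true)], [0, 0, 0, 48, 12, 132])]

theorem Nd44 : okN 4 .D 4 (cls 4 .D 4 Td44) (rps Td44) [32, 12, 1, 48, 12, 279] = true := by decide +kernel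

theorem Cd44 : okC 4 .D 4 192 = true := by decide +kernel

theorem Vd44 : allL (okL 4 .D 4 (cls 4 .D 4 Td44) (rps Td44)) Ld44 = true := by decide +kernel

theorem Ed44 : Bd .D (col 4 4) [1] 3 4 := bd Nd44 Cd44 Vd44 List.mem_cons_self (z := false) (by decide) 192 [] [(2,
    []), (3, []), (11, [(1, 0)]), (1, []), (3, [(1, 1)])] (by decide +kernel)

theorem Zd44 : Bd .D (col 4 4) [1, -1] 1 1 := bd Nd44 Cd44 Vd44 List.mem_cons_self (z := true) (by decide) 192 [[1,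
    -1, 1], [], [1], [], [0, 0, 1]] [(0, []), (3, []), (0, [(1, 0)]), (1, []), (0, [(1, 1)])] (by decide +kernel)

/-- types -/
def Td42 : List (List ℕ) := [[0, 0, 0, 0], [0, 0, 1], [1, 0, 0], [1, 1]]

/-- Levi subgroups -/
def Ld42 : List (List ℕ × List Gn × List ℕ) := [([1, 1, 2, 2], [(0, 0, true), (1, 1, true), (2, 2, true), (3, 3,
    true)], [1, 0, 0, 0, 3]), ([1, 2, 0, 0], [(0, 1, false), (1, 1, true)], [0, 0, 1, 0, 3]), ([0, 0, 1, 2], [(2, 3,
    false), (3, 3, true)], [0, 1, 0, 0, 3]), ([0, 0, 1, 2], [(0, 0, true), (2, 3, false), (3, 3, true)], [0, 0, 0, 2,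
    2])]

theorem Nd42 : okN 4 .D 2 (cls 4 .D 2 Td42) (rps Td42) [1, 2, 2, 4, 55] = true := by decide +kernel

theorem Cd42 : okC 4 .D 2 16 = true := by decide +kernel

theorem Vd42 : allL (okL 4 .D 2 (cls 4 .D 2 Td42) (rps Td42)) Ld42 = true := by decide +kernel

theorem Ed42 : Bd .D (col 4 2) [1] 3 4 := bd Nd42 Cd42 Vd42 List.mem_cons_self (z := false) (by decide) 4 [] [(3, [(1,
    0)]), (2, [(1, 2)]), (2, [(1, 1)]), (1, [(1, 3)])] (by decide +kernel)

theorem Zd42 : Bd .D (col 4 2) [1, -1] 1 1 := bd Nd42 Cd42 Vd42 List.mem_cons_self (z := true) (by decide) 4 [[1],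
    [1], [0, 0, 1], []] [(0, [(1, 0)]), (0, [(1, 2)]), (0, [(1, 1)]), (1, [(1, 3)])] (by decide +kernel)

/-- types -/
def Td55 : List (List ℕ) := [[3, 0], [2, 1], [1, 0, 0, 0], [4], [2, 0, 0], [1, 1, 0], [0, 0, 0, 0, 0]]

/-- Levi subgroups -/
def Ld55 : List (List ℕ × List Gn × List ℕ) := [([1, 1, 1, 1, 1], [(0, 0, true), (1, 1, true), (2, 2, true), (3, 3,
    true), (4, 4, true)], [0, 0, 0, 24, 20, 0, 1, 75]), ([0, 0, 0, 1, 2], [(3, 4, false), (4, 4, true)], [0, 0, 0, 0,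
    0, 6, 0, 18]), ([0, 0, 0, 1, 2], [(0, 0, true), (3, 4, false), (4, 4, true)], [0, 8, 1, 0, 0, 0, 0, 15]), ([0, 0,
    0, 0, 1], [(4, 4, true)], [0, 0, 0, 0, 32, 12, 1, 147]), ([0, 0, 0, 0, 1], [(0, 0, true), (4, 4, true)], [48, 0,
    12, 0, 0, 0, 0, 132])]

theorem Nd55 : okN 5 .D 5 (cls 5 .D 5 Td55) (rps Td55) [240, 160, 20, 384, 80, 60, 1, 2895] = true :=
    by decide +kernel

theorem Cd55 : okC 5 .D 5 1920 = true := by decide +kernel

theorem Vd55 : allL (okL 5 .D 5 (cls 5 .D 5 Td55) (rps Td55)) Ld55 = true := by decide +kernel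

theorem Ed55 : Bd .D (col 5 5) [1] 3 4 := bd Nd55 Cd55 Vd55 List.mem_cons_self (z := false) (by decide) 960 [] [(2,
    [(-3, 2), (2, 4)]), (2, [(3, 2), (-2, 4)]), (8, [(1, 4), (-1, 2)]), (1, []), (4, [(8, 3), (-5, 0), (-2, 1)]), (4,
    [(1, 1)]), (37, [(2, 0), (-3, 3)])] (by decide +kernel)

theorem Zd55 : Bd .D (col 5 5) [1, -1] 1 1 := bd Nd55 Cd55 Vd55 List.mem_cons_self (z := true) (by decide) 960 [[0, 0,
    0, 0, 1], [1, -1, 1], [0, 0, 1], [1, -1, 1, -1, 1], [1, -1, 1], [0, 0, 0, 0, 1], [1]] [(0, [(-3, 2), (2, 4)]), (0,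
    [(3, 2), (-2, 4)]), (0, [(1, 4), (-1, 2)]), (0, []), (0, [(8, 3), (-5, 0), (-2, 1)]), (0, [(1, 1)]), (0, [(2, 0),
    (-3, 3)])] (by decide +kernel)

/-- types -/
def Td53 : List (List ℕ) := [[1, 0, 0, 0], [1, 0, 1], [2, 0, 0], [0, 0, 0, 0, 0], [2, 1], [0, 0, 0, 1]]

/-- Levi subgroups -/
def Ld53 : List (List ℕ × List Gn × List ℕ) := [([1, 1, 1, 2, 3], [(0, 0, true), (1, 1, true), (2, 2, true), (3, 3,
    true), (4, 4, true)], [0, 0, 2, 1, 0, 0, 3]), ([1, 1, 1, 2, 3], [(0, 0, true), (1, 1, true), (2, 2, true), (3, 4,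
    false), (4, 4, true)], [0, 0, 0, 0, 2, 1, 3]), ([1, 2, 2, 3, 3], [(0, 0, true), (1, 1, true), (2, 2, true), (3, 3,
    true), (4, 4, true)], [0, 0, 0, 1, 0, 0, 3]), ([1, 2, 3, 0, 0], [(0, 1, false), (1, 1, true), (2, 2, true)], [1,
    0, 0, 0, 0, 0, 3]), ([1, 2, 3, 0, 0], [(0, 1, false), (1, 2, false), (2, 2, true)], [0, 0, 1, 0, 0, 0, 3]), ([1,
    2, 3, 0, 0], [(0, 1, false), (1, 2, false), (2, 2, true), (3, 3, true)], [0, 0, 0, 0, 2, 0, 2]), ([0, 0, 0, 1, 2],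
    [(3, 4, false), (4, 4, true)], [0, 6, 0, 0, 0, 0, 18])]

theorem Nd53 : okN 5 .D 3 (cls 5 .D 3 Td53) (rps Td53) [6, 12, 8, 1, 16, 2, 339] = true := by decide +kernel

theorem Cd53 : okC 5 .D 3 96 = true := by decide +kernel

theorem Vd53 : allL (okL 5 .D 3 (cls 5 .D 3 Td53) (rps Td53)) Ld53 = true := by decide +kernel

theorem Ed53 : Bd .D (col 5 3) [1] 3 4 := bd Nd53 Cd53 Vd53 List.mem_cons_self (z := false) (by decide) 24 [] [(3,
    [(1, 3)]), (2, [(1, 6)]), (2, [(1, 4)]), (8, [(1, 2), (-1, 0)]), (2, [(1, 5)]), (5, [(1, 1)])] (by decide +kernel)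

theorem Zd53 : Bd .D (col 5 3) [1, -1] 1 1 := bd Nd53 Cd53 Vd53 List.mem_cons_self (z := true) (by decide) 24 [[0, 0,
    1], [0, 0, 1], [1, -1, 1], [1], [1, -1, 1], [1]] [(0, [(1, 3)]), (0, [(1, 6)]), (0, [(1, 4)]), (0, [(1, 2), (-1,
    0)]), (0, [(1, 5)]), (0, [(1, 1)])] (by decide +kernel)

end Cfsg.Agent.HZ.L.XC
end

-- part: HZ/L/XC/C6
section
prune_inst 0x20000000000000000000000004010000
set_option linter.all false

/-!
# HZ/L, exact types: certificates C6 (helper53; generated by `notes/HZ/py/xc_gen.py`)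
-/

set_option autoImplicit false
set_option maxRecDepth 100000
set_option Elab.async false

namespace Cfsg.Agent.HZ.L.XC

open Cfsg.Agent.TAB.Eng

/-- types -/
def Td66 : List (List ℕ) := [[4, 0], [3, 1], [2, 2], [1, 1, 0, 0], [2, 0, 0, 0], [0, 0, 0, 0, 0, 0], [5], [2, 1, 0],
    [3, 0, 0], [1, 1, 1], [1, 0, 0, 0, 0]]

/-- Levi subgroups -/
def Ld66 : List (List ℕ × List Gn × List ℕ) := [([1, 2, 3, 4, 4, 4], [(0, 1, false), (1, 1, true), (2, 2, true), (3,
    3, true), (4, 4, true), (5, 5, true)], [0, 0, 0, 0, 0, 0, 0, 2, 0, 0, 1, 3]), ([0, 0, 1, 2, 3, 4], [(2, 3, false),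
    (3, 4, false), (4, 5, false), (5, 5, true)], [0, 0, 0, 0, 0, 0, 0, 0, 1, 0, 0, 3]), ([0, 0, 1, 2, 3, 4], [(0, 0,
    true), (2, 3, false), (3, 3, true), (4, 5, false), (5, 5, true)], [0, 0, 0, 0, 0, 0, 0, 0, 0, 2, 0, 2]), ([0, 0,
    1, 2, 3, 4], [(0, 0, true), (2, 3, false), (3, 4, false), (4, 4, true), (5, 5, true)], [0, 0, 0, 0, 0, 0, 0, 2, 0,
    0, 0, 2]), ([0, 0, 1, 2, 3, 4], [(0, 0, true), (2, 3, false), (3, 4, false), (4, 5, false), (5, 5, true)], [0, 2,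
    0, 0, 0, 0, 0, 0, 0, 0, 0, 2]), ([1, 1, 1, 2, 2, 2], [(0, 0, true), (1, 1, true), (2, 2, true), (3, 3, true), (4,
    4, true), (5, 5, true)], [0, 0, 4, 0, 4, 1, 0, 0, 0, 0, 0, 27]), ([1, 1, 1, 1, 2, 2], [(0, 0, true), (1, 1, true),
    (2, 2, true), (3, 3, true), (4, 4, true), (5, 5, true)], [0, 0, 0, 0, 8, 1, 0, 0, 0, 0, 0, 39]), ([1, 2, 2, 2, 2,
    2], [(0, 0, true), (1, 1, true), (2, 2, true), (3, 3, true), (4, 4, true), (5, 5, true)], [24, 0, 0, 0, 20, 1, 0,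
    0, 0, 0, 0, 75]), ([0, 0, 0, 1, 2, 3], [(0, 0, true), (3, 4, false), (4, 5, false), (5, 5, true)], [0, 0, 8, 0, 1,
    0, 0, 0, 0, 0, 0, 15]), ([0, 0, 0, 0, 1, 2], [(0, 0, true), (4, 5, false), (5, 5, true)], [0, 48, 0, 12, 0, 0, 0,
    0, 0, 0, 0, 132]), ([0, 0, 0, 0, 0, 0], [(0, 0, true)], [0, 0, 0, 0, 0, 0, 3840, 960, 720, 120, 30, 17370])]

theorem Nd66 : okN 6 .D 6 (cls 6 .D 6 Td66) (rps Td66) [2304, 1440, 640, 180, 160, 1, 3840, 960, 720, 120, 30, 35685]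
    = true := by decide +kernel

theorem Cd66 : okC 6 .D 6 23040 = true := by decide +kernel

theorem Vd66_0 : okL 6 .D 6 (cls 6 .D 6 Td66) (rps Td66) ([1, 2, 3, 4, 4, 4], [(0, 1, false), (1, 1, true), (2, 2,
    true), (3, 3, true), (4, 4, true), (5, 5, true)], [0, 0, 0, 0, 0, 0, 0, 2, 0, 0, 1, 3]) = true :=
    by decide +kernel

theorem Vd66_1 : okL 6 .D 6 (cls 6 .D 6 Td66) (rps Td66) ([0, 0, 1, 2, 3, 4], [(2, 3, false), (3, 4, false), (4, 5,
    false), (5, 5, true)], [0, 0, 0, 0, 0, 0, 0, 0, 1, 0, 0, 3]) = true := by decide +kernel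

theorem Vd66_2 : okL 6 .D 6 (cls 6 .D 6 Td66) (rps Td66) ([0, 0, 1, 2, 3, 4], [(0, 0, true), (2, 3, false), (3, 3,
    true), (4, 5, false), (5, 5, true)], [0, 0, 0, 0, 0, 0, 0, 0, 0, 2, 0, 2]) = true := by decide +kernel

theorem Vd66_3 : okL 6 .D 6 (cls 6 .D 6 Td66) (rps Td66) ([0, 0, 1, 2, 3, 4], [(0, 0, true), (2, 3, false), (3, 4,
    false), (4, 4, true), (5, 5, true)], [0, 0, 0, 0, 0, 0, 0, 2, 0, 0, 0, 2]) = true := by decide +kernel

theorem Vd66_4 : okL 6 .D 6 (cls 6 .D 6 Td66) (rps Td66) ([0, 0, 1, 2, 3, 4], [(0, 0, true), (2, 3, false), (3, 4,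
    false), (4, 5, false), (5, 5, true)], [0, 2, 0, 0, 0, 0, 0, 0, 0, 0, 0, 2]) = true := by decide +kernel

theorem Vd66_5 : okL 6 .D 6 (cls 6 .D 6 Td66) (rps Td66) ([1, 1, 1, 2, 2, 2], [(0, 0, true), (1, 1, true), (2, 2,
    true), (3, 3, true), (4, 4, true), (5, 5, true)], [0, 0, 4, 0, 4, 1, 0, 0, 0, 0, 0, 27]) = true :=
    by decide +kernel

theorem Vd66_6 : okL 6 .D 6 (cls 6 .D 6 Td66) (rps Td66) ([1, 1, 1, 1, 2, 2], [(0, 0, true), (1, 1, true), (2, 2,
    true), (3, 3, true), (4, 4, true), (5, 5, true)], [0, 0, 0, 0, 8, 1, 0, 0, 0, 0, 0, 39]) = true :=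
    by decide +kernel

theorem Vd66_7 : okL 6 .D 6 (cls 6 .D 6 Td66) (rps Td66) ([1, 2, 2, 2, 2, 2], [(0, 0, true), (1, 1, true), (2, 2,
    true), (3, 3, true), (4, 4, true), (5, 5, true)], [24, 0, 0, 0, 20, 1, 0, 0, 0, 0, 0, 75]) = true :=
    by decide +kernel

theorem Vd66_8 : okL 6 .D 6 (cls 6 .D 6 Td66) (rps Td66) ([0, 0, 0, 1, 2, 3], [(0, 0, true), (3, 4, false), (4, 5,
    false), (5, 5, true)], [0, 0, 8, 0, 1, 0, 0, 0, 0, 0, 0, 15]) = true := by decide +kernel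

theorem Vd66_9 : okL 6 .D 6 (cls 6 .D 6 Td66) (rps Td66) ([0, 0, 0, 0, 1, 2], [(0, 0, true), (4, 5, false), (5, 5,
    true)], [0, 48, 0, 12, 0, 0, 0, 0, 0, 0, 0, 132]) = true := by decide +kernel

theorem Vd66_10 : okL 6 .D 6 (cls 6 .D 6 Td66) (rps Td66) ([0, 0, 0, 0, 0, 0], [(0, 0, true)], [0, 0, 0, 0, 0, 0,
    3840, 960, 720, 120, 30, 17370]) = true := by decide +kernel

theorem Vd66 : allL (okL 6 .D 6 (cls 6 .D 6 Td66) (rps Td66)) Ld66 = true := (allL_cons Vd66_0 (allL_cons Vd66_1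
    (allL_cons Vd66_2 (allL_cons Vd66_3 (allL_cons Vd66_4 (allL_cons Vd66_5 (allL_cons Vd66_6 (allL_cons Vd66_7
    (allL_cons Vd66_8 (allL_cons Vd66_9 (allL_cons Vd66_10 rfl)))))))))))

theorem Ed66 : Bd .D (col 6 6) [1] 3 4 := bd Nd66 Cd66 Vd66 List.mem_cons_self (z := false) (by decide) 23040 [] [(2,
    [(3, 5), (-5, 7), (-2, 6), (20, 8)]), (3, [(1, 4)]), (5, []), (9, [(1, 9)]), (10, [(1, 8)]), (131, [(1, 6), (1,
    7), (-1, 5)]), (2, []), (4, [(1, 3)]), (4, [(1, 1)]), (11, [(-1, 2), (-1, 0), (128, 10)]), (23, [(1, 10)])]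
    (by decide +kernel)

theorem Zd66 : Bd .D (col 6 6) [1, -1] 1 1 := bd Nd66 Cd66 Vd66 List.mem_cons_self (z := true) (by decide) 23040 [[1,
    -1, 1, -1, 1], [], [1, -1, 1], [0, 0, 0, 0, 1], [1, -1, 1], [1], [], [1, -1, 1], [0, 0, 0, 0, 1], [], [0, 0, 1]]
    [(0, [(3, 5), (-5, 7), (-2, 6), (20, 8)]), (3, [(1, 4)]), (0, []), (0, [(1, 9)]), (0, [(1, 8)]), (0, [(1, 6), (1,
    7), (-1, 5)]), (2, []), (0, [(1, 3)]), (0, [(1, 1)]), (13, [(-1, 2), (-1, 0), (128, 10)]), (0, [(1, 10)])]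
    (by decide +kernel)

/-- types -/
def Td64 : List (List ℕ) := [[2, 0, 0, 0], [1, 1, 0, 0], [0, 0, 0, 0, 0, 0], [2, 0, 1], [1, 1, 1], [0, 0, 0, 0, 1],
    [3, 0, 0], [1, 0, 0, 0, 0], [3, 1], [1, 0, 0, 1]]

/-- Levi subgroups -/
def Ld64 : List (List ℕ × List Gn × List ℕ) := [([1, 2, 3, 4, 5, 5], [(0, 1, false), (1, 1, true), (2, 3, false), (3,
    3, true), (4, 4, true), (5, 5, true)], [0, 1, 0, 0, 0, 0, 0, 0, 0, 0, 1]), ([1, 2, 3, 4, 5, 5], [(0, 1, false),
    (1, 2, false), (2, 2, true), (3, 3, true), (4, 4, true), (5, 5, true)], [1, 0, 0, 0, 0, 0, 0, 0, 0, 0, 1]), ([1,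
    2, 3, 4, 0, 0], [(0, 1, false), (1, 2, false), (2, 2, true), (3, 3, true), (4, 4, true)], [0, 0, 0, 2, 0, 0, 0, 0,
    0, 0, 2]), ([1, 2, 3, 4, 0, 0], [(0, 1, false), (1, 2, false), (2, 3, false), (3, 3, true)], [0, 0, 0, 0, 0, 0, 1,
    0, 0, 0, 3]), ([1, 2, 3, 4, 0, 0], [(0, 1, false), (1, 2, false), (2, 3, false), (3, 3, true), (4, 4, true)], [0,
    0, 0, 0, 0, 0, 0, 0, 2, 0, 2]), ([0, 0, 1, 2, 3, 4], [(0, 0, true), (2, 3, false), (3, 3, true), (4, 5, false),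
    (5, 5, true)], [0, 0, 0, 0, 2, 0, 0, 0, 0, 0, 2]), ([0, 0, 1, 2, 3, 3], [(2, 3, false), (3, 3, true), (4, 4,
    true), (5, 5, true)], [0, 0, 0, 0, 0, 0, 0, 1, 0, 0, 7]), ([0, 0, 0, 0, 1, 2], [(4, 4, true), (5, 5, true)], [32,
    12, 1, 0, 0, 0, 0, 0, 0, 0, 147]), ([0, 0, 0, 0, 1, 2], [(4, 5, false), (5, 5, true)], [0, 0, 0, 32, 12, 1, 0, 0,
    0, 0, 147]), ([0, 0, 0, 0, 1, 2], [(0, 0, true), (4, 5, false), (5, 5, true)], [0, 0, 0, 0, 0, 0, 0, 0, 48, 12,
    132])]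

theorem Nd64 : okN 6 .D 4 (cls 6 .D 4 Td64) (rps Td64) [32, 12, 1, 64, 24, 2, 48, 12, 96, 24, 2757] = true :=
    by decide +kernel

theorem Cd64 : okC 6 .D 4 768 = true := by decide +kernel

theorem Vd64 : allL (okL 6 .D 4 (cls 6 .D 4 Td64) (rps Td64)) Ld64 = true := by decide +kernel

theorem Ed64 : Bd .D (col 6 4) [1] 3 4 := bd Nd64 Cd64 Vd64 List.mem_cons_self (z := false) (by decide) 192 [] [(4,
    [(1, 1)]), (6, [(1, 0)]), (23, [(1, 7)]), (2, [(1, 2)]), (4, [(1, 5)]), (16, [(1, 8)]), (3, [(1, 3)]), (6, [(1,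
    6)]), (2, [(1, 4)]), (4, [(1, 9)])] (by decide +kernel)

theorem Zd64 : Bd .D (col 6 4) [1, -1] 1 1 := bd Nd64 Cd64 Vd64 List.mem_cons_self (z := true) (by decide) 192 [[1,
    -1, 1], [0, 0, 0, 0, 1], [1], [1, -1, 1], [], [1], [0, 0, 0, 0, 1], [0, 0, 1], [], [0, 0, 1]] [(0, [(1, 1)]), (0,
    [(1, 0)]), (0, [(1, 7)]), (0, [(1, 2)]), (5, [(1, 5)]), (0, [(1, 8)]), (0, [(1, 3)]), (0, [(1, 6)]), (2, [(1,
    4)]), (0, [(1, 9)])] (by decide +kernel)

/-- types -/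
def Td63 : List (List ℕ) := [[1, 0, 1, 0], [1, 0, 2], [1, 0, 0, 0, 0], [2, 1, 0], [0, 0, 0, 1, 0], [2, 2], [2, 0, 0,
    0], [0, 0, 0, 2], [0, 0, 0, 0, 0, 0]]

/-- Levi subgroups -/
def Ld63 : List (List ℕ × List Gn × List ℕ) := [([1, 1, 1, 2, 3, 4], [(0, 0, true), (1, 1, true), (2, 2, true), (3, 4,
    false), (4, 5, false), (5, 5, true)], [0, 0, 0, 0, 0, 2, 0, 1, 0, 3]), ([1, 2, 3, 4, 4, 4], [(0, 1, false), (1, 1,
    true), (2, 2, true), (3, 3, true), (4, 4, true), (5, 5, true)], [0, 2, 1, 0, 0, 0, 0, 0, 0, 3]), ([1, 2, 3, 4, 4,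
    4], [(0, 1, false), (1, 2, false), (2, 2, true), (3, 3, true), (4, 4, true), (5, 5, true)], [0, 0, 0, 0, 0, 2, 1,
    0, 0, 3]), ([1, 2, 3, 0, 0, 4], [(0, 1, false), (1, 1, true), (2, 2, true), (5, 5, true)], [0, 0, 1, 0, 0, 0, 0,
    0, 0, 3]), ([1, 2, 3, 0, 0, 4], [(0, 1, false), (1, 2, false), (2, 2, true), (5, 5, true)], [0, 0, 0, 0, 0, 0, 1,
    0, 0, 3]), ([0, 0, 1, 2, 3, 4], [(2, 2, true), (3, 4, false), (4, 5, false), (5, 5, true)], [0, 0, 0, 0, 0, 0, 0,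
    1, 0, 3]), ([1, 1, 1, 2, 2, 2], [(0, 0, true), (1, 1, true), (2, 2, true), (3, 3, true), (4, 4, true), (5, 5,
    true)], [0, 0, 0, 0, 0, 4, 2, 2, 1, 27]), ([0, 0, 0, 1, 2, 3], [(3, 4, false), (4, 4, true), (5, 5, true)], [6, 0,
    0, 0, 0, 0, 0, 0, 0, 18]), ([0, 0, 0, 1, 2, 3], [(3, 4, false), (4, 5, false), (5, 5, true)], [0, 6, 0, 0, 0, 0,
    0, 0, 0, 18]), ([0, 0, 0, 1, 2, 3], [(0, 0, true), (3, 4, false), (4, 4, true), (5, 5, true)], [0, 0, 0, 8, 1, 0,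
    0, 0, 0, 15])]

theorem Nd63 : okN 6 .D 3 (cls 6 .D 3 Td63) (rps Td63) [36, 48, 6, 48, 6, 64, 8, 8, 1, 2079] = true :=
    by decide +kernel

theorem Cd63 : okC 6 .D 3 576 = true := by decide +kernel

theorem Vd63 : allL (okL 6 .D 3 (cls 6 .D 3 Td63) (rps Td63)) Ld63 = true := by decide +kernel

theorem Ed63 : Bd .D (col 6 3) [1] 3 4 := bd Nd63 Cd63 Vd63 List.mem_cons_self (z := false) (by decide) 72 [] [(3,
    [(1, 7)]), (2, [(1, 8)]), (8, [(1, 3), (-1, 1)]), (2, []), (8, [(1, 9)]), (2, [(3, 0), (-2, 5)]), (7, [(1, 4),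
    (-1, 2)]), (7, [(1, 5), (-1, 0)]), (20, [(1, 6)])] (by decide +kernel)

theorem Zd63 : Bd .D (col 6 3) [1, -1] 1 1 := bd Nd63 Cd63 Vd63 List.mem_cons_self (z := true) (by decide) 72 [[0, 0,
    1], [0, 0, 1], [0, 0, 1], [1, -1, 1], [1], [1, -1, 1], [1, -1, 1], [1], [1]] [(0, [(1, 7)]), (0, [(1, 8)]), (0,
    [(1, 3), (-1, 1)]), (0, []), (0, [(1, 9)]), (0, [(3, 0), (-2, 5)]), (0, [(1, 4), (-1, 2)]), (0, [(1, 5), (-1,
    0)]), (0, [(1, 6)])] (by decide +kernel)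

end Cfsg.Agent.HZ.L.XC
end

-- part: HZ/L/XC/C7a
section
set_option linter.all false

/-!
# HZ/L, exact types: certificates C7a (helper53; generated by `notes/HZ/py/xc_gen.py`)
-/

set_option autoImplicit false
set_option maxRecDepth 100000
set_option Elab.async false

namespace Cfsg.Agent.HZ.L.XC

open Cfsg.Agent.TAB.Eng

/-- types -/
def Td77 : List (List ℕ) := [[5, 0], [4, 1], [3, 2], [2, 1, 0, 0], [3, 0, 0, 0], [1, 1, 1, 0], [1, 0, 0, 0, 0, 0],
    [6], [3, 1, 0], [4, 0, 0], [2, 2, 0], [2, 1, 1], [1, 1, 0, 0, 0], [2, 0, 0, 0, 0], [0, 0, 0, 0, 0, 0, 0]]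

/-- Levi subgroups -/
def Ld77 : List (List ℕ × List Gn × List ℕ) := [([0, 0, 1, 2, 3, 4, 5], [(2, 3, false), (3, 4, false), (4, 5, false),
    (5, 6, false), (6, 6, true)], [0, 0, 0, 0, 0, 0, 0, 0, 0, 1, 0, 0, 0, 0, 0, 3]), ([0, 0, 1, 2, 3, 4, 5], [(0, 0,
    true), (2, 3, false), (3, 4, false), (4, 4, true), (5, 6, false), (6, 6, true)], [0, 0, 0, 0, 0, 0, 0, 0, 0, 0, 0,
    2, 0, 0, 0, 2]), ([0, 0, 1, 2, 3, 4, 5], [(0, 0, true), (2, 3, false), (3, 4, false), (4, 5, false), (5, 6,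
    false), (6, 6, true)], [0, 2, 0, 0, 0, 0, 0, 0, 0, 0, 0, 0, 0, 0, 0, 2]), ([1, 2, 2, 2, 2, 3, 3], [(0, 0, true),
    (1, 1, true), (2, 2, true), (3, 3, true), (4, 4, true), (5, 5, true), (6, 6, true)], [0, 0, 0, 0, 0, 0, 0, 0, 0,
    0, 0, 0, 0, 8, 1, 39]), ([1, 2, 3, 3, 3, 3, 3], [(0, 1, false), (1, 1, true), (2, 2, true), (3, 3, true), (4, 4,
    true), (5, 5, true), (6, 6, true)], [0, 24, 0, 20, 0, 0, 1, 0, 0, 0, 0, 0, 0, 0, 0, 75]), ([0, 0, 0, 1, 2, 3, 4],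
    [(3, 4, false), (4, 5, false), (5, 6, false), (6, 6, true)], [0, 0, 0, 0, 0, 0, 0, 0, 6, 0, 0, 0, 0, 0, 0, 18]),
    ([0, 0, 0, 1, 2, 3, 4], [(0, 0, true), (3, 4, false), (4, 5, false), (5, 6, false), (6, 6, true)], [0, 0, 8, 0, 1,
    0, 0, 0, 0, 0, 0, 0, 0, 0, 0, 15]), ([1, 1, 1, 1, 1, 1, 1], [(0, 0, true), (1, 1, true), (2, 2, true), (3, 3,
    true), (4, 4, true), (5, 5, true), (6, 6, true)], [0, 0, 0, 0, 0, 0, 0, 720, 0, 504, 280, 0, 0, 70, 1, 3465]),
    ([0, 0, 0, 0, 1, 2, 3], [(4, 5, false), (5, 6, false), (6, 6, true)], [0, 0, 0, 0, 0, 0, 0, 0, 0, 0, 32, 12, 0, 1,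
    0, 147]), ([0, 0, 0, 0, 1, 2, 3], [(0, 0, true), (4, 5, false), (5, 6, false), (6, 6, true)], [0, 0, 48, 12, 0, 0,
    0, 0, 0, 0, 0, 0, 0, 0, 0, 132]), ([0, 0, 0, 0, 0, 1, 2], [(5, 6, false), (6, 6, true)], [0, 0, 0, 0, 0, 0, 0, 0,
    240, 0, 0, 160, 20, 0, 0, 1500]), ([0, 0, 0, 0, 0, 0, 1], [(0, 0, true), (6, 6, true)], [3840, 0, 0, 960, 720,
    120, 30, 0, 0, 0, 0, 0, 0, 0, 0, 17370])]

theorem Nd77 : okN 7 .D 7 (cls 7 .D 7 Td77) (rps Td77) [26880, 16128, 13440, 3360, 1680, 840, 42, 46080, 10080, 8064,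
    4480, 3360, 420, 280, 1, 509985] = true := by decide +kernel

theorem Cd77 : okC 7 .D 7 322560 = true := by decide +kernel

theorem Vd77_0 : okL 7 .D 7 (cls 7 .D 7 Td77) (rps Td77) ([0, 0, 1, 2, 3, 4, 5], [(2, 3, false), (3, 4, false), (4, 5,
    false), (5, 6, false), (6, 6, true)], [0, 0, 0, 0, 0, 0, 0, 0, 0, 1, 0, 0, 0, 0, 0, 3]) = true :=
    by decide +kernel

theorem Vd77_1 : okL 7 .D 7 (cls 7 .D 7 Td77) (rps Td77) ([0, 0, 1, 2, 3, 4, 5], [(0, 0, true), (2, 3, false), (3, 4,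
    false), (4, 4, true), (5, 6, false), (6, 6, true)], [0, 0, 0, 0, 0, 0, 0, 0, 0, 0, 0, 2, 0, 0, 0, 2]) = true :=
    by decide +kernel

theorem Vd77_2 : okL 7 .D 7 (cls 7 .D 7 Td77) (rps Td77) ([0, 0, 1, 2, 3, 4, 5], [(0, 0, true), (2, 3, false), (3, 4,
    false), (4, 5, false), (5, 6, false), (6, 6, true)], [0, 2, 0, 0, 0, 0, 0, 0, 0, 0, 0, 0, 0, 0, 0, 2]) = true :=
    by decide +kernel

theorem Vd77_3 : okL 7 .D 7 (cls 7 .D 7 Td77) (rps Td77) ([1, 2, 2, 2, 2, 3, 3], [(0, 0, true), (1, 1, true), (2, 2,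
    true), (3, 3, true), (4, 4, true), (5, 5, true), (6, 6, true)], [0, 0, 0, 0, 0, 0, 0, 0, 0, 0, 0, 0, 0, 8, 1, 39])
    = true := by decide +kernel

theorem Vd77_4 : okL 7 .D 7 (cls 7 .D 7 Td77) (rps Td77) ([1, 2, 3, 3, 3, 3, 3], [(0, 1, false), (1, 1, true), (2, 2,
    true), (3, 3, true), (4, 4, true), (5, 5, true), (6, 6, true)], [0, 24, 0, 20, 0, 0, 1, 0, 0, 0, 0, 0, 0, 0, 0,
    75]) = true := by decide +kernel

theorem Vd77_5 : okL 7 .D 7 (cls 7 .D 7 Td77) (rps Td77) ([0, 0, 0, 1, 2, 3, 4], [(3, 4, false), (4, 5, false), (5, 6,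
    false), (6, 6, true)], [0, 0, 0, 0, 0, 0, 0, 0, 6, 0, 0, 0, 0, 0, 0, 18]) = true := by decide +kernel

theorem Vd77_6 : okL 7 .D 7 (cls 7 .D 7 Td77) (rps Td77) ([0, 0, 0, 1, 2, 3, 4], [(0, 0, true), (3, 4, false), (4, 5,
    false), (5, 6, false), (6, 6, true)], [0, 0, 8, 0, 1, 0, 0, 0, 0, 0, 0, 0, 0, 0, 0, 15]) = true :=
    by decide +kernel

theorem Vd77_7 : okL 7 .D 7 (cls 7 .D 7 Td77) (rps Td77) ([1, 1, 1, 1, 1, 1, 1], [(0, 0, true), (1, 1, true), (2, 2,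
    true), (3, 3, true), (4, 4, true), (5, 5, true), (6, 6, true)], [0, 0, 0, 0, 0, 0, 0, 720, 0, 504, 280, 0, 0, 70,
    1, 3465]) = true := by decide +kernel

theorem Vd77_8 : okL 7 .D 7 (cls 7 .D 7 Td77) (rps Td77) ([0, 0, 0, 0, 1, 2, 3], [(4, 5, false), (5, 6, false), (6, 6,
    true)], [0, 0, 0, 0, 0, 0, 0, 0, 0, 0, 32, 12, 0, 1, 0, 147]) = true := by decide +kernel

theorem Vd77_9 : okL 7 .D 7 (cls 7 .D 7 Td77) (rps Td77) ([0, 0, 0, 0, 1, 2, 3], [(0, 0, true), (4, 5, false), (5, 6,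
    false), (6, 6, true)], [0, 0, 48, 12, 0, 0, 0, 0, 0, 0, 0, 0, 0, 0, 0, 132]) = true := by decide +kernel

theorem Vd77_10 : okL 7 .D 7 (cls 7 .D 7 Td77) (rps Td77) ([0, 0, 0, 0, 0, 1, 2], [(5, 6, false), (6, 6, true)], [0,
    0, 0, 0, 0, 0, 0, 0, 240, 0, 0, 160, 20, 0, 0, 1500]) = true := by decide +kernel

theorem Vd77_11 : okL 7 .D 7 (cls 7 .D 7 Td77) (rps Td77) ([0, 0, 0, 0, 0, 0, 1], [(0, 0, true), (6, 6, true)], [3840,
    0, 0, 960, 720, 120, 30, 0, 0, 0, 0, 0, 0, 0, 0, 17370]) = true := by decide +kernel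

theorem Vd77 : allL (okL 7 .D 7 (cls 7 .D 7 Td77) (rps Td77)) Ld77 = true := (allL_cons Vd77_0 (allL_cons Vd77_1
    (allL_cons Vd77_2 (allL_cons Vd77_3 (allL_cons Vd77_4 (allL_cons Vd77_5 (allL_cons Vd77_6 (allL_cons Vd77_7
    (allL_cons Vd77_8 (allL_cons Vd77_9 (allL_cons Vd77_10 (allL_cons Vd77_11 rfl))))))))))))

theorem Ed77 : Bd .D (col 7 7) [1] 3 4 := bd Nd77 Cd77 Vd77 List.mem_cons_self (z := false) (by decide) 161280 [] [(2,
    []), (3, [(1, 2)]), (4, []), (8, [(1, 9)]), (11, [(1, 6)]), (16, [(5, 4), (-32, 11)]), (75, [(13, 11), (-2, 4)]),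
    (2, []), (4, [(1, 5)]), (5, [(1, 0)]), (7, [(1, 3), (-105, 7), (248, 8), (-31, 1)]), (8, [(1, 1)]), (23, [(1,
    10)]), (29, [(1, 8)]), (491, [(1, 7)])] (by decide +kernel)

theorem Zd77 : Bd .D (col 7 7) [1, -1] 1 1 := bd Nd77 Cd77 Vd77 List.mem_cons_self (z := true) (by decide) 161280 [[0,
    0, 0, 0, 0, 0, 1], [1, -1, 1, -1, 1], [0, 0, 0, 0, 1, -1, 1], [1, -1, 1], [0, 0, 0, 0, 1], [0, 0, 0, 0, 0, 0, 1],
    [0, 0, 1], [1, -1, 1, -1, 1, -1, 1], [0, 0, 0, 0, 0, 0, 1], [1, -1, 1, -1, 1], [1, -1, 1], [1, -1, 1], [0, 0, 0,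
    0, 1], [1, -1, 1], [1]] [(0, []), (0, [(1, 2)]), (0, []), (0, [(1, 9)]), (0, [(1, 6)]), (0, [(5, 4), (-32, 11)]),
    (0, [(13, 11), (-2, 4)]), (0, []), (0, [(1, 5)]), (0, [(1, 0)]), (0, [(1, 3), (-105, 7), (248, 8), (-31, 1)]), (0,
    [(1, 1)]), (0, [(1, 10)]), (0, [(1, 8)]), (0, [(1, 7)])] (by decide +kernel)

end Cfsg.Agent.HZ.L.XC
end

-- part: HZ/L/XC/C7b
section
set_option linter.all false

/-!
# HZ/L, exact types: certificates C7b (helper53; generated by `notes/HZ/py/xc_gen.py`)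
-/

set_option autoImplicit false
set_option maxRecDepth 100000
set_option Elab.async false

namespace Cfsg.Agent.HZ.L.XC

open Cfsg.Agent.TAB.Eng

/-- types -/
def Td75 : List (List ℕ) := [[3, 0, 0, 0], [2, 1, 0, 0], [1, 0, 0, 0, 0, 0], [3, 0, 1], [2, 1, 1], [1, 0, 0, 0, 1],
    [4, 0, 0], [2, 0, 0, 0, 0], [1, 1, 0, 0, 0], [0, 0, 0, 0, 0, 0, 0], [4, 1], [2, 0, 0, 1], [1, 1, 0, 1], [0, 0, 0,
    0, 0, 1]]

/-- Levi subgroups -/
def Ld75 : List (List ℕ × List Gn × List ℕ) := [([1, 2, 3, 4, 5, 6, 6], [(0, 1, false), (1, 2, false), (2, 2, true),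
    (3, 4, false), (4, 4, true), (5, 5, true), (6, 6, true)], [0, 1, 0, 0, 0, 0, 0, 0, 0, 0, 0, 0, 0, 0, 1]), ([1, 2,
    3, 3, 3, 4, 5], [(0, 1, false), (1, 1, true), (2, 2, true), (3, 3, true), (4, 4, true), (5, 5, true), (6, 6,
    true)], [0, 2, 1, 0, 0, 0, 0, 0, 0, 0, 0, 0, 0, 0, 3]), ([1, 2, 3, 3, 3, 4, 5], [(0, 1, false), (1, 1, true), (2,
    2, true), (3, 3, true), (4, 4, true), (5, 6, false), (6, 6, true)], [0, 0, 0, 0, 2, 1, 0, 0, 0, 0, 0, 0, 0, 0,
    3]), ([1, 2, 3, 4, 4, 5, 5], [(0, 1, false), (1, 2, false), (2, 2, true), (3, 3, true), (4, 4, true), (5, 5,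
    true), (6, 6, true)], [0, 0, 0, 0, 0, 0, 0, 1, 0, 0, 0, 0, 0, 0, 3]), ([1, 2, 3, 4, 5, 0, 0], [(0, 1, false), (1,
    1, true), (2, 3, false), (3, 3, true), (4, 4, true)], [0, 0, 0, 0, 0, 0, 0, 0, 1, 0, 0, 0, 0, 0, 3]), ([1, 2, 3,
    4, 5, 0, 0], [(0, 1, false), (1, 2, false), (2, 3, false), (3, 3, true), (4, 4, true)], [1, 0, 0, 0, 0, 0, 0, 0,
    0, 0, 0, 0, 0, 0, 3]), ([1, 2, 3, 4, 5, 0, 0], [(0, 1, false), (1, 2, false), (2, 3, false), (3, 3, true), (4, 4,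
    true), (5, 5, true)], [0, 0, 0, 2, 0, 0, 0, 0, 0, 0, 0, 0, 0, 0, 2]), ([1, 2, 3, 4, 5, 0, 0], [(0, 1, false), (1,
    2, false), (2, 3, false), (3, 4, false), (4, 4, true)], [0, 0, 0, 0, 0, 0, 1, 0, 0, 0, 0, 0, 0, 0, 3]), ([1, 2, 3,
    4, 5, 0, 0], [(0, 1, false), (1, 2, false), (2, 3, false), (3, 4, false), (4, 4, true), (5, 5, true)], [0, 0, 0,
    0, 0, 0, 0, 0, 0, 0, 2, 0, 0, 0, 2]), ([0, 0, 1, 2, 3, 4, 5], [(2, 3, false), (3, 4, false), (4, 4, true), (5, 6,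
    false), (6, 6, true)], [0, 0, 0, 0, 0, 0, 0, 0, 0, 0, 0, 1, 0, 0, 3]), ([0, 0, 1, 2, 3, 4, 5], [(0, 0, true), (2,
    3, false), (3, 4, false), (4, 4, true), (5, 6, false), (6, 6, true)], [0, 0, 0, 0, 2, 0, 0, 0, 0, 0, 0, 0, 0, 0,
    2]), ([1, 1, 1, 1, 1, 2, 3], [(0, 0, true), (1, 1, true), (2, 2, true), (3, 3, true), (4, 4, true), (5, 5, true),
    (6, 6, true)], [0, 0, 0, 0, 0, 0, 24, 20, 0, 1, 0, 0, 0, 0, 75]), ([1, 1, 1, 1, 1, 2, 3], [(0, 0, true), (1, 1,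
    true), (2, 2, true), (3, 3, true), (4, 4, true), (5, 6, false), (6, 6, true)], [0, 0, 0, 0, 0, 0, 0, 0, 0, 0, 24,
    20, 0, 1, 75]), ([0, 0, 0, 0, 1, 2, 3], [(4, 4, true), (5, 5, true), (6, 6, true)], [0, 0, 0, 0, 0, 0, 0, 32, 12,
    1, 0, 0, 0, 0, 147]), ([0, 0, 0, 0, 1, 2, 3], [(4, 4, true), (5, 6, false), (6, 6, true)], [0, 0, 0, 0, 0, 0, 0,
    0, 0, 0, 0, 32, 12, 1, 147]), ([0, 0, 0, 0, 1, 2, 3], [(0, 0, true), (4, 4, true), (5, 6, false), (6, 6, true)],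
    [0, 0, 0, 48, 0, 12, 0, 0, 0, 0, 0, 0, 0, 0, 132]), ([0, 0, 0, 0, 1, 2, 2], [(0, 0, true), (4, 4, true), (5, 5,
    true), (6, 6, true)], [48, 0, 12, 0, 0, 0, 0, 0, 0, 0, 0, 0, 0, 0, 324])]

theorem Nd75 : okN 7 .D 5 (cls 7 .D 5 Td75) (rps Td75) [240, 160, 20, 480, 320, 40, 384, 80, 60, 1, 768, 160, 120, 2,
    27885] = true := by decide +kernel

theorem Cd75 : okC 7 .D 5 7680 = true := by decide +kernel

theorem Vd75 : allL (okL 7 .D 5 (cls 7 .D 5 Td75) (rps Td75)) Ld75 = true := by decide +kernel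

theorem Ed75 : Bd .D (col 7 5) [1] 3 4 := bd Nd75 Cd75 Vd75 List.mem_cons_self (z := false) (by decide) 1920 [] [(4,
    [(1, 5)]), (5, [(1, 0)]), (16, [(1, 1), (-5, 16)]), (3, [(1, 6)]), (4, [(1, 10)]), (11, [(3, 15), (-1, 2)]), (3,
    [(1, 7)]), (8, [(1, 3)]), (9, [(1, 4)]), (75, [(2, 11), (-3, 13)]), (2, [(1, 8)]), (5, [(1, 9)]), (6, [(8, 14),
    (-5, 12)]), (53, [(2, 12), (-3, 14)])] (by decide +kernel)

theorem Zd75 : Bd .D (col 7 5) [1, -1] 1 1 := bd Nd75 Cd75 Vd75 List.mem_cons_self (z := true) (by decide) 1920 [[0,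
    0, 0, 0, 1], [1, -1, 1], [0, 0, 1], [0, 0, 0, 0, 1], [1, -1, 1], [0, 0, 1], [1, -1, 1, -1, 1], [1, -1, 1], [0, 0,
    0, 0, 1], [1], [1, -1, 1, -1, 1], [1, -1, 1], [0, 0, 0, 0, 1], [1]] [(0, [(1, 5)]), (0, [(1, 0)]), (0, [(1, 1),
    (-5, 16)]), (0, [(1, 6)]), (0, [(1, 10)]), (0, [(3, 15), (-1, 2)]), (0, [(1, 7)]), (0, [(1, 3)]), (0, [(1, 4)]),
    (0, [(2, 11), (-3, 13)]), (0, [(1, 8)]), (0, [(1, 9)]), (0, [(8, 14), (-5, 12)]), (0, [(2, 12), (-3, 14)])]
    (by decide +kernel)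

/-- types -/
def Td74 : List (List ℕ) := [[2, 0, 1, 0], [1, 1, 1, 0], [0, 0, 0, 0, 1, 0], [2, 0, 2], [1, 1, 2], [2, 0, 0, 0, 0],
    [1, 1, 0, 0, 0], [0, 0, 0, 0, 2], [0, 0, 0, 0, 0, 0, 0], [3, 1, 0], [1, 0, 0, 1, 0], [3, 2], [1, 0, 0, 2], [3, 0,
    0, 0], [1, 0, 0, 0, 0, 0]]

/-- Levi subgroups -/
def Ld74 : List (List ℕ × List Gn × List ℕ) := [([1, 2, 3, 3, 4, 5, 6], [(0, 1, false), (1, 1, true), (2, 2, true),
    (3, 3, true), (4, 5, false), (5, 6, false), (6, 6, true)], [0, 0, 0, 0, 0, 0, 0, 0, 0, 0, 0, 0, 1, 0, 0, 1]), ([1,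
    2, 3, 4, 5, 5, 5], [(0, 1, false), (1, 2, false), (2, 2, true), (3, 3, true), (4, 4, true), (5, 5, true), (6, 6,
    true)], [0, 0, 0, 2, 0, 1, 0, 0, 0, 0, 0, 0, 0, 0, 0, 3]), ([1, 1, 1, 1, 2, 3, 4], [(0, 0, true), (1, 1, true),
    (2, 2, true), (3, 3, true), (4, 4, true), (5, 5, true), (6, 6, true)], [0, 0, 0, 0, 0, 8, 0, 0, 1, 0, 0, 0, 0, 0,
    0, 15]), ([1, 2, 3, 4, 0, 0, 5], [(0, 1, false), (1, 2, false), (2, 2, true), (3, 3, true), (6, 6, true)], [0, 0,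
    0, 0, 0, 1, 0, 0, 0, 0, 0, 0, 0, 0, 0, 3]), ([1, 2, 3, 4, 0, 0, 5], [(0, 1, false), (1, 2, false), (2, 2, true),
    (3, 3, true), (4, 4, true), (6, 6, true)], [2, 0, 0, 0, 0, 0, 0, 0, 0, 0, 0, 0, 0, 0, 0, 2]), ([0, 0, 1, 2, 3, 4,
    5], [(0, 0, true), (2, 3, false), (3, 3, true), (4, 5, false), (5, 5, true), (6, 6, true)], [0, 2, 0, 0, 0, 0, 0,
    0, 0, 0, 0, 0, 0, 0, 0, 2]), ([0, 0, 1, 2, 3, 4, 5], [(0, 0, true), (2, 3, false), (3, 3, true), (4, 5, false),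
    (5, 6, false), (6, 6, true)], [0, 0, 0, 0, 2, 0, 0, 0, 0, 0, 0, 0, 0, 0, 0, 2]), ([1, 2, 2, 2, 3, 3, 3], [(0, 0,
    true), (1, 1, true), (2, 2, true), (3, 3, true), (4, 4, true), (5, 5, true), (6, 6, true)], [0, 0, 0, 4, 0, 2, 0,
    2, 1, 0, 0, 0, 0, 0, 0, 27]), ([1, 2, 3, 4, 0, 0, 0], [(0, 1, false), (1, 1, true), (2, 3, false), (3, 3, true),
    (4, 4, true)], [0, 0, 0, 0, 8, 0, 1, 0, 0, 0, 0, 0, 0, 0, 0, 15]), ([1, 2, 3, 4, 0, 0, 0], [(0, 1, false), (1, 2,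
    false), (2, 3, false), (3, 3, true)], [0, 0, 0, 0, 0, 0, 0, 0, 0, 6, 0, 0, 0, 0, 0, 18]), ([1, 2, 3, 4, 0, 0, 0],
    [(0, 1, false), (1, 2, false), (2, 3, false), (3, 3, true), (4, 4, true)], [0, 0, 0, 0, 0, 0, 0, 0, 0, 0, 0, 8, 0,
    1, 0, 15]), ([1, 2, 3, 3, 0, 0, 0], [(0, 1, false), (1, 1, true), (2, 2, true), (3, 3, true)], [0, 0, 0, 0, 0, 0,
    0, 0, 0, 0, 6, 0, 0, 0, 0, 42]), ([1, 2, 3, 3, 0, 0, 0], [(0, 1, false), (1, 1, true), (2, 2, true), (3, 3, true),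
    (4, 4, true)], [0, 0, 0, 0, 0, 0, 0, 0, 0, 0, 0, 0, 8, 0, 1, 39]), ([0, 0, 0, 0, 1, 2, 3], [(4, 5, false), (5, 5,
    true), (6, 6, true)], [32, 12, 1, 0, 0, 0, 0, 0, 0, 0, 0, 0, 0, 0, 0, 147]), ([0, 0, 0, 0, 1, 2, 3], [(4, 5,
    false), (5, 6, false), (6, 6, true)], [0, 0, 0, 32, 12, 0, 0, 1, 0, 0, 0, 0, 0, 0, 0, 147])]

theorem Nd74 : okN 7 .D 4 (cls 7 .D 4 Td74) (rps Td74) [192, 72, 6, 256, 96, 32, 12, 8, 1, 288, 72, 384, 96, 48, 12,
    16857] = true := by decide +kernel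

theorem Cd74 : okC 7 .D 4 4608 = true := by decide +kernel

theorem Vd74 : allL (okL 7 .D 4 (cls 7 .D 4 Td74) (rps Td74)) Ld74 = true := by decide +kernel

theorem Ed74 : Bd .D (col 7 4) [1] 3 4 := bd Nd74 Cd74 Vd74 List.mem_cons_self (z := false) (by decide) 576 [] [(4,
    [(1, 4)]), (6, [(1, 5)]), (23, [(1, 13)]), (3, [(3, 1), (-2, 3)]), (5, [(1, 6)]), (10, [(1, 3), (-1, 1)]), (16,
    [(1, 8)]), (20, [(1, 14)]), (58, [(1, 2), (-1, 7)]), (3, [(1, 9)]), (6, [(1, 11)]), (2, []), (5, [(1, 0)]), (8,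
    [(1, 10)]), (16, [(1, 12)])] (by decide +kernel)

theorem Zd74 : Bd .D (col 7 4) [1, -1] 1 1 := bd Nd74 Cd74 Vd74 List.mem_cons_self (z := true) (by decide) 576 [[1,
    -1, 1], [0, 0, 0, 0, 0, 0, 1], [1], [1, -1, 1], [0, 0, 0, 0, 1, -1, 1], [1, -1, 1], [0, 0, 0, 0, 1], [1], [1], [0,
    0, 0, 0, 0, 0, 1], [0, 0, 1], [0, 0, 0, 0, 1, -1, 1], [0, 0, 1], [0, 0, 0, 0, 1], [0, 0, 1]] [(0, [(1, 4)]), (0,
    [(1, 5)]), (0, [(1, 13)]), (0, [(3, 1), (-2, 3)]), (0, [(1, 6)]), (0, [(1, 3), (-1, 1)]), (0, [(1, 8)]), (0, [(1,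
    14)]), (0, [(1, 2), (-1, 7)]), (0, [(1, 9)]), (0, [(1, 11)]), (0, []), (0, [(1, 0)]), (0, [(1, 10)]), (0, [(1,
    12)])] (by decide +kernel)

end Cfsg.Agent.HZ.L.XC
end

-- part: HZ/L/XC/Main
section
set_option linter.all false

/-!
# HZ/L, exact types: the certificates (helper53)
-/

set_option autoImplicit false

namespace Cfsg.Agent.HZ.L.XC

open Finset

theorem both {n : ℕ} [NeZero n] {κ : Kd} (hκ : ∀ b, sgd κ b = sgd κ true) {x : Fin n → Bool} {a s t s' t' : ℕ}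
    (ha : #{j | x j = true} = a ∨ #{j | x j = false} = a) (h1 : Bd κ (col n a) [1] s t) (h2 : Bd κ (col n a) [1, -1] s' t') :
    Bd κ x [1] s t ∧ Bd κ x [-1] s t ∧ Bd κ x [1, -1] s' t' :=
  ha.elim (fun ha => ⟨h1.sort ha, (h1.sort ha).neg, h2.sort ha⟩)
    fun ha => ⟨h1.sort' hκ ha, (h1.sort' hκ ha).neg, h2.sort' hκ ha⟩

/-- **the certificates** -/
theorem box : Box := by
  refine ⟨fun n h4 h7 x h => ?_, fun x => ?_, fun x => ?_, fun x h => ?_⟩
  · have h1 := card_add x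
    have h2 := h true
    have h3 := h false
    interval_cases n
    · rcases (by omega : (#{j | x j = true} = 4 ∨ #{j | x j = false} = 4) ∨
        (#{j | x j = true} = 2 ∨ #{j | x j = false} = 2)) with h | h
      exacts [both (fun _ => rfl) h Ed44 Zd44, both (fun _ => rfl) h Ed42 Zd42]
    · rcases (by omega : (#{j | x j = true} = 5 ∨ #{j | x j = false} = 5) ∨
        (#{j | x j = true} = 3 ∨ #{j | x j = false} = 3)) with h | h
      exacts [both (fun _ => rfl) h Ed55 Zd55, both (fun _ => rfl) h Ed53 Zd53]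
    · rcases (by omega : (#{j | x j = true} = 6 ∨ #{j | x j = false} = 6) ∨
        (#{j | x j = true} = 4 ∨ #{j | x j = false} = 4) ∨ (#{j | x j = true} = 3 ∨ #{j | x j = false} = 3)) with h | h | h
      exacts [both (fun _ => rfl) h Ed66 Zd66, both (fun _ => rfl) h Ed64 Zd64, both (fun _ => rfl) h Ed63 Zd63]
    · rcases (by omega : (#{j | x j = true} = 7 ∨ #{j | x j = false} = 7) ∨
        (#{j | x j = true} = 5 ∨ #{j | x j = false} = 5) ∨ (#{j | x j = true} = 4 ∨ #{j | x j = false} = 4)) with h | h | h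
      exacts [both (fun _ => rfl) h Ed77 Zd77, both (fun _ => rfl) h Ed75 Zd75, both (fun _ => rfl) h Ed74 Zd74]
  · have h1 := card_add x
    rcases (by omega : (#{j | x j = true} = 2 ∨ #{j | x j = false} = 2) ∨
      (#{j | x j = true} = 1 ∨ #{j | x j = false} = 1)) with h | h
    exacts [both (fun _ => rfl) h Eb22 Zb22, both (fun _ => rfl) h Eb21 Zb21]
  · have h1 := card_add x
    have h2 : Bd .B x [1] 1 1 := by
      rcases (by omega : #{j | x j = true} = 3 ∨ #{j | x j = false} = 3 ∨ #{j | x j = true} = 2 ∨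
        #{j | x j = false} = 2) with h | h | h | h
      exacts [Eb33.sort h, Eb33.sort' (fun _ => rfl) h, Eb32.sort h, Eb32.sort' (fun _ => rfl) h]
    exact ⟨h2, h2.neg⟩
  · have h1 := card_add x
    have h2 : Bd .C x [1] 1 1 := h.elim (fun h => Ec33.sort (by omega)) fun h => Ec31.sort (by omega)
    exact ⟨h2, h2.neg⟩

end Cfsg.Agent.HZ.L.XC
end

-- part: HZ/L/SL/TA
section
prune_inst 0x20000000000000000000000004010000
set_option linter.all false
open scoped Cfsg.Agent.FastGrp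

/-!
# HZ/L/SL: labels in coordinates (helper34)

`TA.of_perm` (all permutations of the blocks occur), `TA.lift` (`c = pl J a`), `TA.tl_iff` (conjugate labels: `a' (π i) = z * a i`),
`TA.qi_iff` (the stabiliser of a quasi-isolated label is transitive on every block), `TA.ht_iff`.
-/

set_option autoImplicit false
set_option linter.unusedSectionVars false
set_option maxHeartbeats 200000

namespace Cfsg.Agent.HZ.L.SL.TA

open Cfsg Cfsg.Agent.DL Cfsg.Agent.DL.PP Matrix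

variable {R : Type} [Fintype R] [DecidableEq R] {Ψ : RS R} {A B : Mat R} (T : TA Ψ B)

theorem of_perm (π : Equiv.Perm (Fin T.n)) (h : ∀ i, T.blk (π i) = T.blk i) : ∃ A ∈ WW Ψ, T.Act A π := by
  induction hn : π.support.card using Nat.strong_induction_on generalizing π with
  | _ n ih =>
    by_cases h1 : π = 1
    · exact ⟨1, one_mem _, h1 ▸ T.act_one⟩
    obtain ⟨i, hi⟩ : ∃ i, π i ≠ i := by simpa [Equiv.ext_iff] using h1
    obtain ⟨A, hA, h2⟩ := ih _ (hn ▸ Equiv.Perm.card_support_swap_mul hi) (Equiv.swap i (π i) * π) (fun l => by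
      rw [← h l, Equiv.Perm.mul_apply, Equiv.swap_apply_def]
      split_ifs with e1 e2
      exacts [(h i).trans (congrArg _ e1.symm), (h i).symm.trans (congrArg _ e2.symm), rfl]) rfl
    refine ⟨_, mul_mem (rfm_mem (T.rt_mem hi.symm (h i).symm)) hA, ?_⟩
    have h3 := (T.act_rfm (a := (_, T.co i (π i))) rfl (T.J_co _ _)).mul h2
    rwa [Equiv.swap_mul_self_mul] at h3

variable {T} in
theorem Act.eq {A' : Mat R} {π : Equiv.Perm (Fin T.n)} (h : T.Act A π) (h' : T.Act A' π) : A = A' :=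
  Matrix.ext fun i j => by
    have h1 : A *ᵥ Pi.single j 1 = A' *ᵥ Pi.single j 1 := T.inj' (funext fun l => by
      rw [← π.apply_symm_apply l, h, h'])
    simpa using congrFun h1 i

theorem chr_co (i j : Fin T.n) (a : Lb (Fin T.n)) : chr (T.co i j) (pl T.J a) = a i * (a j)⁻¹ := by
  rw [chr_pl, T.J_co, rt, chr_sub, chr_single, chr_single]

/-- every label is a restriction -/
theorem lift (c : Lb R) : ∃ a : Lb (Fin T.n), pl T.J a = c := by
  rcases isEmpty_or_nonempty (Fin T.n) with h | ⟨⟨o⟩⟩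
  · refine ⟨1, funext fun i => absurd (congrFun (T.inj (Pi.single i 1) (Subsingleton.elim _ _)) i) (by simp)⟩
  let K : Matrix R (Fin T.n) ℤ := of fun i j => T.co j o i
  have h1 : ∀ v, K *ᵥ (T.J *ᵥ v) = v := fun v => T.inj' (funext fun l => by
    have h2 : K *ᵥ (T.J *ᵥ v) = ∑ j, (T.J *ᵥ v) j • T.co j o := funext fun i => by
      simp [K, mulVec, dotProduct, mul_comm]
    have h3 := (T.img _).1 ⟨v, rfl⟩
    rw [h2, mulVec_sum, Finset.sum_apply]
    simp only [mulVec_smul, T.J_co, Pi.smul_apply, rt_apply, smul_eq_mul, mul_sub, Finset.sum_sub_distrib,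
      ← Finset.sum_mul, h3]
    simp)
  exact ⟨pl K c, funext fun i => by rw [← chr_single i (pl _ _), chr_pl, chr_pl, h1, chr_single]⟩

variable {T}

theorem Act.chr_eq {π : Equiv.Perm (Fin T.n)} (h : T.Act A π) (v : Vec R) (a : Lb (Fin T.n)) :
    chr (A *ᵥ v) (pl T.J a) = chr v (pl T.J (a ∘ π)) := by
  rw [chr_pl, chr_pl, chr_apply, chr_apply, ← Equiv.prod_comp π]
  exact Finset.prod_congr rfl fun i _ => by rw [h]; rfl

theorem pl_eq_iff {a a' : Lb (Fin T.n)} : pl T.J a' = pl T.J a ↔ ∃ z, ∀ i, a' i = z * a i := by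
  refine ⟨fun h => ?_, fun ⟨z, h⟩ => funext fun i => ?_⟩
  · rcases isEmpty_or_nonempty (Fin T.n) with h1 | ⟨⟨o⟩⟩
    · exact ⟨1, h1.elim⟩
    refine ⟨a' o * (a o)⁻¹, fun i => ?_⟩
    have h1 := (T.chr_co i o a').symm.trans (h ▸ T.chr_co i o a)
    rw [mul_inv_eq_iff_eq_mul.1 h1]
    ac_rfl
  · rw [← chr_single i (pl _ _), ← chr_single i (pl _ a), chr_pl, chr_pl, chr_apply, chr_apply]
    simp only [h, mul_zpow, Finset.prod_mul_distrib]
    rw [← zpow_sum', (T.img _).1 ⟨_, rfl⟩, zpow_zero, one_mul]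

/-- conjugate labels -/
theorem Act.tl_iff {π : Equiv.Perm (Fin T.n)} (h : T.Act A π) {a a' : Lb (Fin T.n)} :
    Tl A (pl T.J a) (pl T.J a') ↔ ∃ z, ∀ i, a' (π i) = z * a i := by
  simp only [Tl, h.chr_eq]
  exact Iff.trans ⟨fun e => funext fun i => by rw [← chr_single i (pl _ _), e, chr_single], fun e v => by rw [e]⟩
    (pl_eq_iff (a' := a' ∘ π))

/-- **quasi-isolated labels** -/
theorem qi_iff {a : Lb (Fin T.n)} : QI Ψ (pl T.J a) ↔ ∀ i j, T.blk i = T.blk j →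
    ∃ (π : Equiv.Perm (Fin T.n)) (z : ℂˣ), (∀ l, T.blk (π l) = T.blk l) ∧ (∀ l, a (π l) = z * a l) ∧ π i = j := by
  classical
  refine ⟨fun h i j e => ?_, fun h lam h1 b hb => ?_⟩
  · by_cases hij : i = j
    · exact ⟨1, 1, fun _ => rfl, fun _ => (one_mul _).symm, hij⟩
    let O : Fin T.n → Prop := fun j =>
      ∃ (π : Equiv.Perm (Fin T.n)) (z : ℂˣ), (∀ l, T.blk (π l) = T.blk l) ∧ (∀ l, a (π l) = z * a l) ∧ π i = j
    obtain ⟨lam, h1⟩ := (T.img fun l => T.n * (if O l then 1 else 0) - ∑ m, if O m then 1 else 0).2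
      (by rw [Finset.sum_sub_distrib, ← Finset.mul_sum]; simp)
    have h2 := h lam (fun A hA e => T.inj' (funext fun l => ?_)) _ (T.rt_mem hij e)
    · rw [T.dot, h1, sub_sub_sub_cancel_right, ← mul_sub, mul_eq_zero, or_iff_right (Nat.cast_ne_zero.2 i.pos.ne'),
        if_pos ⟨1, 1, fun _ => rfl, fun _ => (one_mul _).symm, rfl⟩] at h2
      by_contra h3
      rw [if_neg h3] at h2
      exact one_ne_zero h2
    obtain ⟨π, h2, h3⟩ := T.perm hA
    obtain ⟨z, h4⟩ := h3.tl_iff.1 e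
    obtain ⟨l, rfl⟩ := π.surjective l
    rw [h3, h1]
    refine congrArg (_ * · - _) (if_congr ⟨fun ⟨π', z', e1, e2, e3⟩ => ⟨π * π', z * z', fun m => (h2 _).trans (e1 m),
      fun m => by rw [Equiv.Perm.mul_apply, h4, e2, mul_assoc], congrArg π e3⟩,
      fun ⟨π', z', e1, e2, e3⟩ => ⟨π⁻¹ * π', z⁻¹ * z', fun m => ?_, fun m => ?_, ?_⟩⟩ rfl rfl)
    · rw [← h2, Equiv.Perm.mul_apply, Equiv.Perm.coe_inv, Equiv.apply_symm_apply, e1]
    · rw [mul_assoc, ← e2, eq_inv_mul_iff_mul_eq, ← h4, Equiv.Perm.mul_apply, Equiv.Perm.coe_inv, Equiv.apply_symm_apply]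
    · rw [Equiv.Perm.mul_apply, e3, Equiv.Perm.coe_inv, Equiv.symm_apply_apply]
  · obtain ⟨i, j, -, e1, e2, -⟩ := (T.mem b).1 hb
    obtain ⟨π, z, h2, h3, rfl⟩ := h i j e1
    obtain ⟨A, hA, h4⟩ := T.of_perm π h2
    rw [e2, T.dot, ← h4 lam i, h1 A hA (h4.tl_iff.2 ⟨z, h3⟩), sub_self]

/-- **the labels `ht`** -/
theorem ht_iff {a : Lb (Fin T.n)} : L.ht Ψ A (pl T.J a) ↔ QI Ψ (pl T.J a) ∧
    ∃ i j, T.blk i = T.blk j ∧ 4 ∣ orderOf (a i * (a j)⁻¹) := by
  refine and_congr_right fun _ => ⟨fun ⟨b, hb, h⟩ => ?_, fun ⟨i, j, e, h⟩ => ?_⟩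
  · obtain ⟨i, j, -, e1, -, e2⟩ := (T.mem b).1 hb
    exact ⟨i, j, e1, by rwa [T.inj' (e2.trans (T.J_co i j).symm), T.chr_co] at h⟩
  · refine ⟨_, T.rt_mem (fun e : i = j => ?_) e, by rwa [T.chr_co]⟩
    rw [e, mul_inv_cancel, orderOf_one] at h
    omega

end Cfsg.Agent.HZ.L.SL.TA

private theorem dce_d31267a34a01 : _root_.True := by
  try have : _root_.True := by simp only [_root_.Cfsg.Agent.HZ.L.Tl.eq_1]
  exact _root_.True.intro
end

-- part: HZ/L/T3/Fin1
section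
prune_inst 0x43010350537220200001c0012e2005db393000090100b000000e60a0005c548212d42ae216a6005028830945c1835004813100120420000000a003600411c01a098e00200f189000404000f800802010000000000020000000000000000000000004010000
set_option linter.all false
open scoped Cfsg.Agent.FastGrp

/-!
# HZ/L/T3: the Weyl group as a group of permutations, tori whose involutions are central (helper34)
-/

set_option autoImplicit false
set_option linter.unusedSectionVars false
set_option maxHeartbeats 200000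

namespace Cfsg.Agent.HZ.L.T3

open Cfsg Cfsg.Agent.DL Cfsg.Agent.DL.PP Matrix Cfsg.Agent.KZ.Lie Equiv SL

variable {p : ℕ} [Fact p.Prime] {k : Type} [Field k] [CharP k p] [IsAlgClosed k] {Y : Type} [Group Y] {N : Type}
  [Fintype N] [DecidableEq N] {ρ : Y →* GL N k} {F : MulAut Y} {G : Subgroup Y} {D : Datum p ρ F G}
  {j : ℕ} {B : Mat D.R} {u v w : D.W}

variable (D) in
/-- the involutions of the torus of type `w` are central -/
def C2 (w : D.W) : Prop :=
  ∀ x : Vec D.R, (∀ i, (2 : ℤ) ∣ ((D.Wm w * D.Mx - 1) *ᵥ x) i) → ∀ a ∈ rts D, (2 : ℤ) ∣ a.1 ⬝ᵥ x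

namespace Fin

variable (T : TA (rts D) B)

theorem perm_eq {π π' : Perm (Fin T.n)} (h : ∀ v i, (T.J *ᵥ v) (π i) = (T.J *ᵥ v) (π' i)) : π = π' :=
  Equiv.ext fun i => by_contra fun e => by
    have := h (T.co (π i) (π' i)) i
    simp [T.J_co, rt_apply, e, Ne.symm e] at this

theorem act_unique {A : Mat D.R} {π π' : Perm (Fin T.n)} (h : T.Act A π) (h' : T.Act A π') : π = π' :=
  inv_injective (perm_eq T fun v i => by
    rw [← h v, ← h' v, apply_inv_self, apply_inv_self])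

/-- the permutation of an element of the Weyl group -/
noncomputable def pm : D.W →* Perm (Fin T.n) := MonoidHom.mk' (fun w => (T.perm (Wm_mem w)).choose) fun a b =>
  act_unique T (T.perm (Wm_mem _)).choose_spec.2 (by
    rw [D.Wm_mul]; exact (T.perm (Wm_mem _)).choose_spec.2.mul (T.perm (Wm_mem _)).choose_spec.2)

theorem act_pm (w : D.W) : T.Act (D.Wm w) (pm T w) := (T.perm (Wm_mem w)).choose_spec.2

theorem blk_pm (w : D.W) (i : Fin T.n) : T.blk (pm T w i) = T.blk i := (T.perm (Wm_mem w)).choose_spec.1 i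

theorem pm_inj : Function.Injective (pm T) := fun a b e => D.Wm_injective ((act_pm T a).eq (e ▸ act_pm T b))

theorem pm_sur {π : Perm (Fin T.n)} (h : ∀ i, T.blk (π i) = T.blk i) : ∃ w, pm T w = π := by
  obtain ⟨A, hA, e⟩ := T.of_perm π h
  obtain ⟨w, rfl⟩ := mem_WW.1 hA
  exact ⟨w, act_unique T (act_pm T w) e⟩

theorem act_tw (w : D.W) (x : Vec D.R) (i : Fin T.n) :
    (T.J *ᵥ ((D.Wm w * B) *ᵥ x)) ((pm T w * T.π) i) = T.ε * (T.J *ᵥ x) i := by
  rw [← mulVec_mulVec, Perm.mul_apply, act_pm, T.hB]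

theorem pm_Fw (h : St D j B) (v : D.W) : pm T (D.Fw v) * T.π = T.π * pm T v :=
  inv_injective (perm_eq T fun x i => mul_left_cancel₀ T.ε.ne_zero (by
    have h1 : D.Wm (D.Fw v) * B = B * D.Wm v := smul_right_injective _ h.q_ne (by
      show _ • _ = _ • _
      rw [← h.WM, ← D.Mx_Wm, h.mx, smul_mul_assoc])
    rw [← act_tw, apply_inv_self, h1, ← act_pm T v x, ← T.hB, ← Perm.mul_apply, apply_inv_self, mulVec_mulVec x B]))

theorem tc_iff (h : St D j B) {w' : D.W} : Tc D v w w' ↔ pm T v * (pm T w * T.π) = pm T w' * T.π * pm T v := by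
  rw [Tc, ← (pm_inj T).eq_iff, map_mul, map_mul, mul_assoc, ← pm_Fw T h, ← mul_assoc, ← mul_assoc, mul_left_inj, eq_comm]

theorem mem_Wl {lam : Vec D.R} : u ∈ Wl D lam ↔ ∀ i, (T.J *ᵥ lam) (pm T u i) = (T.J *ᵥ lam) i :=
  ⟨fun h i => by rw [← act_pm T u lam i, show D.Wm u *ᵥ lam = lam from h], fun h => T.inj' (funext fun i => by
    rw [← apply_inv_self (pm T u) i, act_pm, h])⟩

theorem exists_lam {β : Type} (f : Fin T.n → β) : ∃ lam, ∀ i j, (T.J *ᵥ lam) i = (T.J *ᵥ lam) j ↔ f i = f j := by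
  obtain ⟨lam, h⟩ := T.exists_vec fun i => ((Quotient.mk (Setoid.ker f) i).out : ℕ)
  refine ⟨lam, fun i j => ?_⟩
  rw [← sub_eq_zero, h, mul_eq_zero, or_iff_right (Nat.cast_ne_zero.2 i.pos.ne'), sub_eq_zero, Nat.cast_inj, Fin.val_inj,
    Quotient.out_inj, Quotient.eq, Setoid.ker_def]

theorem even_set (hp : p ≠ 2) (h : St D j B) (hc : C2 D w) {A : Finset (Fin T.n)}
    (h1 : ∀ i, (pm T w * T.π) i ∈ A ↔ i ∈ A) (h2 : Even A.card) {i l : Fin T.n} (hi : i ∈ A) (e : T.blk i = T.blk l) :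
    l ∈ A := by
  by_contra hl
  obtain ⟨x, hx⟩ := (T.img fun m => (if m ∈ A then 1 else 0) - if m = i then (A.card : ℤ) else 0).2 (by simp only [_root_.Finset.sum_sub_distrib, _root_.Finset.sum_ite_mem, _root_.Finset.univ_inter, _root_.Finset.sum_const, _root_.Int.nsmul_eq_mul, _root_.mul_one, _root_.Finset.sum_ite_eq', _root_.Finset.mem_univ, ↓ _root_.reduceIte, _root_.sub_self])
  have hq : Odd ((p : ℤ) ^ j * T.ε) := (Odd.pow (by exact_mod_cast (Fact.out : p.Prime).odd_of_ne_two hp)).mul (by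
    rcases Int.units_eq_one_or T.ε with e | e <;> simp [e])
  obtain ⟨c, hc'⟩ := h2
  obtain ⟨q, hq⟩ := hq
  have h3 : ∀ m, (2 : ℤ) ∣ (T.J *ᵥ ((D.Wm w * D.Mx - 1) *ᵥ x)) m := fun m => by
    rw [← apply_inv_self (pm T w * T.π) m, sub_mulVec, mulVec_sub, one_mulVec, h.WM, smul_mulVec, mulVec_smul, Pi.sub_apply,
      Pi.smul_apply, act_tw, smul_eq_mul, ← mul_assoc, hq, hx, hc']
    simp only [h1, add_mul, mul_assoc]
    generalize q * _ = z
    split_ifs <;> (clear * -; solve | lia | omega)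
  choose y hy using h3
  obtain ⟨z, hz⟩ := (T.img y).2 (mul_left_cancel₀ two_ne_zero (by
    rw [Finset.mul_sum, ← Finset.sum_congr rfl fun m _ => hy m, (T.img _).1 ⟨_, rfl⟩, mul_zero]))
  have h4 : (D.Wm w * D.Mx - 1) *ᵥ x = (2 : ℤ) • z := T.inj' (funext fun m => by rw [hy, mulVec_smul, hz]; rfl)
  have h5 := hc x (fun m => ⟨z m, congrFun h4 m⟩) _ (T.rt_mem (fun e : i = l => hl (e ▸ hi)) e)
  rw [T.dot, hx, hc'] at h5
  simp only [hi, hl, if_true, if_false, show l ≠ i from fun e => hl (e ▸ hi)] at h5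
  omega

/-- at most two cycles on every block -/
theorem two (hp : p ≠ 2) (h : St D j B) (hc : C2 D w) {i l m : Fin T.n} (e : T.blk i = T.blk l) (e' : T.blk i = T.blk m) :
    (pm T w * T.π).SameCycle i l ∨ (pm T w * T.π).SameCycle i m ∨ (pm T w * T.π).SameCycle l m := by
  classical
  by_contra h0
  simp only [not_or] at h0
  have key : ∀ a b c : Fin T.n, T.blk a = T.blk c → ¬ (pm T w * T.π).SameCycle a b → ¬ (pm T w * T.π).SameCycle a c →
      ¬ (pm T w * T.π).SameCycle b c → ¬ Even ((Finset.univ.filter ((pm T w * T.π).SameCycle a)).card +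
      (Finset.univ.filter ((pm T w * T.π).SameCycle b)).card) := fun a b c e h1 h2 h3 h4 => by
    rw [← Finset.card_union_of_disjoint (Finset.disjoint_filter.2 fun x _ a b => h1 (a.trans b.symm))] at h4
    simpa only [h2, h3, _root_.Finset.mem_union, _root_.Finset.mem_filter, _root_.Finset.mem_univ, _root_.and_false, _root_.or_self] using even_set T hp h hc (by simp [-Perm.coe_mul]) h4 (i := a) (by simp only [Perm.SameCycle.rfl, _root_.Finset.mem_union, _root_.Finset.mem_filter, _root_.Finset.mem_univ, _root_.and_self, _root_.true_and, _root_.true_or]) e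
  have h1 := key i l m e' h0.1 h0.2.1 h0.2.2
  have h2 := key i m l e h0.2.1 h0.1 fun h => h0.2.2 h.symm
  have h3 := key l m i e.symm h0.2.2 (fun h => h0.1 h.symm) fun h => h0.2.1 h.symm
  simp only [Nat.even_iff] at h1 h2 h3
  omega

variable [Fintype ↥(GF F G)] {f : Fr D} (R : Reg D f j B)

attribute [local instance] Reg.gY Reg.fN Reg.dN Reg.fin

theorem J_inj {x : Vec D.R} (hx : x ∈ X.Qv (rts D)) (h : R.J *ᵥ x = 0) : x = 0 :=
  X.Qv.eq_zero hx fun a ha => by rw [← R.e₁ ⟨a, ha⟩, ← dotProduct_mulVec, h, dotProduct_zero]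

theorem J_cancel (h : R.J * D.Wm u = R.J * D.Wm v) : u = v := D.Wm_injective (Matrix.ext_of_mulVec_single fun i =>
  sub_eq_zero.1 (J_inj R (by
    simpa using (X.Qv _).sub_mem (X.Qv.sub (Wm_mem u) (Pi.single i 1)) (X.Qv.sub (Wm_mem v) (Pi.single i 1))) (by
    rw [mulVec_sub, mulVec_mulVec, mulVec_mulVec, h, sub_self])))

theorem ω_Fw (h : St D j B) (v : D.W) : R.D'.Fw (R.ω v) = R.ω (D.Fw v) := by
  obtain ⟨u, hu⟩ := R.ω.surjective (R.D'.Fw (R.ω v))
  obtain ⟨n, hn, hB⟩ := h.fin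
  have h1 : R.D'.Mx * R.J = R.J * D.Mx := by rw [R.st.mx, h.mx, Matrix.smul_mul, Matrix.mul_smul, R.hB]
  have h2 : R.J * D.Wm u * D.Mx = R.J * D.Wm (D.Fw v) * D.Mx := by
    rw [← R.hω, Matrix.mul_assoc, ← h1, ← Matrix.mul_assoc, hu, ← R.D'.Mx_Wm, Matrix.mul_assoc, R.hω, ← Matrix.mul_assoc, h1,
      Matrix.mul_assoc, D.Mx_Wm, Matrix.mul_assoc]
  rw [h.mx, Matrix.mul_smul, Matrix.mul_smul] at h2
  have h3 := congrArg (fun X : Matrix R.D'.R D.R ℤ => X * B ^ (n - 1)) ((smul_right_injective (Matrix R.D'.R D.R ℤ) h.q_ne h2 :))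
  simp only [Matrix.mul_assoc, ← pow_succ', Nat.sub_add_cancel hn, hB, Matrix.mul_one] at h3
  rw [← hu, J_cancel R h3]

theorem tc_ω (h : St D j B) {w' : D.W} : Tc R.D' (R.ω v) (R.ω w) (R.ω w') ↔ Tc D v w w' := by
  rw [Tc, Tc, ω_Fw R h, ← map_mul, ← map_mul, R.ω.apply_eq_iff_eq]

theorem Wl_ω {lam : Vec D.R} : R.ω u ∈ Wl R.D' (R.J *ᵥ lam) ↔ u ∈ Wl D lam := by
  show _ *ᵥ _ = _ ↔ _ *ᵥ _ = _
  rw [mulVec_mulVec, R.hω, ← mulVec_mulVec]
  exact ⟨fun h => sub_eq_zero.1 (J_inj R (X.Qv.sub (Wm_mem u) lam) (by rw [mulVec_sub, h, sub_self])), fun h => by rw [h]⟩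

theorem rfm_ω {a : rts D} (h : R.D'.Wm (R.ω u) = rfm (R.e a).1) : D.Wm u = rfm a.1 := by
  obtain ⟨v, hv⟩ := mem_WW.1 (rfm_mem a.2)
  rw [← hv, J_cancel R (u := u) (v := v) (Matrix.ext_of_mulVec_single fun i => ?_)]
  rw [← R.hω, h, hv, ← mulVec_mulVec, ← mulVec_mulVec, rfm_vec, rfm_vec, mulVec_sub, mulVec_smul, dotProduct_mulVec, R.e₁, R.e₂]

end Fin

end Cfsg.Agent.HZ.L.T3

private theorem dce_29e6fcdd7e67 : _root_.True := by
  try have : _root_.True := by simp only [_root_.Cfsg.Agent.HZ.L.T3.Fin.pm.congr_simp]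
  exact _root_.True.intro
end

-- part: HZ/L/T3/Fin
section
prune_inst 0x247054013022020000000002b2004320100001921040000040420204090100200d40a1010280001008200e880005000002100060400000000a0000000004000088681000f1890004040009802006010000000000020000000000000000000000004010000
set_option linter.all false
open scoped Cfsg.Agent.FastGrp

/-!
# HZ/L/T3: the case of a central defect group, final contradiction (helper34)
-/

set_option autoImplicit false
set_option linter.unusedSectionVars false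
set_option maxHeartbeats 200000

namespace Cfsg.Agent.HZ.L.T3

open Cfsg Cfsg.Agent.DL Cfsg.Agent.DL.PP Matrix Cfsg.Agent.KZ.Lie Equiv SL MulAction

variable {p : ℕ} [Fact p.Prime] {k : Type} [Field k] [CharP k p] [IsAlgClosed k] {Y : Type} [Group Y] {N : Type}
  [Fintype N] [DecidableEq N] {ρ : Y →* GL N k} {F : MulAut Y} {G : Subgroup Y} {D : Datum p ρ F G}
  {j : ℕ} {B : Mat D.R} {u v w : D.W} [Fintype ↥(GF F G)] {f : Fr D} (T : TA (rts D) B) (R : Reg D f j B)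

attribute [local instance] Reg.gY Reg.fN Reg.dN Reg.fin

namespace Fin

theorem three {A : Mat D.R} {a : Lb (Fin T.n)} (hc : L.ht (rts D) A (pl T.J a)) {n : ℕ} (hn : 4 ∣ n)
    (i : Fin T.n) : ∃ l m, (T.blk l, (a ^ n) l) = (T.blk i, (a ^ n) i) ∧ (T.blk m, (a ^ n) m) = (T.blk i, (a ^ n) i) ∧
      l ≠ i ∧ m ≠ i ∧ l ≠ m := by
  obtain ⟨hq, i₀, j₀, hb, d, hd⟩ := TA.ht_iff.1 hc
  obtain ⟨π, z, h1, h2, rfl⟩ := TA.qi_iff.1 hq j₀ i₀ hb.symm
  obtain ⟨n, rfl⟩ := hn
  rw [h2, mul_inv_cancel_right] at hd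
  have h3 : ∀ t l, T.blk ((π ^ t) l) = T.blk l ∧ a ((π ^ t) l) = z ^ t * a l := fun t l => by
    induction t with
    | zero => simp
    | succ t ih => rw [pow_succ', Perm.mul_apply, h1, h2, ih.2, pow_succ', mul_assoc]; exact ⟨ih.1, rfl⟩
  have h4 : 0 < orderOf z := (isOfFinOrder_iff_pow_eq_one.2 ⟨_, orderOf_pos π, by
    simpa only [pow_orderOf_eq_one, _root_.Equiv.Perm.coe_one, _root_.id_eq, _root_.mul_eq_right] using (h3 (orderOf π) i).2.symm⟩).orderOf_pos
  have h5 : ∀ t, 0 < t → t < 4 → z ^ (t * d) ≠ 1 := fun t a b =>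
    pow_ne_one_of_lt_orderOf (by rintro e; rw [hd] at h4; simp at e h4; omega) (by rw [hd] at h4 ⊢; nlinarith only [h4, b])
  have h6 : ∀ t, (T.blk ((π ^ (t * d)) i), (a ^ (4 * n)) ((π ^ (t * d)) i)) = (T.blk i, (a ^ (4 * n)) i) := fun t => by
    rw [(h3 _ _).1, Pi.pow_apply, Pi.pow_apply, (h3 _ _).2, mul_pow, ← pow_mul,
      show t * d * (4 * n) = 4 * d * (t * n) by ring, pow_mul, ← hd, pow_orderOf_eq_one, one_pow, one_mul]
  refine ⟨_, _, h6 1, h6 2, fun e => h5 1 one_pos (by omega) ?_, fun e => h5 2 two_pos (by omega) ?_,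
    fun e => h5 1 one_pos (by omega) ?_⟩
  · exact mul_eq_right.1 ((h3 (1 * d) i).2.symm.trans (congrArg a e))
  · exact mul_eq_right.1 ((h3 (2 * d) i).2.symm.trans (congrArg a e))
  · have := (h3 (1 * d) i).2.symm.trans ((congrArg a e).trans (h3 (2 * d) i).2)
    rw [mul_left_inj, two_mul, pow_add, one_mul, left_eq_mul] at this
    rwa [one_mul]

variable {s : Lbl R.D'} {b : Lb (Fin T.n)} (e : pl R.J s = pl T.J b)
include e

theorem chr_e {a : rts D} {i l : Fin T.n} (h : T.J *ᵥ a.1.2 = rt i l) : chr (R.e a).1.2 s = b i * (b l)⁻¹ := by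
  rw [R.e₂, ← chr_pl, e, T.inj' (h.trans (T.J_co i l).symm), T.chr_co]

theorem kappa (hs : Fx R.D' (R.ω w) s) (i l : Fin T.n) (h0 : (T.blk i, b i) = (T.blk l, b l)) :
    (T.blk ((pm T w * T.π) i), b ((pm T w * T.π) i)) = (T.blk ((pm T w * T.π) l), b ((pm T w * T.π) l)) := by
  have h1 : ∀ i l, T.blk i = T.blk l → T.blk ((pm T w * T.π) i) = T.blk ((pm T w * T.π) l) := fun i l e => by
    rw [Perm.mul_apply, Perm.mul_apply, blk_pm, blk_pm, T.hπ i l e]
  have h2 : ∀ i l, b ((pm T w * T.π) i) = b ((pm T w * T.π) l) → b i = b l := fun i l e' => by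
    have h3 : (D.Wm w * B) *ᵥ T.co i l = (T.ε : ℤ) • T.co ((pm T w * T.π) i) ((pm T w * T.π) l) := T.inj' (funext fun m => by
      rw [← apply_inv_self (pm T w * T.π) m, act_tw, mulVec_smul, T.J_co, T.J_co, Pi.smul_apply, rt_apply, rt_apply]
      simp only [EmbeddingLike.apply_eq_iff_eq, smul_eq_mul])
    have h4 := hs (R.J *ᵥ T.co i l)
    rw [R.st.WM, smul_mulVec, mulVec_mulVec, Matrix.mul_assoc, R.hB, ← Matrix.mul_assoc, R.hω, Matrix.mul_assoc,
      ← mulVec_mulVec, h3, chr_zsmul, ← chr_pl, ← chr_pl, e, chr_zsmul, T.chr_co, T.chr_co, e', mul_inv_cancel, _root_.one_zpow,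
      _root_.one_zpow] at h4
    exact mul_inv_eq_one.1 h4.symm
  refine (X.TA.blk_iff (f := fun i => (T.blk i, b i)) (γ := (pm T w * T.π)⁻¹) (fun i l h => ?_) _ _).1 (by simpa only [_root_.mul_inv_rev, _root_.Equiv.Perm.coe_mul, _root_.Function.comp_apply, _root_.Equiv.Perm.coe_inv, _root_.Equiv.symm_apply_apply, _root_.Prod.mk.injEq] using h0)
  rw [← apply_inv_self (pm T w * T.π) i, ← apply_inv_self (pm T w * T.π) l, Prod.mk.injEq] at h
  exact Prod.ext ((X.TA.blk_iff h1 _ _).1 h.1) (h2 _ _ h.2)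

theorem rel_le (hs : Fo p s) (h : _root_.Cfsg.Agent.DL.PP.Rel R.D' (R.ω v) s s) (i : Fin T.n) : b (pm T v i) = b i := by
  have := X.stab_le (cz_of R.cz) hs (H := ((Fin.CA b 1).comap (pm T)).comap R.ω.symm.toMonoidHom) (fun a ha h1 => by
    obtain ⟨a₀, h2⟩ := R.e.surjective ⟨_, rt_mem ha⟩
    obtain ⟨i, l, -, -, h3, h4⟩ := (T.mem _).1 a₀.2
    have h5 := chr_e T R e h4
    rw [h2, h1] at h5
    have h6 : pm T (R.ω.symm (R.D'.rf a)) = _root_.Equiv.swap i l := act_unique T (act_pm T _) (by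
      rw [rfm_ω R (a := a₀) (by rw [R.ω.apply_symm_apply, h2, rfm_eq ha])]; exact T.act_rfm h3 h4)
    exact ⟨fun m => (congrArg (fun π : Perm _ => b (π m)) h6).trans (apply_swap_eq_self (mul_inv_eq_one.1 h5.symm) m),
      by rw [mul_one, one_mul]⟩) h
  simpa using this.1 i

variable {lam : Vec D.R} {β : Type} {g : Fin T.n → β} (hl : ∀ i l, (T.J *ᵥ lam) i = (T.J *ᵥ lam) l ↔ g i = g l)
include hl

theorem cen_lev (hg : ∀ i l, g i = g l → b i = b l) : X.Cen (lev (rts R.D') (R.J *ᵥ lam)) s := fun a ha => by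
  obtain ⟨a₀, h2⟩ := R.e.surjective ⟨_, ha.1⟩
  obtain ⟨i, l, -, -, h3, h4⟩ := (T.mem _).1 a₀.2
  have h5 := chr_e T R e h4
  have h6 := ha.2
  rw [show a = (R.e a₀).1 by rw [h2]] at h6 ⊢
  rw [dotProduct_mulVec, R.e₁, h3, T.dot, sub_eq_zero, hl] at h6
  rw [h5, hg i l h6, mul_inv_cancel]

omit e in
theorem nm_lev (hg : ∀ i l, g i = g l → g ((pm T w * T.π) i) = g ((pm T w * T.π) l)) :
    Nm (R.D'.Wm (R.ω w) * R.B') (lev (rts R.D') (R.J *ᵥ lam)) := fun a ha => by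
  obtain ⟨a', h1, h2, h3⟩ := R.st.nm (R.ω w) a ha.1
  refine ⟨a', ⟨h1, ?_⟩, h2, h3⟩
  obtain ⟨a₀, h4⟩ := R.e.surjective ⟨_, h1⟩
  obtain ⟨i, l, -, -, h5, -⟩ := (T.mem _).1 a₀.2
  have h6 := ha.2
  rw [show a' = (R.e a₀).1 by rw [h4]] at h3 ⊢
  rw [← h3, ← dotProduct_mulVec, mulVec_mulVec, Matrix.mul_assoc, R.hB, ← Matrix.mul_assoc, R.hω, Matrix.mul_assoc,
    ← mulVec_mulVec, dotProduct_mulVec, R.e₁, h5, T.dot, ← apply_inv_self (pm T w * T.π) i, ← apply_inv_self (pm T w * T.π) l,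
    act_tw, act_tw, ← mul_sub, mul_eq_zero, or_iff_right T.ε.ne_zero, sub_eq_zero, hl] at h6
  rw [dotProduct_mulVec, R.e₁, h5, T.dot, sub_eq_zero, hl]
  simpa only [apply_inv_self] using hg _ _ h6

end Fin

open T3.Fin in
include T in
/-- **the final contradiction** -/
theorem fin (hp : p ≠ 2) (h : St D j B) {A : Mat D.R} {c : Lbl D} (hc : L.ht (rts D) A c) {n : ℕ} (hn : 4 ∣ n) {s : Lbl R.D'}
    (e : pl R.J s = c ^ n) {ψ : GF R.F' R.G' → ℂ} (hψ : IsIrrCharacter _ ψ) (hs : Has R.f' ψ (R.ω w) s)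
    (H : ∀ w₁, Has R.f' ψ (R.ω w₁) s → C2 D w₁) : False := by
  classical
  obtain ⟨a, rfl⟩ := T.lift c
  have h3 := three T hc hn
  replace e : pl R.J s = pl T.J (a ^ n) := e.trans (funext fun i => (map_pow _ _ _).symm)
  obtain ⟨-, i₀, -⟩ := TA.ht_iff.1 hc
  have : Nonempty (Fin T.n) := ⟨i₀⟩
  generalize a ^ n = b at h3 e
  obtain ⟨w, hw, hm⟩ := Set.exists_min_image {w | Has R.f' ψ (R.ω w) s}
    (fun w => {x : Fin T.n × Fin T.n | (pm T w * T.π).SameCycle x.1 x.2}.ncard) (Set.toFinite _) ⟨w, hs⟩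
  have hκ := T3.Fin.kappa T R e hw.fx
  have hlt := card_lt hκ (fun i l m a b => two T hp h (H w hw) (congrArg Prod.fst a) (congrArg Prod.fst b)) h3
  set τ := pm T w * T.π with hτ
  let g : Fin T.n → (ℕ × ℂˣ) × Set (Fin T.n) := fun i => ((T.blk i, b i), {x | τ.SameCycle i x})
  have hg : ∀ i l, g i = g l ↔ (T.blk i, b i) = (T.blk l, b l) ∧ τ.SameCycle i l := fun i l => Prod.ext_iff.trans
    (and_congr_right fun _ => ⟨fun h => Perm.SameCycle.symm ((Set.ext_iff.1 h i).1 Perm.SameCycle.rfl),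
      fun h => Set.ext fun x => ⟨h.symm.trans, h.trans⟩⟩)
  have hg' : ∀ i l, g i = g l → g (τ i) = g (τ l) := fun i l h => by
    rw [hg] at h ⊢; exact ⟨hκ _ _ h.1, by simpa using h.2⟩
  obtain ⟨lam, hl⟩ := _root_.Cfsg.Agent.HZ.L.T3.Fin.exists_lam T g
  have hcen := cen_lev T R e hl fun i l h => congrArg Prod.snd ((hg i l).1 h).1
  obtain ⟨z, hz⟩ := X.levi_int R.f' R.st (nm_lev T R hl hg') hw.fx hcen hψ
  have hW : ∀ u, R.ω u ∈ Wl R.D' (R.J *ᵥ lam) ↔ ∀ i, g (pm T u i) = g i := fun u => by simp only [Wl_ω, mem_Wl T, hl]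
  set U := Wl R.D' (R.J *ᵥ lam)
  let A : MulAction U R.D'.W :=
    { smul := fun v x => v * x * (R.D'.Fw v)⁻¹
      one_smul := fun x => by show (1 : R.D'.W) * x * (R.D'.Fw 1)⁻¹ = x; simp only [_root_.one_mul, _root_.map_one, _root_.inv_one, _root_.mul_one]
      mul_smul := fun a b x => by
        show (a * b : R.D'.W) * x * (R.D'.Fw (a * b))⁻¹ = a * (b * x * (R.D'.Fw b)⁻¹) * (R.D'.Fw a)⁻¹
        rw [map_mul]; group }
  have ht : ∀ (v : U) (x x' : R.D'.W), v • x = x' ↔ Tc R.D' v x x' := fun v x x' => mul_inv_eq_iff_eq_mul.trans eq_comm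
  have h1 : ∀ u : U, LV.Lab.yv R.f' ψ s (u * R.ω w) = if (u * R.ω w : R.D'.W) ∈ orbit U (R.ω w) then
      LV.Lab.yv R.f' ψ s (R.ω w) else 0 := fun ⟨u, hu⟩ => by
    split_ifs with h2
    · obtain ⟨v, hv⟩ := h2
      exact congrArg (classInner ψ) (RW_conj R.f' ((ht v _ _).1 hv) (tl_of_cor hcen (mem_WW_lev.2 ⟨v, v.2, rfl⟩))).symm
    obtain ⟨u, rfl⟩ := R.ω.surjective u
    refine by_contra fun h4 => h2 ?_
    have h5 : ∀ i, g ((pm T (u * w) * T.π) i) = g (τ i) := fun i => by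
      rw [map_mul, mul_assoc, Perm.mul_apply, (hW u).1 hu]
    have h6 : ∀ i l, (pm T (u * w) * T.π).SameCycle i l → τ.SameCycle i l := fun i l h => by
      obtain ⟨t, -, rfl⟩ := h.exists_pow_eq'
      induction t with
      | zero => exact .rfl
      | succ t ih =>
        rw [pow_succ', Perm.mul_apply]
        exact (ih ⟨t, rfl⟩).trans (((hg _ _).1 (h5 _)).2.trans (by simp only [Perm.SameCycle.rfl, _root_.map_mul, _root_.Equiv.Perm.sameCycle_apply_left])).symm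
    have h7 := Set.eq_of_subset_of_ncard_le (fun x hx => h6 x.1 x.2 hx) (hm (u * w) (by rw [Set.mem_ofPred_eq, map_mul]; exact h4))
    obtain ⟨σ, h8, h9⟩ := X.TA.exists_conj (f := g) (γ := τ) (γ' := pm T (u * w) * T.π)
      (fun i l h => (hg' i l h).trans (h5 l).symm) (fun i l h => ((hg i l).1 h).2)
      fun i l h => (Set.ext_iff.1 h7 (i, l)).2 ((hg i l).1 h).2
    obtain ⟨v, rfl⟩ := pm_sur T (π := σ) fun i => congrArg (·.1.1) (h8 i)
    exact ⟨⟨R.ω v, (hW v).2 h8⟩, (ht _ _ _).2 (by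
      show Tc _ (R.ω v) _ (R.ω u * _); rw [← map_mul]; exact (tc_ω R h).2 ((tc_iff T h).2 h9))⟩
  have h2 : Nat.card {u : U // (u * R.ω w : R.D'.W) ∈ orbit U (R.ω w)} = Nat.card (orbit U (R.ω w)) :=
    Nat.card_congr (Equiv.ofBijective (fun u => ⟨_, u.2⟩) ⟨fun a b h => Subtype.ext (Subtype.ext
      (mul_right_cancel (congrArg Subtype.val h))), fun ⟨x, ⟨v, hv⟩, hx⟩ => by
        obtain ⟨v, rfl⟩ := R.ω.surjective v
        obtain ⟨x, rfl⟩ := R.ω.surjective x
        have h4 := (tc_iff T h).1 ((tc_ω R h).1 ((ht _ _ _).1 hx))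
        refine ⟨⟨⟨R.ω (x * w⁻¹), (hW _).2 fun i => ?_⟩, by simpa only [_root_.map_mul, _root_.map_inv, _root_.inv_mul_cancel_right] using ⟨_, hx⟩⟩, Subtype.ext (by simp)⟩
        have h5 : pm T (x * w⁻¹) = pm T v * τ * (pm T v)⁻¹ * τ⁻¹ := by rw [h4, hτ, map_mul, map_inv]; group
        rw [h5, Perm.mul_apply, Perm.mul_apply, Perm.mul_apply, (hW v).1 hv, hg' _ (τ⁻¹ i), apply_inv_self]
        rw [← (hW v).1 hv, apply_inv_self]⟩)
  have := Fintype.ofFinite U
  obtain ⟨m, hm'⟩ := LV.Blk.inner_int (Uni.gen_of_irr hψ) (RW_gen R.f' (R.ω w) s)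
  rw [finsum_eq_sum_of_fintype, Finset.sum_congr rfl fun u _ => h1 u, ← Finset.sum_filter, Finset.sum_const, nsmul_eq_mul,
    ← Nat.subtype_card _ (fun _ => by rw [Finset.mem_filter, and_iff_right (Finset.mem_univ _)]), h2,
    ← (stabilizer U (R.ω w)).index_mul_card, index_stabilizer, Nat.cast_mul, mul_assoc, LV.Lab.yv, hm'] at hz
  have h4 : m = Nat.card (stabilizer U (R.ω w)) * z := by
    exact_mod_cast mul_left_cancel₀ (Nat.cast_ne_zero.2 (@Nat.card_pos (orbit U (R.ω w)) ⟨⟨_, mem_orbit_self _⟩⟩ _).ne') hz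
  have h5 := LV.Sm.sq_le (χ := ⟨ψ, hψ⟩) (RW_gen R.f' (R.ω w) s) (RW_ip R.f' hw.fx hw.fx) hm'
  have h6 : Nat.card {v // Tc R.D' v (R.ω w) (R.ω w) ∧ _root_.Cfsg.Agent.DL.PP.Rel R.D' v s s} ≤ Nat.card (CA (fun i => (T.blk i, b i)) τ) :=
    Nat.card_le_card_of_injective (fun v => ⟨pm T (R.ω.symm v.1), fun i => Prod.ext (blk_pm T _ i)
      (rel_le T R e (fo_of_fx hw.fx) (by rw [R.ω.apply_symm_apply]; exact v.2.2) i),
      (tc_iff T h).1 ((tc_ω R h).1 (by rw [R.ω.apply_symm_apply]; exact v.2.1))⟩)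
      fun a b h => Subtype.ext (R.ω.symm.injective (pm_inj T ((congrArg Subtype.val h :))))
  have h7 : Nat.card (CL (fun i => (T.blk i, b i)) τ) ≤ Nat.card (stabilizer U (R.ω w)) := by
    choose v hv using fun x : CL (fun i => (T.blk i, b i)) τ => pm_sur T (π := x.1) fun i => congrArg Prod.fst (x.2.1.1 i)
    exact Nat.card_le_card_of_injective (fun x => ⟨⟨R.ω (v x), (hW _).2 fun i => (hg _ _).2 (hv x ▸ ⟨x.2.1.1 i, (x.2.2 i).symm⟩)⟩,
      (ht _ _ _).2 ((tc_ω R h).2 (((tc_iff T h).2 (hv x ▸ x.2.1.2) :)))⟩) fun x y h => Subtype.ext (by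
        rw [← hv x, ← hv y, R.ω.injective (congrArg (·.1.1) h)])
  have h8 : z ≠ 0 := fun e => hw (by rw [hm', h4, e, mul_zero, Int.cast_zero])
  have h9 : 1 ≤ z ^ 2 := sq_pos_of_ne_zero h8
  rw [h4, mul_pow] at h5
  have h10 := (Nat.mul_le_mul h7 h7).trans_lt' (h6.trans_lt hlt)
  zify at h10
  nlinarith only [h5, h9, h10]

end Cfsg.Agent.HZ.L.T3
end
end
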